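import Mathlib

/-!
# A 3-subgroup of order `3^5` of the alternating group of degree 12
-/

set_option autoImplicit false

namespace Cfsg.Agent.H342.A12Three

open Subgroup Equiv
open scoped commutatorElement

/-- a three-cycle -/
def cyc (a b c : Fin 12) : Perm (Fin 12) := swap a b * swap b c

def p1 : Perm (Fin 12) := cyc 0 1 2
def p2 : Perm (Fin 12) := cyc 3 4 5
def p3 : Perm (Fin 12) := cyc 6 7 8
def p4 : Perm (Fin 12) := cyc 9 10 11
/-- permutes the first three cycles -/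
def ps : Perm (Fin 12) := cyc 0 3 6 * cyc 1 4 7 * cyc 2 5 8
/-- a seven-cycle -/
def p7 : Perm (Fin 12) := cyc 0 1 2 * cyc 2 3 4 * cyc 4 5 6
/-- conjugates `x₁ x₂ x₃` into `x₁ x₂⁻¹ x₄` -/
def pg : Perm (Fin 12) := swap 4 5 * (swap 6 9 * (swap 7 10 * swap 8 11))

theorem sign1 : p1 ∈ alternatingGroup (Fin 12) := by rw [Equiv.Perm.mem_alternatingGroup]; decide +kernel
theorem sign2 : p2 ∈ alternatingGroup (Fin 12) := by rw [Equiv.Perm.mem_alternatingGroup]; decide +kernel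
theorem sign3 : p3 ∈ alternatingGroup (Fin 12) := by rw [Equiv.Perm.mem_alternatingGroup]; decide +kernel
theorem sign4 : p4 ∈ alternatingGroup (Fin 12) := by rw [Equiv.Perm.mem_alternatingGroup]; decide +kernel
theorem signs : ps ∈ alternatingGroup (Fin 12) := by rw [Equiv.Perm.mem_alternatingGroup]; decide +kernel
theorem sign7 : p7 ∈ alternatingGroup (Fin 12) := by rw [Equiv.Perm.mem_alternatingGroup]; decide +kernel
theorem signg : pg ∈ alternatingGroup (Fin 12) := by rw [Equiv.Perm.mem_alternatingGroup]; decide +kernel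

abbrev A : Type := alternatingGroup (Fin 12)

def x1 : A := ⟨p1, sign1⟩
def x2 : A := ⟨p2, sign2⟩
def x3 : A := ⟨p3, sign3⟩
def x4 : A := ⟨p4, sign4⟩
def s : A := ⟨ps, signs⟩
def t7 : A := ⟨p7, sign7⟩
def g0 : A := ⟨pg, signg⟩

theorem x1_cube : x1 ^ 3 = 1 := Subtype.ext (by decide +kernel : p1 ^ 3 = 1)
theorem x2_cube : x2 ^ 3 = 1 := Subtype.ext (by decide +kernel : p2 ^ 3 = 1)
theorem x3_cube : x3 ^ 3 = 1 := Subtype.ext (by decide +kernel : p3 ^ 3 = 1)
theorem x4_cube : x4 ^ 3 = 1 := Subtype.ext (by decide +kernel : p4 ^ 3 = 1)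
theorem s_cube : s ^ 3 = 1 := Subtype.ext (by decide +kernel : ps ^ 3 = 1)
theorem t7_pow : t7 ^ 7 = 1 := Subtype.ext (by decide +kernel : p7 ^ 7 = 1)
theorem t7_ne : t7 ≠ 1 := fun h => (by decide +kernel : p7 ≠ 1) (congrArg Subtype.val h)
theorem x4_ne : x4 ≠ 1 := fun h => (by decide +kernel : p4 ≠ 1) (congrArg Subtype.val h)
theorem c12 : x1 * x2 = x2 * x1 := Subtype.ext (by decide +kernel : p1 * p2 = p2 * p1)
theorem c13 : x1 * x3 = x3 * x1 := Subtype.ext (by decide +kernel : p1 * p3 = p3 * p1)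
theorem c14 : x1 * x4 = x4 * x1 := Subtype.ext (by decide +kernel : p1 * p4 = p4 * p1)
theorem c23 : x2 * x3 = x3 * x2 := Subtype.ext (by decide +kernel : p2 * p3 = p3 * p2)
theorem c24 : x2 * x4 = x4 * x2 := Subtype.ext (by decide +kernel : p2 * p4 = p4 * p2)
theorem c34 : x3 * x4 = x4 * x3 := Subtype.ext (by decide +kernel : p3 * p4 = p4 * p3)
theorem cs4 : s * x4 = x4 * s := Subtype.ext (by decide +kernel : ps * p4 = p4 * ps)
theorem s1 : s * x1 * s⁻¹ = x2 := Subtype.ext (by decide +kernel : ps * p1 * ps⁻¹ = p2)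
theorem s2 : s * x2 * s⁻¹ = x3 := Subtype.ext (by decide +kernel : ps * p2 * ps⁻¹ = p3)
theorem s3 : s * x3 * s⁻¹ = x1 := Subtype.ext (by decide +kernel : ps * p3 * ps⁻¹ = p1)
theorem c74 : t7 * x4 = x4 * t7 := Subtype.ext (by decide +kernel : p7 * p4 = p4 * p7)
theorem s_ne : s * x1 ≠ x1 * s := fun h => (by decide +kernel : ps * p1 ≠ p1 * ps) (congrArg Subtype.val h)

/-- the central element -/
def y0 : A := x1 * x2 * x3
/-- the other element of type `3³` -/
def w0 : A := x1 * x2⁻¹ * x4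

theorem y0_ne : y0 ≠ 1 := fun h => (by decide +kernel : p1 * p2 * p3 ≠ 1) (congrArg Subtype.val h)
theorem g0_conj : g0 * y0 * g0⁻¹ = w0 :=
  Subtype.ext (by decide +kernel : pg * (p1 * p2 * p3) * pg⁻¹ = p1 * p2⁻¹ * p4)
theorem w0_s : w0 * s ≠ s * w0 := by
  have h1 : (p1 * p2⁻¹ * p4 * ps) 0 ≠ (ps * (p1 * p2⁻¹ * p4)) 0 := by decide +kernel
  intro h
  have h2 := congrArg Subtype.val h
  simp only [w0, x1, x2, x4, s, Subgroup.coe_mul, Subgroup.coe_inv] at h2
  exact h1 (by rw [h2])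
theorem y0_comm : y0 = s * (x2 * x2 * x3) * s⁻¹ * (x2 * x2 * x3)⁻¹ := by
  have h : p1 * p2 * p3 = ps * (p2 * p2 * p3) * ps⁻¹ * (p2 * p2 * p3)⁻¹ := by decide +kernel
  apply Subtype.ext
  simp only [y0, x1, x2, x3, s, Subgroup.coe_mul, Subgroup.coe_inv]
  exact h
theorem u0_comm : x1 * x2⁻¹ = s * (x2 * x3) * s⁻¹ * (x2 * x3)⁻¹ :=
  Subtype.ext (by decide +kernel : p1 * p2⁻¹ = ps * (p2 * p3) * ps⁻¹ * (p2 * p3)⁻¹)
theorem y0_cube : y0 ^ 3 = 1 := Subtype.ext (by decide +kernel : (p1 * p2 * p3) ^ 3 = 1)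

/-- the generators -/
def gens : Set A := {x1, x2, x3, x4, s}

theorem y0_comm_gens : ∀ x ∈ gens, x * y0 = y0 * x := by
  rintro x (rfl | rfl | rfl | rfl | rfl)
  · exact Subtype.ext (by decide +kernel : p1 * (p1 * p2 * p3) = p1 * p2 * p3 * p1)
  · exact Subtype.ext (by decide +kernel : p2 * (p1 * p2 * p3) = p1 * p2 * p3 * p2)
  · exact Subtype.ext (by decide +kernel : p3 * (p1 * p2 * p3) = p1 * p2 * p3 * p3)
  · exact Subtype.ext (by decide +kernel : p4 * (p1 * p2 * p3) = p1 * p2 * p3 * p4)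
  · exact Subtype.ext (by decide +kernel : ps * (p1 * p2 * p3) = p1 * p2 * p3 * ps)

/-- the elementary abelian part -/
def E0 : Subgroup A := closure {x1, x2, x3, x4}

/-- the 3-subgroup -/
def P0 : Subgroup A := closure gens

theorem E0_comm : ∀ a ∈ E0, ∀ b ∈ E0, a * b = b * a := by
  have h1 : ∀ a ∈ ({x1, x2, x3, x4} : Set A), ∀ b ∈ ({x1, x2, x3, x4} : Set A), a * b = b * a := by
    rintro a (rfl | rfl | rfl | rfl) b (rfl | rfl | rfl | rfl)
    all_goals first | rfl | exact c12 | exact c13 | exact c14 | exact c23 | exact c24 | exact c34 | exact c12.symm |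
      exact c13.symm | exact c14.symm | exact c23.symm | exact c24.symm | exact c34.symm
  intro a ha b hb
  have := (Subgroup.isMulCommutative_closure h1).is_comm.comm ⟨a, ha⟩ ⟨b, hb⟩
  exact congrArg Subtype.val this

theorem E0_cube : ∀ a ∈ E0, a ^ 3 = 1 := by
  intro a ha
  induction ha using Subgroup.closure_induction with
  | mem a ha =>
    rcases ha with rfl | rfl | rfl | rfl
    · exact x1_cube
    · exact x2_cube
    · exact x3_cube
    · exact x4_cube
  | one => exact one_pow 3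
  | mul a b ha hb h1 h2 =>
    rw [(show Commute a b from E0_comm a ha b hb).mul_pow, h1, h2, one_mul]
  | inv a ha h1 => rw [inv_pow, h1, inv_one]

theorem E0_le : E0 ≤ P0 := by
  refine closure_mono ?_
  rintro x (rfl | rfl | rfl | rfl)
  · left; rfl
  · right; left; rfl
  · right; right; left; rfl
  · right; right; right; left; rfl

theorem mem_E0 : x1 ∈ E0 ∧ x2 ∈ E0 ∧ x3 ∈ E0 ∧ x4 ∈ E0 :=
  ⟨subset_closure (Or.inl rfl), subset_closure (Or.inr (Or.inl rfl)), subset_closure (Or.inr (Or.inr (Or.inl rfl))),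
    subset_closure (Or.inr (Or.inr (Or.inr rfl)))⟩

theorem s_mem : s ∈ P0 := subset_closure (Or.inr (Or.inr (Or.inr (Or.inr rfl))))

theorem s_conj : ∀ a ∈ E0, s * a * s⁻¹ ∈ E0 := by
  obtain ⟨h1, h2, h3, h4⟩ := mem_E0
  have h5 : E0 ≤ E0.comap (MulAut.conj s).toMonoidHom := by
    unfold E0
    rw [closure_le]
    rintro x (rfl | rfl | rfl | rfl)
    · change s * x1 * s⁻¹ ∈ E0; rw [s1]; exact h2
    · change s * x2 * s⁻¹ ∈ E0; rw [s2]; exact h3
    · change s * x3 * s⁻¹ ∈ E0; rw [s3]; exact h1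
    · change s * x4 * s⁻¹ ∈ E0; rw [cs4, mul_inv_cancel_right]; exact h4
  intro a ha
  exact h5 ha

theorem P0_eq : P0 = E0 ⊔ zpowers s := by
  apply le_antisymm
  · unfold P0
    rw [closure_le]
    rintro x (rfl | rfl | rfl | rfl | rfl)
    · exact mem_sup_left mem_E0.1
    · exact mem_sup_left mem_E0.2.1
    · exact mem_sup_left mem_E0.2.2.1
    · exact mem_sup_left mem_E0.2.2.2
    · exact mem_sup_right (mem_zpowers s)
  · exact sup_le E0_le (by rw [zpowers_le]; exact s_mem)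

theorem isPGroup_P0 : IsPGroup 3 P0 := by
  have : Fact (Nat.Prime 3) := ⟨Nat.prime_three⟩
  rw [P0_eq]
  have h1 : IsPGroup 3 E0 := fun a => ⟨1, Subtype.ext (by simpa using E0_cube a a.2)⟩
  have h2 : IsPGroup 3 (zpowers s) := by
    refine IsPGroup.of_card_dvd_pow (n := 1) ?_
    rw [Nat.card_zpowers, pow_one]
    exact orderOf_dvd_of_pow_eq_one s_cube
  have h3 : zpowers s ≤ normalizer (E0 : Set A) := by
    rw [zpowers_le]
    exact Subgroup.mem_normalizer_fintype fun a ha => s_conj a ha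
  rw [sup_comm]
  exact h2.to_sup_of_normal_right' h1 h3

theorem card_E0 : 81 ≤ Nat.card E0 := by
  obtain ⟨h1, h2, h3, h4⟩ := mem_E0
  have hc : Nat.card (Fin 3 × Fin 3 × Fin 3 × Fin 3) = 81 := by
    simp [Nat.card_eq_fintype_card]
  rw [← hc]
  refine Nat.card_le_card_of_injective (fun v => (⟨x1 ^ v.1.val * x2 ^ v.2.1.val * x3 ^ v.2.2.1.val * x4 ^ v.2.2.2.val,
    mul_mem (mul_mem (mul_mem (pow_mem h1 _) (pow_mem h2 _)) (pow_mem h3 _)) (pow_mem h4 _)⟩ : E0)) ?_
  have key : ∀ a b c d : Fin 3, ((p1 ^ a.val * p2 ^ b.val * p3 ^ c.val * p4 ^ d.val) 0).val = a.val ∧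
      ((p1 ^ a.val * p2 ^ b.val * p3 ^ c.val * p4 ^ d.val) 3).val = 3 + b.val ∧
      ((p1 ^ a.val * p2 ^ b.val * p3 ^ c.val * p4 ^ d.val) 6).val = 6 + c.val ∧
      ((p1 ^ a.val * p2 ^ b.val * p3 ^ c.val * p4 ^ d.val) 9).val = 9 + d.val := by
    decide +kernel
  rintro ⟨a, b, c, d⟩ ⟨a', b', c', d'⟩ hv
  have hv' : p1 ^ a.val * p2 ^ b.val * p3 ^ c.val * p4 ^ d.val = p1 ^ a'.val * p2 ^ b'.val * p3 ^ c'.val * p4 ^ d'.val :=
    congrArg (fun y : E0 => ((y : A) : Perm (Fin 12))) hv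
  obtain ⟨e1, e2, e3, e4⟩ := key a b c d
  obtain ⟨f1, f2, f3, f4⟩ := key a' b' c' d'
  rw [hv'] at e1 e2 e3 e4
  have g1 : a = a' := Fin.ext (by omega)
  have g2 : b = b' := Fin.ext (by omega)
  have g3 : c = c' := Fin.ext (by omega)
  have g4 : d = d' := Fin.ext (by omega)
  rw [g1, g2, g3, g4]

theorem card_P0 : 243 ≤ Nat.card P0 := by
  have : Fact (Nat.Prime 3) := ⟨Nat.prime_three⟩
  obtain ⟨a, ha⟩ := IsPGroup.iff_card.1 isPGroup_P0
  obtain ⟨b, hb⟩ := IsPGroup.iff_card.1 (isPGroup_P0.to_le E0_le)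
  have h1 := card_E0
  have h2 : b < a := by
    by_contra hcon
    push Not at hcon
    have h5 : E0 = P0 := by
      refine Subgroup.eq_of_le_of_card_ge E0_le ?_
      rw [ha, hb]
      exact Nat.pow_le_pow_right (by norm_num) hcon
    have h6 : s ∈ E0 := h5 ▸ s_mem
    exact s_ne (E0_comm s h6 x1 mem_E0.1)
  have h3 : 4 ≤ b := by
    by_contra hcon
    push Not at hcon
    have : 3 ^ b ≤ 3 ^ 3 := Nat.pow_le_pow_right (by norm_num) (by omega)
    rw [hb] at h1
    omega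
  rw [ha]
  calc 243 = 3 ^ 5 := by norm_num
    _ ≤ 3 ^ a := Nat.pow_le_pow_right (by norm_num) (by omega)

theorem P0_comm_x4 : ∀ a ∈ P0, a * x4 = x4 * a := by
  have h1 : P0 ≤ centralizer {x4} := by
    unfold P0
    rw [closure_le]
    rintro x (rfl | rfl | rfl | rfl | rfl)
    · exact mem_centralizer_singleton_iff.2 c14
    · exact mem_centralizer_singleton_iff.2 c24
    · exact mem_centralizer_singleton_iff.2 c34
    · exact mem_centralizer_singleton_iff.2 rfl
    · exact mem_centralizer_singleton_iff.2 cs4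
  intro a ha
  exact mem_centralizer_singleton_iff.1 (h1 ha)

theorem y0_mem : y0 ∈ ⁅P0, P0⁆ := by
  obtain ⟨h1, h2, h3, h4⟩ := mem_E0
  rw [y0_comm]
  exact commutator_mem_commutator s_mem (E0_le (mul_mem (mul_mem h2 h2) h3))

/-- elements commuting with `x4` act on `{9, 10, 11}` as powers of `x4` -/
theorem act_nine {p : Perm (Fin 12)} (hp : p * p4 = p4 * p) : ∃ i : ℕ, p 9 = (p4 ^ i) 9 := by
  have h1 : p4 (p 9) ≠ p 9 := by
    intro h1
    have h2 : p4 (p 9) = p (p4 9) := by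
      rw [← Perm.mul_apply, ← hp, Perm.mul_apply]
    rw [h2] at h1
    exact (by decide +kernel : p4 9 ≠ 9) (p.injective h1)
  have h2 : ∀ t : Fin 12, p4 t ≠ t → ∃ i : Fin 3, t = (p4 ^ i.val) 9 := by decide +kernel
  obtain ⟨i, hi⟩ := h2 _ h1
  exact ⟨i, hi⟩

theorem fix_nine {a : A} (ha : a ∈ ⁅P0, P0⁆) : (a : Perm (Fin 12)) 9 = 9 := by
  let F : Subgroup A :=
    { carrier := {a | (a : Perm (Fin 12)) 9 = 9}
      one_mem' := rfl
      mul_mem' := by
        intro a b ha hb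
        change (a : Perm (Fin 12)) ((b : Perm (Fin 12)) 9) = 9
        have ha' : (a : Perm (Fin 12)) 9 = 9 := ha
        have hb' : (b : Perm (Fin 12)) 9 = 9 := hb
        rw [hb', ha']
      inv_mem' := by
        intro a ha
        change ((a : Perm (Fin 12))⁻¹) 9 = 9
        have ha' : (a : Perm (Fin 12)) 9 = 9 := ha
        rw [Perm.inv_eq_iff_eq]
        exact ha'.symm }
  have h1 : ⁅P0, P0⁆ ≤ F := by
    rw [commutator_le]
    intro a ha b hb
    change ((a : Perm (Fin 12)) * b * (a : Perm (Fin 12))⁻¹ * (b : Perm (Fin 12))⁻¹) 9 = 9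
    have ha4 : (a : Perm (Fin 12)) * p4 = p4 * a := congrArg Subtype.val (P0_comm_x4 a ha)
    have hb4 : (b : Perm (Fin 12)) * p4 = p4 * b := congrArg Subtype.val (P0_comm_x4 b hb)
    generalize (a : Perm (Fin 12)) = p at *
    generalize (b : Perm (Fin 12)) = q at *
    obtain ⟨i, hi⟩ := act_nine ha4
    obtain ⟨j, hj⟩ := act_nine hb4
    have hk4 : (q * p)⁻¹ * p4 = p4 * (q * p)⁻¹ := by
      have h2 : Commute (q * p) p4 := (show Commute q p4 from hb4).mul_left (show Commute p p4 from ha4)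
      exact h2.inv_left
    obtain ⟨k, hk⟩ := act_nine hk4
    have hc : ∀ {r : Perm (Fin 12)}, r * p4 = p4 * r → ∀ (n : ℕ) (t : Fin 12), r ((p4 ^ n) t) = (p4 ^ n) (r t) := by
      intro r hr n t
      rw [← Perm.mul_apply, ← Perm.mul_apply, ((show Commute r p4 from hr).pow_right n).eq]
    have e1 : p (q 9) = q (p 9) := by
      rw [hi, hj, hc ha4, hc hb4, hi, hj, ← Perm.mul_apply, ← Perm.mul_apply, ← pow_add, ← pow_add, add_comm]
    have e2 : p * q * p⁻¹ * q⁻¹ = p * q * (q * p)⁻¹ := by group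
    calc (p * q * p⁻¹ * q⁻¹) 9 = p (q ((q * p)⁻¹ 9)) := by rw [e2]; rfl
      _ = (p4 ^ k) (p (q 9)) := by rw [hk, hc hb4, hc ha4]
      _ = (p4 ^ k) (q (p 9)) := by rw [e1]
      _ = q (p ((p4 ^ k) 9)) := by rw [hc ha4, hc hb4]
      _ = (q * p) ((q * p)⁻¹ 9) := by rw [← hk]; rfl
      _ = 9 := by rw [← Perm.mul_apply, mul_inv_cancel]; rfl
  exact h1 ha

theorem central_of {c : A} (h1 : c * x1 = x1 * c) (hs : c * s = s * c) (h4 : c * x4 = x4 * c)
    (h9 : (c : Perm (Fin 12)) 9 = 9) : c = 1 ∨ c = y0 ∨ c = y0 * y0 := by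
  have h1' : (c : Perm (Fin 12)) * p1 = p1 * c := congrArg Subtype.val h1
  have hs' : (c : Perm (Fin 12)) * ps = ps * c := congrArg Subtype.val hs
  have h4' : (c : Perm (Fin 12)) * p4 = p4 * c := congrArg Subtype.val h4
  have hval : (c : Perm (Fin 12)) = 1 ∨ (c : Perm (Fin 12)) = p1 * p2 * p3 ∨
      (c : Perm (Fin 12)) = (p1 * p2 * p3) * (p1 * p2 * p3) := by
    generalize (c : Perm (Fin 12)) = p at *
    have a1 : ∀ t, p (p1 t) = p1 (p t) := fun t => by rw [← Perm.mul_apply, h1', Perm.mul_apply]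
    have as : ∀ t, p (ps t) = ps (p t) := fun t => by rw [← Perm.mul_apply, hs', Perm.mul_apply]
    have a4 : ∀ t, p (p4 t) = p4 (p t) := fun t => by rw [← Perm.mul_apply, h4', Perm.mul_apply]
    have b0 : p1 (p 0) ≠ p 0 := by
      rw [← a1]
      intro h
      exact (by decide +kernel : p1 0 ≠ 0) (p.injective h)
    have b1 : ∀ t : Fin 12, p1 t ≠ t → t = 0 ∨ t = 1 ∨ t = 2 := by decide +kernel
    have v1 : p 1 = p1 (p 0) := by rw [← a1]; rfl
    have v2 : p 2 = p1 (p 1) := by rw [← a1]; rfl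
    have v3 : p 3 = ps (p 0) := by rw [← as]; rfl
    have v4 : p 4 = ps (p 1) := by rw [← as]; rfl
    have v5 : p 5 = ps (p 2) := by rw [← as]; rfl
    have v6 : p 6 = ps (p 3) := by rw [← as]; rfl
    have v7 : p 7 = ps (p 4) := by rw [← as]; rfl
    have v8 : p 8 = ps (p 5) := by rw [← as]; rfl
    have v10 : p 10 = p4 (p 9) := by rw [← a4]; rfl
    have v11 : p 11 = p4 (p 10) := by rw [← a4]; rfl
    have hext : ∀ q : Perm (Fin 12), q 0 = p 0 → q 1 = p1 (q 0) → q 2 = p1 (q 1) → q 3 = ps (q 0) → q 4 = ps (q 1) →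
        q 5 = ps (q 2) → q 6 = ps (q 3) → q 7 = ps (q 4) → q 8 = ps (q 5) → q 9 = 9 → q 10 = p4 (q 9) →
        q 11 = p4 (q 10) → p = q := by
      intro q w0 w1 w2 w3 w4 w5 w6 w7 w8 w9 w10 w11
      have u0 : p 0 = q 0 := w0.symm
      have u1 : p 1 = q 1 := by rw [v1, w1, u0]
      have u2 : p 2 = q 2 := by rw [v2, w2, u1]
      have u3 : p 3 = q 3 := by rw [v3, w3, u0]
      have u4 : p 4 = q 4 := by rw [v4, w4, u1]
      have u5 : p 5 = q 5 := by rw [v5, w5, u2]
      have u6 : p 6 = q 6 := by rw [v6, w6, u3]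
      have u7 : p 7 = q 7 := by rw [v7, w7, u4]
      have u8 : p 8 = q 8 := by rw [v8, w8, u5]
      have u9 : p 9 = q 9 := by rw [h9, w9]
      have u10 : p 10 = q 10 := by rw [v10, w10, u9]
      have u11 : p 11 = q 11 := by rw [v11, w11, u10]
      ext t
      congr 1
      fin_cases t <;> assumption
    rcases b1 _ b0 with h0 | h0 | h0
    · left
      apply hext 1 <;> first | (rw [h0]; decide +kernel) | decide +kernel
    · right; left
      apply hext (p1 * p2 * p3) <;> first | (rw [h0]; decide +kernel) | decide +kernel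
    · right; right
      apply hext ((p1 * p2 * p3) * (p1 * p2 * p3)) <;> first | (rw [h0]; decide +kernel) | decide +kernel
  rcases hval with h | h | h
  · exact Or.inl (Subtype.ext h)
  · exact Or.inr (Or.inl (Subtype.ext h))
  · exact Or.inr (Or.inr (Subtype.ext h))

theorem four_of_cube {M : Type*} [Monoid M] {y : M} (h : y ^ 3 = 1) : y = y * y * (y * y) := by
  have h1 : y * y * (y * y) = y ^ 3 * y := by rw [pow_succ, pow_two]; simp only [mul_assoc]
  rw [h1, h, one_mul]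

theorem y0_four : y0 = y0 * y0 * (y0 * y0) := four_of_cube y0_cube

theorem w0_eq : w0 = s * (x2 * x3) * s⁻¹ * (x2 * x3)⁻¹ * x4 := by
  rw [← u0_comm]; rfl

attribute [irreducible] x1 x2 x3 x4 s t7 g0 y0 w0

end Cfsg.Agent.H342.A12Three
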