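import Mathlib

/-!
# Automorphisms of a symplectic space of order `3⁴`

`W` is an abelian group of order 81 and exponent 3 with a nondegenerate alternating form `B`, preserved by the group `Γ`.
-/

set_option autoImplicit false

namespace Cfsg.Agent.H342.SympLoc

open Subgroup

/-! ### fixed points -/

/-- the fixed points of an automorphism in a subgroup -/
def fixS {G : Type*} [Group G] (T : Subgroup G) (σ : MulAut G) : Subgroup G where
  carrier := {x | x ∈ T ∧ σ x = x}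
  one_mem' := ⟨one_mem _, map_one _⟩
  mul_mem' := by
    rintro a b ⟨ha, ha'⟩ ⟨hb, hb'⟩
    exact ⟨mul_mem ha hb, by rw [map_mul, ha', hb']⟩
  inv_mem' := by
    rintro a ⟨ha, ha'⟩
    exact ⟨inv_mem ha, by rw [map_inv, ha']⟩

theorem mem_fixS {G : Type*} [Group G] {T : Subgroup G} {σ : MulAut G} {x : G} :
    x ∈ fixS T σ ↔ x ∈ T ∧ σ x = x := Iff.rfl

theorem fixS_le {G : Type*} [Group G] {T : Subgroup G} {σ : MulAut G} : fixS T σ ≤ T := fun _ h => h.1

theorem perm_modEq {X : Type*} [Finite X] {p : ℕ} [hp : Fact p.Prime] (σ : Equiv.Perm X) (hσ : ∀ x, (σ ^ p) x = x) :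
    Nat.card {x : X // σ x = x} ≡ Nat.card X [MOD p] := by
  classical
  cases nonempty_fintype X
  have h1 : σ ^ p ^ 1 = 1 := by
    rw [pow_one]
    ext x
    exact hσ x
  have h2 := Equiv.Perm.card_compl_support_modEq h1
  have h3 : Nat.card {x : X // σ x = x} = (σ.support)ᶜ.card := by
    rw [Nat.card_eq_fintype_card, Fintype.card_subtype]
    congr 1
    ext x
    simp
  rw [h3, Nat.card_eq_fintype_card]
  exact h2

theorem fixS_modEq {G : Type*} [Group G] (T : Subgroup G) [Finite T] (σ : MulAut G) (hT : ∀ t ∈ T, σ t ∈ T) {p : ℕ}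
    [hp : Fact p.Prime] (hσ : ∀ t ∈ T, (σ ^ p) t = t) : Nat.card (fixS T σ) ≡ Nat.card T [MOD p] := by
  -- the permutation of `T`
  have hT' : ∀ (n : ℕ) (t : G), t ∈ T → (σ ^ n) t ∈ T := by
    intro n
    induction n with
    | zero => intro t ht; exact ht
    | succ n ih => intro t ht; rw [pow_succ', MulAut.mul_apply]; exact hT _ (ih t ht)
  have hinj : Function.Injective (fun t : T => (⟨σ t, hT t t.2⟩ : T)) := by
    intro a b hab
    exact Subtype.ext (σ.injective (congrArg Subtype.val hab))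
  let f : Equiv.Perm T := Equiv.ofBijective _ (Finite.injective_iff_bijective.1 hinj)
  have hf : ∀ t : T, ((f t : T) : G) = σ t := fun t => rfl
  have hfn : ∀ (n : ℕ) (t : T), (((f ^ n) t : T) : G) = (σ ^ n) t := by
    intro n
    induction n with
    | zero => intro t; rfl
    | succ n ih => intro t; rw [pow_succ', Equiv.Perm.mul_apply, hf, ih, pow_succ', MulAut.mul_apply]
  have h1 := perm_modEq (p := p) f (fun t => Subtype.ext (by rw [hfn]; exact hσ t t.2))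
  have h2 : Nat.card (fixS T σ) = Nat.card {t : T // f t = t} := by
    refine Nat.card_congr
      { toFun := fun x => ⟨⟨x, x.2.1⟩, Subtype.ext x.2.2⟩
        invFun := fun x => ⟨x.1, x.1.2, congrArg Subtype.val x.2⟩
        left_inv := fun x => rfl
        right_inv := fun x => rfl }
  rw [h2]
  exact h1

theorem fixS_eq_of_card {G : Type*} [Group G] {T : Subgroup G} [Finite T] {σ : MulAut G}
    (h : Nat.card (fixS T σ) = Nat.card T) : ∀ t ∈ T, σ t = t := by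
  have h1 : fixS T σ = T := Subgroup.eq_of_le_of_card_ge fixS_le h.ge
  intro t ht
  rw [← h1] at ht
  exact ht.2

theorem card_fixS_dvd {G : Type*} [Group G] (T : Subgroup G) (σ : MulAut G) : Nat.card (fixS T σ) ∣ Nat.card T :=
  Subgroup.card_dvd_of_le fixS_le

/-- an automorphism of order five of a group of order nine is trivial -/
theorem five_nine {G : Type*} [Group G] (T : Subgroup G) (h9 : Nat.card T = 9) (σ : MulAut G) (hT : ∀ t ∈ T, σ t ∈ T)
    (hσ : ∀ t ∈ T, (σ ^ 5) t = t) : ∀ t ∈ T, σ t = t := by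
  have : Fact (Nat.Prime 5) := ⟨Nat.prime_five⟩
  have : Finite T := Nat.finite_of_card_ne_zero (by rw [h9]; norm_num)
  have h1 := fixS_modEq T σ hT hσ
  have h2 := card_fixS_dvd T σ
  apply fixS_eq_of_card
  rw [h9] at h1 h2 ⊢
  have h3 := Nat.le_of_dvd (by norm_num) h2
  rw [Nat.ModEq] at h1
  generalize Nat.card (fixS T σ) = n at *
  interval_cases n <;> omega

/-! ### the symplectic space -/

variable {Γ W A : Type*} [Group Γ] [CommGroup W] [CommGroup A]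

/-- a symplectic space of order `3⁴` with an action of `Γ` -/
structure Symp (φ : Γ →* MulAut W) (B : W →* W →* A) : Prop where
  card : Nat.card W = 81
  cube : ∀ w : W, w ^ 3 = 1
  cubeA : ∀ a : A, a ^ 3 = 1
  alt : ∀ w, B w w = 1
  nondeg : ∀ w, (∀ v, B w v = 1) → w = 1
  inv : ∀ (g : Γ) (w v : W), B (φ g w) (φ g v) = B w v

/-- the fixed points -/
def Pl (φ : Γ →* MulAut W) (g : Γ) : Subgroup W := fixS ⊤ (φ g)

theorem mem_Pl {φ : Γ →* MulAut W} {g : Γ} {w : W} : w ∈ Pl φ g ↔ φ g w = w :=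
  ⟨fun h => h.2, fun h => ⟨mem_top _, h⟩⟩

/-- the inverted elements -/
def Mi (φ : Γ →* MulAut W) (g : Γ) : Subgroup W where
  carrier := {w | φ g w = w⁻¹}
  one_mem' := by simp
  mul_mem' := by
    intro a b ha hb
    change φ g (a * b) = (a * b)⁻¹
    rw [map_mul, ha, hb, mul_inv]
  inv_mem' := by
    intro a ha
    change φ g a⁻¹ = a⁻¹⁻¹
    rw [map_inv, ha]

theorem mem_Mi {φ : Γ →* MulAut W} {g : Γ} {w : W} : w ∈ Mi φ g ↔ φ g w = w⁻¹ := Iff.rfl

theorem eq_one_of_sq {X : Type*} [Group X] {x : X} (h3 : x ^ 3 = 1) (h2 : x * x = 1) : x = 1 := by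
  rw [pow_succ, pow_two, h2, one_mul] at h3
  exact h3

namespace Symp

variable {φ : Γ →* MulAut W} {B : W →* W →* A} (h : Symp φ B)
include h

theorem finite : Finite W := Nat.finite_of_card_ne_zero (by rw [h.card]; norm_num)

theorem skew (w v : W) : B w v * B v w = 1 := by
  have h1 := h.alt (w * v)
  rw [map_mul, map_mul, MonoidHom.mul_apply, MonoidHom.mul_apply, h.alt, h.alt, one_mul, mul_one] at h1
  have h2 := h1
  rw [mul_comm] at h2
  exact h2

theorem symm {w v : W} (hwv : B w v = 1) : B v w = 1 := by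
  have h1 := h.skew w v
  rwa [hwv, one_mul] at h1

theorem ortho {g : Γ} {p m : W} (hp : p ∈ Pl φ g) (hm : m ∈ Mi φ g) : B p m = 1 := by
  have h1 := h.inv g p m
  rw [mem_Pl.1 hp, mem_Mi.1 hm, map_inv] at h1
  apply eq_one_of_sq (h.cubeA _)
  nth_rewrite 1 [← h1]
  exact inv_mul_cancel _

theorem decomp {g : Γ} (hg : ∀ w, φ g (φ g w) = w) (w : W) :
    ∃ p ∈ Pl φ g, ∃ m ∈ Mi φ g, w = p * m := by
  refine ⟨(w * φ g w) ^ 2, ?_, (w * (φ g w)⁻¹) ^ 2, ?_, ?_⟩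
  · rw [mem_Pl, map_pow, map_mul, hg, mul_comm]
  · rw [mem_Mi, map_pow, map_mul, map_inv, hg, ← inv_pow, mul_inv, inv_inv, mul_comm]
  · rw [← mul_pow]
    have h1 : w * φ g w * (w * (φ g w)⁻¹) = w * w := by
      rw [mul_mul_mul_comm, mul_inv_cancel, mul_one]
    rw [h1, ← pow_two, ← pow_mul]
    have h2 := h.cube w
    rw [show 2 * 2 = 3 + 1 by rfl, pow_succ, h2, one_mul]

theorem inter {g : Γ} {w : W} (hp : w ∈ Pl φ g) (hm : w ∈ Mi φ g) : w = 1 := by
  rw [mem_Pl] at hp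
  rw [mem_Mi, hp] at hm
  apply eq_one_of_sq (h.cube w)
  nth_rewrite 1 [hm]
  exact inv_mul_cancel w

theorem card_mul {g : Γ} (hg : ∀ w, φ g (φ g w) = w) : Nat.card (Pl φ g) * Nat.card (Mi φ g) = 81 := by
  rw [← h.card, ← Nat.card_prod]
  refine Nat.card_congr (Equiv.ofBijective (fun x : Pl φ g × Mi φ g => (x.1 : W) * x.2) ⟨?_, ?_⟩)
  · rintro ⟨a, b⟩ ⟨c, d⟩ hx
    have hx' : (a : W) * b = c * d := hx
    have h1 : (c : W)⁻¹ * a = d * (b : W)⁻¹ := by
      rw [inv_mul_eq_iff_eq_mul, ← mul_assoc, ← hx', mul_inv_cancel_right]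
    have h2 : (c : W)⁻¹ * a ∈ Pl φ g := mul_mem (inv_mem c.2) a.2
    have h3 : (c : W)⁻¹ * a ∈ Mi φ g := h1 ▸ mul_mem d.2 (inv_mem b.2)
    have h4 := h.inter h2 h3
    rw [inv_mul_eq_one] at h4
    rw [← h4, mul_right_inj] at hx'
    exact Prod.ext (Subtype.ext h4.symm) (Subtype.ext hx')
  · intro w
    obtain ⟨p, hp, m, hm, rfl⟩ := h.decomp hg w
    exact ⟨(⟨p, hp⟩, ⟨m, hm⟩), rfl⟩

theorem ne_three (T : Subgroup W) (hT : ∀ t ∈ T, (∀ t' ∈ T, B t t' = 1) → t = 1) : Nat.card T ≠ 3 := by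
  intro h3
  have : Fact (Nat.Prime 3) := ⟨Nat.prime_three⟩
  have hne : T ≠ ⊥ := by
    intro hb
    rw [hb, Subgroup.card_bot] at h3
    omega
  obtain ⟨t, ht1⟩ := (Subgroup.ne_bot_iff_exists_ne_one).1 hne
  apply ht1
  refine Subtype.ext (hT t t.2 fun t' ht' => ?_)
  have h1 : (⟨t', ht'⟩ : T) ∈ zpowers t := mem_zpowers_of_prime_card h3 ht1
  obtain ⟨k, hk⟩ := mem_zpowers_iff.1 h1
  have h2 : t' = (t : W) ^ k := by
    have := congrArg Subtype.val hk
    rw [Subgroup.coe_zpow] at this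
    exact this.symm
  rw [h2, map_zpow, h.alt, one_zpow]

theorem nd_Pl {g : Γ} (hg : ∀ w, φ g (φ g w) = w) (t : W) (ht : t ∈ Pl φ g) (h1 : ∀ t' ∈ Pl φ g, B t t' = 1) :
    t = 1 := by
  apply h.nondeg
  intro v
  obtain ⟨p, hp, m, hm, rfl⟩ := h.decomp hg v
  rw [map_mul, h1 p hp, h.ortho ht hm, one_mul]

theorem nd_Mi {g : Γ} (hg : ∀ w, φ g (φ g w) = w) (t : W) (ht : t ∈ Mi φ g) (h1 : ∀ t' ∈ Mi φ g, B t t' = 1) :
    t = 1 := by
  apply h.nondeg
  intro v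
  obtain ⟨p, hp, m, hm, rfl⟩ := h.decomp hg v
  rw [map_mul, h1 m hm, h.symm (h.ortho hp ht), one_mul]

theorem card_Pl {g : Γ} (hg : ∀ w, φ g (φ g w) = w) :
    (∀ w, φ g w = w⁻¹) ∨ (Nat.card (Pl φ g) = 9 ∧ Nat.card (Mi φ g) = 9) ∨ (∀ w, φ g w = w) := by
  have := h.finite
  have h1 := h.card_mul hg
  have h2 := h.ne_three _ (h.nd_Pl hg)
  have h3 := h.ne_three _ (h.nd_Mi hg)
  have h4 : Nat.card (Pl φ g) ∣ 81 := ⟨_, h1.symm⟩
  have h5 : Nat.card (Pl φ g) ∈ Nat.divisors 81 := Nat.mem_divisors.2 ⟨h4, by norm_num⟩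
  rw [show Nat.divisors 81 = {1, 3, 9, 27, 81} by decide +kernel] at h5
  simp only [Finset.mem_insert, Finset.mem_singleton] at h5
  rcases h5 with h5 | h5 | h5 | h5 | h5
  · left
    have h6 : Nat.card (Mi φ g) = Nat.card W := by rw [h.card]; rw [h5] at h1; omega
    have h7 : Mi φ g = ⊤ := Subgroup.eq_top_of_card_eq _ h6
    intro w
    exact mem_Mi.1 (h7 ▸ mem_top w)
  · exact absurd h5 h2
  · right; left
    refine ⟨h5, ?_⟩
    rw [h5] at h1
    omega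
  · exfalso
    apply h3
    rw [h5] at h1
    omega
  · right; right
    have h7 : Pl φ g = ⊤ := Subgroup.eq_top_of_card_eq _ (by rw [h5, h.card])
    intro w
    exact mem_Pl.1 (h7 ▸ mem_top w)

/-- an element of order five commuting with a proper involution acts trivially -/
theorem five {g f : Γ} (hg : ∀ w, φ g (φ g w) = w) (h9 : Nat.card (Pl φ g) = 9) (h9' : Nat.card (Mi φ g) = 9)
    (hf : ∀ w, φ (f ^ 5) w = w) (hP : ∀ w ∈ Pl φ g, φ f w ∈ Pl φ g) (hM : ∀ w ∈ Mi φ g, φ f w ∈ Mi φ g) :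
    ∀ w, φ f w = w := by
  intro w
  obtain ⟨p, hp, m, hm, rfl⟩ := h.decomp hg w
  have h5 : ∀ w, ((φ f) ^ 5) w = w := by
    intro w
    rw [← map_pow]
    exact hf w
  rw [map_mul, five_nine _ h9 (φ f) hP (fun t _ => h5 t) p hp, five_nine _ h9' (φ f) hM (fun t _ => h5 t) m hm]

/-- a subgroup of order nine invariant under an involution, orthogonal to its complement -/
theorem pm_of_nine {b : Γ} (hb : ∀ w, φ b (φ b w) = w) (T : Subgroup W) (h9 : Nat.card T = 9)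
    (hT : ∀ t ∈ T, (∀ t' ∈ T, B t t' = 1) → t = 1) (hbT : ∀ t ∈ T, φ b t ∈ T) :
    (∀ t ∈ T, φ b t = t) ∨ ∀ t ∈ T, φ b t = t⁻¹ := by
  have := h.finite
  -- the decomposition of `T`
  have hdec : ∀ t ∈ T, ∃ p ∈ T ⊓ Pl φ b, ∃ m ∈ T ⊓ Mi φ b, t = p * m := by
    intro t ht
    refine ⟨(t * φ b t) ^ 2, ⟨pow_mem (mul_mem ht (hbT t ht)) 2, ?_⟩, (t * (φ b t)⁻¹) ^ 2,
      ⟨pow_mem (mul_mem ht (inv_mem (hbT t ht))) 2, ?_⟩, ?_⟩
    · apply mem_Pl.2
      rw [map_pow, map_mul, hb, mul_comm]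
    · apply mem_Mi.2
      rw [map_pow, map_mul, map_inv, hb, ← inv_pow, mul_inv, inv_inv, mul_comm]
    · rw [← mul_pow]
      have h1 : t * φ b t * (t * (φ b t)⁻¹) = t * t := by
        rw [mul_mul_mul_comm, mul_inv_cancel, mul_one]
      rw [h1, ← pow_two, ← pow_mul]
      have h2 := h.cube t
      rw [show 2 * 2 = 3 + 1 by rfl, pow_succ, h2, one_mul]
  have hnd1 : ∀ t ∈ T ⊓ Pl φ b, (∀ t' ∈ T ⊓ Pl φ b, B t t' = 1) → t = 1 := by
    intro t ht h1
    apply hT t ht.1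
    intro t' ht'
    obtain ⟨p, hp, m, hm, rfl⟩ := hdec t' ht'
    rw [map_mul, h1 p hp, h.ortho ht.2 hm.2, one_mul]
  have h1 := h.ne_three _ hnd1
  have h2 : Nat.card (T ⊓ Pl φ b : Subgroup W) ∣ 9 := by
    rw [← h9]
    exact Subgroup.card_dvd_of_le inf_le_left
  have h3 : Nat.card (T ⊓ Pl φ b : Subgroup W) = 1 ∨ Nat.card (T ⊓ Pl φ b : Subgroup W) = 9 := by
    have h4 := Nat.le_of_dvd (by norm_num) h2
    generalize Nat.card (T ⊓ Pl φ b : Subgroup W) = n at *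
    interval_cases n <;> omega
  rcases h3 with h3 | h3
  · right
    have h4 : (T ⊓ Pl φ b : Subgroup W) = ⊥ := Subgroup.eq_bot_of_card_eq _ h3
    intro t ht
    obtain ⟨p, hp, m, hm, rfl⟩ := hdec t ht
    rw [h4, mem_bot] at hp
    rw [hp, one_mul]
    exact mem_Mi.1 hm.2
  · left
    have h4 : (T ⊓ Pl φ b : Subgroup W) = T := Subgroup.eq_of_le_of_card_ge inf_le_left (by rw [h3, h9])
    intro t ht
    rw [← h4] at ht
    exact mem_Pl.1 ht.2

/-- **two commuting involutions**: `b` is `±1` on both eigenspaces of a proper involution `a` -/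
theorem pm {a b : Γ} (ha : ∀ w, φ a (φ a w) = w) (h9 : Nat.card (Pl φ a) = 9) (h9' : Nat.card (Mi φ a) = 9)
    (hb : ∀ w, φ b (φ b w) = w) (hab : ∀ w, φ a (φ b w) = φ b (φ a w)) :
    ((∀ t ∈ Pl φ a, φ b t = t) ∨ ∀ t ∈ Pl φ a, φ b t = t⁻¹) ∧
    ((∀ t ∈ Mi φ a, φ b t = t) ∨ ∀ t ∈ Mi φ a, φ b t = t⁻¹) := by
  constructor
  · apply h.pm_of_nine hb _ h9 (h.nd_Pl ha)
    intro t ht
    rw [mem_Pl, hab, mem_Pl.1 ht]
  · apply h.pm_of_nine hb _ h9' (h.nd_Mi ha)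
    intro t ht
    rw [mem_Mi, hab, mem_Mi.1 ht, map_inv]

/-- if moreover `b` and `ab` are not `±1`, contradiction -/
theorem no_four {a b : Γ} (ha : ∀ w, φ a (φ a w) = w) (hb : ∀ w, φ b (φ b w) = w)
    (hab : ∀ w, φ a (φ b w) = φ b (φ a w)) (ha1 : ¬ ∀ w, φ a w = w) (ha2 : ¬ ∀ w, φ a w = w⁻¹)
    (hb1 : ¬ ∀ w, φ b w = w) (hb2 : ¬ ∀ w, φ b w = w⁻¹) (hc1 : ¬ ∀ w, φ (a * b) w = w)
    (hc2 : ¬ ∀ w, φ (a * b) w = w⁻¹) : False := by
  have h1 : Nat.card (Pl φ a) = 9 ∧ Nat.card (Mi φ a) = 9 := by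
    rcases h.card_Pl ha with h1 | h1 | h1
    · exact absurd h1 ha2
    · exact h1
    · exact absurd h1 ha1
  obtain ⟨h2, h3⟩ := h.pm ha h1.1 h1.2 hb hab
  have key : ∀ {g : Γ} {ε : W → W}, (∀ v w, ε (v * w) = ε v * ε w) → (∀ t ∈ Pl φ a, φ g t = ε t) →
      (∀ t ∈ Mi φ a, φ g t = ε t) → ∀ w, φ g w = ε w := by
    intro g ε hε hp hm w
    obtain ⟨p, hp', m, hm', rfl⟩ := h.decomp ha w
    rw [map_mul, hp p hp', hm m hm', hε]
  rcases h2 with h2 | h2 <;> rcases h3 with h3 | h3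
  · exact hb1 (key (ε := id) (fun _ _ => rfl) h2 h3)
  · refine hc1 (key (ε := id) (fun _ _ => rfl) ?_ ?_)
    · intro t ht
      rw [map_mul, MulAut.mul_apply, h2 t ht]
      exact mem_Pl.1 ht
    · intro t ht
      rw [map_mul, MulAut.mul_apply, h3 t ht, map_inv, mem_Mi.1 ht, inv_inv]
      rfl
  · refine hc2 (key (ε := fun w => w⁻¹) (fun v w => mul_inv v w) ?_ ?_)
    · intro t ht
      rw [map_mul, MulAut.mul_apply, h2 t ht, map_inv, mem_Pl.1 ht]
    · intro t ht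
      rw [map_mul, MulAut.mul_apply, h3 t ht]
      exact mem_Mi.1 ht
  · exact hb2 (key (ε := fun w => w⁻¹) (fun v w => mul_inv v w) h2 h3)

end Symp

end Cfsg.Agent.H342.SympLoc
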