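import Mathlib
import Cfsg.Agent.H342.SympLoc

/-!
# The group `2^{1+4}.A₅` acting on a symplectic space of order `3⁴`
-/

set_option autoImplicit false

namespace Cfsg.Agent.H342.Co2H

open Subgroup Cfsg.Agent.H342.SympLoc

variable {H W A : Type*} [Group H] [CommGroup W] [CommGroup A]

/-- the set-up -/
structure HHyp (R : Subgroup H) (z : H) (φ : H →* MulAut W) (B : W →* W →* A) : Prop where
  symp : Symp φ B
  normal : R.Normal
  cardR : Nat.card R = 32
  cardH : Nat.card H = 1920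
  zR : z ∈ R
  z1 : z ≠ 1
  zz : z * z = 1
  zc : ∀ r ∈ R, r * z = z * r
  sq : ∀ r ∈ R, r * r = 1 ∨ r * r = z
  comm : ∀ r ∈ R, ∀ s ∈ R, r * s = s * r ∨ r * s = z * (s * r)
  cen : ∀ r ∈ R, (∀ s ∈ R, r * s = s * r) → r = 1 ∨ r = z
  simp : ∀ N : Subgroup H, N.Normal → N ≤ R ∨ N ⊔ R = ⊤
  four : ∃ a b : H, a * a ∈ R ∧ b * b ∈ R ∧ a * b * a⁻¹ * b⁻¹ ∈ R ∧ a ∉ R ∧ b ∉ R ∧ a * b ∉ R
  centerless : ∀ a : H, (∀ h, a * h * a⁻¹ * h⁻¹ ∈ R) → a ∈ R
  three : ∀ x : H, orderOf x = 3 → ∃ w, φ x w ≠ w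

namespace HHyp

variable {R : Subgroup H} {z : H} {φ : H →* MulAut W} {B : W →* W →* A} (h : HHyp R z φ B)
include h

theorem finite : Finite H := Nat.finite_of_card_ne_zero (by rw [h.cardH]; norm_num)

/-- `z` is central -/
theorem z_comm (g : H) : g * z = z * g := by
  have hn := h.normal
  have h1 : g * z * g⁻¹ ∈ R := hn.conj_mem z h.zR g
  have h2 : ∀ s ∈ R, g * z * g⁻¹ * s = s * (g * z * g⁻¹) := by
    intro s hs
    have h3 := h.zc _ (hn.conj_mem s hs g⁻¹)
    rw [inv_inv] at h3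
    calc g * z * g⁻¹ * s = g * (z * (g⁻¹ * s * g)) * g⁻¹ := by group
      _ = s * (g * z * g⁻¹) := by rw [← h3]; group
  rcases h.cen _ h1 h2 with h3 | h3
  · exfalso
    rw [mul_inv_eq_one, mul_eq_left] at h3
    exact h.z1 h3
  · exact mul_inv_eq_iff_eq_mul.1 h3

theorem z_mem_of_ne {D : Subgroup H} (hD : D.Normal) {d : H} (hd : d ∈ D) (hdR : d ∈ R) (hd1 : d ≠ 1) : z ∈ D := by
  by_cases hdz : d = z
  · rw [← hdz]; exact hd
  · obtain ⟨s, hs, hds⟩ : ∃ s ∈ R, d * s ≠ s * d := by
      by_contra hcon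
      push Not at hcon
      rcases h.cen d hdR hcon with h1 | h1
      · exact hd1 h1
      · exact hdz h1
    rcases h.comm d hdR s hs with h1 | h1
    · exact absurd h1 hds
    · have h2 : z = d * (s * d⁻¹ * s⁻¹) := by
        rw [← mul_assoc, ← mul_assoc, h1]; group
      rw [h2]
      exact mul_mem hd (hD.conj_mem _ (inv_mem hd) s)

theorem relIndex_eq {N : Subgroup H} (hN : N ⊔ R = ⊤) : R.relIndex N = 60 := by
  have hn := h.normal
  have h1 := Subgroup.relIndex_sup_right N R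
  rw [hN, relIndex_top_right] at h1
  rw [← h1]
  have h2 := R.card_mul_index
  rw [h.cardR, h.cardH] at h2
  omega

theorem ker_le : φ.ker ≤ R := by
  have := h.finite
  rcases h.simp φ.ker inferInstance with h1 | h1
  · exact h1
  · exfalso
    have h2 := h.relIndex_eq h1
    have h3 : 60 ∣ Nat.card φ.ker := by
      rw [← h2]
      exact Subgroup.relIndex_dvd_card _ _
    have : Fact (Nat.Prime 3) := ⟨Nat.prime_three⟩
    obtain ⟨x, hx⟩ := exists_prime_orderOf_dvd_card' (G := φ.ker) 3 ((by norm_num : 3 ∣ 60).trans h3)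
    obtain ⟨w, hw⟩ := h.three (x : H) (by rw [← hx]; exact orderOf_coe x)
    apply hw
    have h4 : φ (x : H) = 1 := x.2
    rw [h4]
    rfl

/-- an element of odd order in `R` is trivial -/
theorem eq_one_of_pow {r : H} (hr : r ∈ R) {n : ℕ} (hn : n % 2 = 1) (hrn : r ^ n = 1) : r = 1 := by
  have h1 : orderOf r ∣ 32 := by
    rw [← h.cardR]
    have : orderOf (⟨r, hr⟩ : R) = orderOf r := Subgroup.orderOf_mk r hr
    rw [← this]
    exact orderOf_dvd_natCard _
  have h2 : orderOf r ∣ n := orderOf_dvd_of_pow_eq_one hrn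
  have h3 : Nat.Coprime 32 n := by
    have : Nat.Coprime 2 n := (Nat.Prime.coprime_iff_not_dvd Nat.prime_two).2 (by omega)
    exact Nat.Coprime.pow_left 5 this
  exact orderOf_eq_one_iff.1 (Nat.eq_one_of_dvd_coprimes h3 h1 h2)

theorem exists_five : ∃ f : H, f ^ 5 = 1 ∧ f ∉ R ∧ ¬ ∀ w, φ f w = w := by
  have := h.finite
  have : Fact (Nat.Prime 5) := ⟨Nat.prime_five⟩
  obtain ⟨f, hf⟩ := exists_prime_orderOf_dvd_card' (G := H) 5 (by rw [h.cardH]; norm_num)
  have hf5 : f ^ 5 = 1 := by rw [← hf, pow_orderOf_eq_one]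
  have hfR : f ∉ R := by
    intro hfR
    have h1 := h.eq_one_of_pow hfR (n := 5) (by norm_num) hf5
    rw [h1, orderOf_one] at hf
    omega
  refine ⟨f, hf5, hfR, fun hw => hfR (h.ker_le ?_)⟩
  rw [MonoidHom.mem_ker]
  ext w
  exact hw w

theorem proper_of {a : H} (ha : ∀ w, φ a (φ a w) = w) (h1 : ¬ ∀ w, φ a w = w) (h2 : ¬ ∀ w, φ a w = w⁻¹) :
    Nat.card (Pl φ a) = 9 ∧ Nat.card (Mi φ a) = 9 := by
  rcases h.symp.card_Pl ha with h3 | h3 | h3
  · exact absurd h3 h2
  · exact h3
  · exact absurd h3 h1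

/-- an element of order five normalizing both eigenspaces of a proper involution acts trivially -/
theorem five' {a f : H} (ha : ∀ w, φ a (φ a w) = w) (h1 : ¬ ∀ w, φ a w = w) (h2 : ¬ ∀ w, φ a w = w⁻¹)
    (hf : f ^ 5 = 1) (hP : ∀ w ∈ Pl φ a, φ f w ∈ Pl φ a) (hM : ∀ w ∈ Mi φ a, φ f w ∈ Mi φ a) : ∀ w, φ f w = w := by
  obtain ⟨h3, h4⟩ := h.proper_of ha h1 h2
  refine h.symp.five ha h3 h4 (fun w => ?_) hP hM
  rw [hf, map_one]
  rfl

/-- the contradiction from a four-group -/
theorem four_false (H1 : Subgroup H) (hH1 : H1 ⊔ R = ⊤) (hR : ∀ x ∈ H1, x ∈ R → ∀ w, φ x w = w) : False := by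
  have hn := h.normal
  have hlift : ∀ a : H, ∃ a1 ∈ H1, ∃ r ∈ R, a = a1 * r := by
    intro a
    have h1 : a ∈ H1 ⊔ R := hH1 ▸ mem_top a
    obtain ⟨a1, ha1, r, hr, hx⟩ := Subgroup.mem_sup_of_normal_right.1 h1
    exact ⟨a1, ha1, r, hr, hx.symm⟩
  -- modulo `R`
  have hmod : ∀ {x y : H}, (x : H ⧸ R) = (y : H ⧸ R) → (x ∈ R ↔ y ∈ R) := by
    intro x y hxy
    rw [← QuotientGroup.eq_one_iff, hxy, QuotientGroup.eq_one_iff]
  have hpm : ∀ c ∈ H1, c ∉ R → (¬ ∀ w, φ c w = w) ∧ (¬ ∀ w, φ c w = w⁻¹) := by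
    intro c hc hcR
    have key : (∀ k w, φ c (φ k w) = φ k (φ c w)) → False := by
      intro hk
      apply hcR
      apply h.centerless
      intro x
      obtain ⟨k, hk1, r, hr, rfl⟩ := hlift x
      have h1 : c * k * c⁻¹ * k⁻¹ ∈ R := by
        apply h.ker_le
        rw [MonoidHom.mem_ker]
        ext w
        rw [map_mul, map_mul, map_mul, map_inv, map_inv]
        change φ c (φ k ((φ c)⁻¹ ((φ k)⁻¹ w))) = w
        rw [hk]
        rw [MulAut.apply_inv_self, MulAut.apply_inv_self]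
      have h2 : c * (k * r) * c⁻¹ * (k * r)⁻¹ = c * k * c⁻¹ * k⁻¹ * (k * (c * r * c⁻¹ * r⁻¹) * k⁻¹) := by group
      rw [h2]
      exact mul_mem h1 (hn.conj_mem _ (mul_mem (hn.conj_mem _ hr c) (inv_mem hr)) k)
    refine ⟨fun h1 => key fun k w => ?_, fun h1 => key fun k w => ?_⟩
    · rw [h1, h1]
    · rw [h1, h1, map_inv]
  obtain ⟨a, b, ha, hb, hab, haR, hbR, habR⟩ := h.four
  obtain ⟨a1, ha1, r, hr, rfl⟩ := hlift a
  obtain ⟨b1, hb1, s, hs, rfl⟩ := hlift b
  have hra : ((a1 * r : H) : H ⧸ R) = a1 := by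
    rw [QuotientGroup.mk_mul, (QuotientGroup.eq_one_iff r).2 hr, mul_one]
  have hrb : ((b1 * s : H) : H ⧸ R) = b1 := by
    rw [QuotientGroup.mk_mul, (QuotientGroup.eq_one_iff s).2 hs, mul_one]
  have ha2 : a1 * a1 ∈ R := by
    rw [hmod (x := a1 * a1) (y := a1 * r * (a1 * r))]
    · exact ha
    · rw [QuotientGroup.mk_mul, QuotientGroup.mk_mul, hra]
  have hb2 : b1 * b1 ∈ R := by
    rw [hmod (x := b1 * b1) (y := b1 * s * (b1 * s))]
    · exact hb
    · rw [QuotientGroup.mk_mul, QuotientGroup.mk_mul, hrb]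
  have hab2 : a1 * b1 * a1⁻¹ * b1⁻¹ ∈ R := by
    rw [hmod (x := a1 * b1 * a1⁻¹ * b1⁻¹) (y := a1 * r * (b1 * s) * (a1 * r)⁻¹ * (b1 * s)⁻¹)]
    · exact hab
    · simp only [QuotientGroup.mk_mul, QuotientGroup.mk_inv, (QuotientGroup.eq_one_iff r).2 hr,
        (QuotientGroup.eq_one_iff s).2 hs, mul_one]
  have haR' : a1 ∉ R := by rwa [hmod hra] at haR
  have hbR' : b1 ∉ R := by rwa [hmod hrb] at hbR
  have habR' : a1 * b1 ∉ R := by
    rwa [hmod (x := a1 * r * (b1 * s)) (y := a1 * b1) (by rw [QuotientGroup.mk_mul, hra, hrb, QuotientGroup.mk_mul])] at habR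
  have h1 : ∀ w, φ a1 (φ a1 w) = w := fun w => by
    have := hR _ (mul_mem ha1 ha1) ha2 w
    rwa [map_mul] at this
  have h2 : ∀ w, φ b1 (φ b1 w) = w := fun w => by
    have := hR _ (mul_mem hb1 hb1) hb2 w
    rwa [map_mul] at this
  have h3 : ∀ w, φ a1 (φ b1 w) = φ b1 (φ a1 w) := fun w => by
    have := hR _ (mul_mem (mul_mem (mul_mem ha1 hb1) (inv_mem ha1)) (inv_mem hb1)) hab2 (φ b1 (φ a1 w))
    have h4 : φ (a1 * b1 * a1⁻¹ * b1⁻¹) (φ b1 (φ a1 w)) = φ a1 (φ b1 w) := by
      rw [← MulAut.mul_apply, ← MulAut.mul_apply, ← MulAut.mul_apply, ← map_mul, ← map_mul, ← map_mul]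
      congr 2
      group
    rw [← h4, this]
  exact h.symp.no_four h1 h2 h3 (hpm a1 ha1 haR').1 (hpm a1 ha1 haR').2 (hpm b1 hb1 hbR').1 (hpm b1 hb1 hbR').2
    (hpm _ (mul_mem ha1 hb1) habR').1 (hpm _ (mul_mem ha1 hb1) habR').2

omit h in
/-- conjugation by `f` -/
theorem conj_pow_five {f : H} (hf : f ^ 5 = 1) (t : H) : ((MulAut.conj f) ^ 5) t = t := by
  rw [← map_pow, hf, map_one]
  rfl

/-- **the action is faithful** -/
theorem faithful : ∀ d : H, (∀ w, φ d w = w) → d = 1 := by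
  by_contra hcon
  push Not at hcon
  obtain ⟨d, hd, hd1⟩ := hcon
  have := h.finite
  have hn := h.normal
  have hdk : d ∈ φ.ker := by
    rw [MonoidHom.mem_ker]; ext w; exact hd w
  have hzk : z ∈ φ.ker := h.z_mem_of_ne inferInstance hdk (h.ker_le hdk) hd1
  have hz : ∀ w, φ z w = w := fun w => by rw [MonoidHom.mem_ker.1 hzk]; rfl
  obtain ⟨f, hf5, hfR, hf⟩ := h.exists_five
  -- the elements of `R` act as involutions
  have hsq : ∀ r ∈ R, ∀ w, φ r (φ r w) = w := by
    intro r hr w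
    rw [← MulAut.mul_apply, ← map_mul]
    rcases h.sq r hr with h1 | h1
    · rw [h1, map_one]; rfl
    · rw [h1]; exact hz w
  have hcm : ∀ r ∈ R, ∀ s ∈ R, ∀ w, φ r (φ s w) = φ s (φ r w) := by
    intro r hr s hs w
    rw [← MulAut.mul_apply, ← map_mul, ← MulAut.mul_apply, ← map_mul]
    rcases h.comm r hr s hs with h1 | h1
    · rw [h1]
    · rw [h1, map_mul, MulAut.mul_apply, hz]
  -- the elements of `R` act as `±1`
  have hpm : ∀ r ∈ R, (∀ w, φ r w = w) ∨ ∀ w, φ r w = w⁻¹ := by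
    intro r hr
    by_contra hcon
    push Not at hcon
    obtain ⟨⟨w1, hw1⟩, ⟨w2, hw2⟩⟩ := hcon
    have hr1 : ¬ ∀ w, φ r w = w := fun h1 => hw1 (h1 w1)
    have hr2 : ¬ ∀ w, φ r w = w⁻¹ := fun h1 => hw2 (h1 w2)
    obtain ⟨h9, h9'⟩ := h.proper_of (hsq r hr) hr1 hr2
    set s := f * r * f⁻¹ with hs
    have hsR : s ∈ R := hn.conj_mem r hr f
    -- transport of eigenvectors
    have hsf : ∀ w, φ s (φ f w) = φ f (φ r w) := by
      intro w
      rw [← MulAut.mul_apply, ← map_mul, ← MulAut.mul_apply, ← map_mul, hs]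
      congr 2
      group
    have hs1 : ¬ ∀ w, φ s w = w := by
      intro h1
      apply hr1
      intro w
      apply (φ f).injective
      rw [← hsf, h1]
    have hs2 : ¬ ∀ w, φ s w = w⁻¹ := by
      intro h1
      apply hr2
      intro w
      apply (φ f).injective
      rw [← hsf, h1, map_inv]
    obtain ⟨h3, h4⟩ := h.symp.pm (hsq r hr) h9 h9' (hsq s hsR) (hcm r hr s hsR)
    -- decomposition of a vector
    have hdec := fun w => h.symp.decomp (hsq r hr) w
    rcases h3 with h3 | h3 <;> rcases h4 with h4 | h4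
    · apply hs1
      intro w
      obtain ⟨p, hp, m, hm, rfl⟩ := hdec w
      rw [map_mul, h3 p hp, h4 m hm]
    · -- `s` and `r` have the same eigenspaces
      have hP : ∀ w ∈ Pl φ r, φ f w ∈ Pl φ r := by
        intro w hw
        have h5 : φ s (φ f w) = φ f w := by rw [hsf, mem_Pl.1 hw]
        obtain ⟨p, hp, m, hm, hx⟩ := hdec (φ f w)
        rw [hx, map_mul, h3 p hp, h4 m hm, mul_right_inj] at h5
        have h6 : m = 1 := by
          apply eq_one_of_sq (h.symp.cube m)
          nth_rewrite 1 [← h5]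
          exact inv_mul_cancel m
        rw [hx, h6, mul_one]
        exact hp
      have hM : ∀ w ∈ Mi φ r, φ f w ∈ Mi φ r := by
        intro w hw
        have h5 : φ s (φ f w) = (φ f w)⁻¹ := by rw [hsf, mem_Mi.1 hw, map_inv]
        obtain ⟨p, hp, m, hm, hx⟩ := hdec (φ f w)
        rw [hx, map_mul, h3 p hp, h4 m hm, mul_inv, mul_left_inj] at h5
        have h6 : p = 1 := by
          apply eq_one_of_sq (h.symp.cube p)
          nth_rewrite 1 [h5]
          exact inv_mul_cancel p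
        rw [hx, h6, one_mul]
        exact hm
      exact hf (h.five' (hsq r hr) hr1 hr2 hf5 hP hM)
    · -- `s` and `-r` have the same eigenspaces
      have hP : ∀ w ∈ Pl φ r, φ f w ∈ Mi φ r := by
        intro w hw
        have h5 : φ s (φ f w) = φ f w := by rw [hsf, mem_Pl.1 hw]
        obtain ⟨p, hp, m, hm, hx⟩ := hdec (φ f w)
        rw [hx, map_mul, h3 p hp, h4 m hm, mul_left_inj] at h5
        have h6 : p = 1 := by
          apply eq_one_of_sq (h.symp.cube p)
          nth_rewrite 1 [← h5]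
          exact inv_mul_cancel p
        rw [hx, h6, one_mul]
        exact hm
      have hM : ∀ w ∈ Mi φ r, φ f w ∈ Pl φ r := by
        intro w hw
        have h5 : φ s (φ f w) = (φ f w)⁻¹ := by rw [hsf, mem_Mi.1 hw, map_inv]
        obtain ⟨p, hp, m, hm, hx⟩ := hdec (φ f w)
        rw [hx, map_mul, h3 p hp, h4 m hm, mul_inv, mul_right_inj] at h5
        have h6 : m = 1 := by
          apply eq_one_of_sq (h.symp.cube m)
          nth_rewrite 1 [h5]
          exact inv_mul_cancel m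
        rw [hx, h6, mul_one]
        exact hp
      have hf2 : ∀ w, φ (f * f) w = w := by
        refine h.five' (hsq r hr) hr1 hr2 ?_ ?_ ?_
        · rw [← pow_two, ← pow_mul, mul_comm, pow_mul, hf5, one_pow]
        · intro w hw
          rw [map_mul]
          exact hM _ (hP _ hw)
        · intro w hw
          rw [map_mul]
          exact hP _ (hM _ hw)
      apply hf
      intro w
      have h6 : (f * f) * ((f * f) * (f * f)) = f := by
        have : (f * f) * ((f * f) * (f * f)) = f ^ 5 * f := by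
          simp only [pow_succ, pow_zero, one_mul, mul_assoc]
        rw [this, hf5, one_mul]
      calc φ f w = φ ((f * f) * ((f * f) * (f * f))) w := by rw [h6]
        _ = w := by rw [map_mul, MulAut.mul_apply, map_mul φ (f * f) (f * f), MulAut.mul_apply, hf2, hf2, hf2]
    · apply hs2
      intro w
      obtain ⟨p, hp, m, hm, rfl⟩ := hdec w
      rw [map_mul, h3 p hp, h4 m hm, mul_inv]
  by_cases hall : ∀ r ∈ R, ∀ w, φ r w = w
  · -- `R` acts trivially
    exact h.four_false ⊤ (top_sup_eq R) fun x _ hx => hall x hx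
  · push Not at hall
    obtain ⟨r0, hr0, w0, hw0⟩ := hall
    have hr0' : ∀ w, φ r0 w = w⁻¹ := (hpm r0 hr0).resolve_left fun h1 => hw0 (h1 w0)
    -- the kernel has order 16
    have hD : Nat.card φ.ker = 16 := by
      have h1 : φ.ker.relIndex R = 2 := by
        have h2 : (φ.ker.subgroupOf R).index = 2 := by
          rw [Subgroup.index_eq_two_iff]
          refine ⟨⟨r0, hr0⟩, ?_⟩
          rintro ⟨r, hr⟩
          have hmem : ∀ x : R, x ∈ φ.ker.subgroupOf R ↔ ∀ w, φ (x : H) w = w := by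
            intro x
            rw [mem_subgroupOf, MonoidHom.mem_ker, MulEquiv.ext_iff]
            rfl
          rw [hmem, hmem]
          have h0 : ¬ ∀ w, φ r0 w = w := fun h1 => hw0 (h1 w0)
          rcases hpm r hr with h1 | h1
          · right
            refine ⟨h1, fun h2 => h0 fun w => ?_⟩
            have := h2 w
            rw [Subgroup.coe_mul, map_mul, MulAut.mul_apply, h1] at this
            exact this
          · left
            refine ⟨?_, fun h2 => h0 fun w => ?_⟩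
            · intro w
              rw [Subgroup.coe_mul, map_mul, MulAut.mul_apply, h1, hr0', inv_inv]
            · rw [hr0', ← h1, h2]
        exact h2
      have h2 := Subgroup.card_mul_index (φ.ker.subgroupOf R)
      have h3 : (φ.ker.subgroupOf R).index = 2 := h1
      have h4 : Nat.card (φ.ker.subgroupOf R) = Nat.card φ.ker :=
        Nat.card_congr (subgroupOfEquivOfLe h.ker_le).toEquiv
      rw [h3, h4, h.cardR] at h2
      omega
    have : Fact (Nat.Prime 5) := ⟨Nat.prime_five⟩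
    -- `f` centralizes the kernel
    have hfD : Nat.card (fixS φ.ker (MulAut.conj f)) = 16 := by
      have h1 := fixS_modEq (p := 5) φ.ker (MulAut.conj f) (fun t ht => (inferInstance : φ.ker.Normal).conj_mem t ht f)
        (fun t _ => conj_pow_five hf5 t)
      have h2 := card_fixS_dvd φ.ker (MulAut.conj f)
      rw [hD] at h1 h2
      have h3 : Nat.card (fixS φ.ker (MulAut.conj f)) ≠ 1 := by
        intro h3
        have h4 := Subgroup.eq_bot_of_card_eq _ h3
        apply h.z1
        rw [← mem_bot, ← h4]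
        refine ⟨hzk, ?_⟩
        rw [MulAut.conj_apply, h.z_comm f, mul_inv_cancel_right]
      have h4 := Nat.le_of_dvd (by norm_num) h2
      rw [Nat.ModEq] at h1
      generalize Nat.card (fixS φ.ker (MulAut.conj f)) = n at *
      interval_cases n <;> omega
    -- `f` centralizes `R`
    have hfR' : ∀ r ∈ R, MulAut.conj f r = r := by
      apply fixS_eq_of_card
      have h1 := fixS_modEq (p := 5) R (MulAut.conj f) (fun t ht => hn.conj_mem t ht f)
        (fun t _ => conj_pow_five hf5 t)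
      have h2 := card_fixS_dvd R (MulAut.conj f)
      rw [h.cardR] at h1 h2 ⊢
      have h3 : 16 ∣ Nat.card (fixS R (MulAut.conj f)) := by
        rw [← hfD]
        exact Subgroup.card_dvd_of_le fun x hx => ⟨h.ker_le hx.1, hx.2⟩
      have h4 := Nat.le_of_dvd (by norm_num) h2
      rw [Nat.ModEq] at h1
      generalize Nat.card (fixS R (MulAut.conj f)) = n at *
      interval_cases n <;> omega
    -- the centralizer of `R`
    have hCn : (centralizer (R : Set H)).Normal := inferInstance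
    have hfC : f ∈ centralizer (R : Set H) := by
      rw [mem_centralizer_iff]
      intro r hr
      have h1 := hfR' r hr
      rw [MulAut.conj_apply, mul_inv_eq_iff_eq_mul] at h1
      exact h1.symm
    have hCR : centralizer (R : Set H) ⊔ R = ⊤ := by
      rcases h.simp _ hCn with h1 | h1
      · exact absurd (h1 hfC) hfR
      · exact h1
    refine h.four_false _ hCR ?_
    intro x hx hxR w
    have h1 : ∀ s ∈ R, x * s = s * x := fun s hs => (mem_centralizer_iff.1 hx s hs).symm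
    rcases h.cen x hxR h1 with h2 | h2
    · rw [h2, map_one]; rfl
    · rw [h2, hz]

end HHyp

end Cfsg.Agent.H342.Co2H
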