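import Mathlib
import Cfsg.Agent.H342.Co2H

/-!
# The group `2^{1+4}.A₅` acting on a symplectic space of order `3⁴`, continued

The involutions of `R`, irreducibility of `R`, elements of order three.
-/

set_option autoImplicit false

namespace Cfsg.Agent.H342.Co2H

open Subgroup Cfsg.Agent.H342.SympLoc

variable {H W A : Type*} [Group H] [CommGroup W] [CommGroup A]

theorem card_ne_one {T : Type*} [Group T] [Finite T] : Nat.card {y : T // y ≠ 1} + 1 = Nat.card T := by
  classical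
  cases nonempty_fintype T
  rw [Nat.card_eq_fintype_card, Nat.card_eq_fintype_card, Fintype.card_subtype_compl,
    Fintype.card_subtype_eq]
  have : 0 < Fintype.card T := Fintype.card_pos
  omega

/-- the noncentral involutions of `R` -/
abbrev Inv (R : Subgroup H) (z : H) := {a : H // a ∈ R ∧ a * a = 1 ∧ a ≠ 1 ∧ a ≠ z}

namespace HHyp

variable {R : Subgroup H} {z : H} {φ : H →* MulAut W} {B : W →* W →* A} (h : HHyp R z φ B)
include h

theorem eq_of_act {a b : H} (hab : ∀ w, φ a w = φ b w) : a = b := by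
  have h1 : a * b⁻¹ = 1 := by
    apply h.faithful
    intro w
    rw [map_mul, MulAut.mul_apply, hab, map_inv, MulAut.apply_inv_self]
  exact mul_inv_eq_one.1 h1

/-- `z` acts as `-1` -/
theorem z_inv : ∀ w, φ z w = w⁻¹ := by
  obtain ⟨f, hf5, hfR, hf⟩ := h.exists_five
  have hzz : ∀ w, φ z (φ z w) = w := fun w => by
    rw [← MulAut.mul_apply, ← map_mul, h.zz, map_one]; rfl
  by_contra hcon
  have h1 : ¬ ∀ w, φ z w = w := fun h1 => h.z1 (h.faithful z h1)
  apply hf
  have hcomm : ∀ w, φ z (φ f w) = φ f (φ z w) := fun w => by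
    rw [← MulAut.mul_apply, ← map_mul, ← h.z_comm f, map_mul, MulAut.mul_apply]
  refine h.five' hzz h1 hcon hf5 ?_ ?_
  · intro w hw
    rw [mem_Pl, hcomm, mem_Pl.1 hw]
  · intro w hw
    rw [mem_Mi, hcomm, mem_Mi.1 hw, map_inv]

omit h in
theorem sq_act {a : H} (ha : a * a = 1) : ∀ w, φ a (φ a w) = w := fun w => by
  rw [← MulAut.mul_apply, ← map_mul, ha, map_one]; rfl

theorem not_pm {a : H} (ha1 : a ≠ 1) (haz : a ≠ z) : (¬ ∀ w, φ a w = w) ∧ ¬ ∀ w, φ a w = w⁻¹ :=
  ⟨fun h1 => ha1 (h.faithful a h1), fun h1 => haz (h.eq_of_act fun w => by rw [h1, h.z_inv])⟩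

theorem proper (a : Inv R z) : Nat.card (Pl φ (a : H)) = 9 ∧ Nat.card (Mi φ (a : H)) = 9 :=
  h.proper_of (sq_act a.2.2.1) (h.not_pm a.2.2.2.1 a.2.2.2.2).1 (h.not_pm a.2.2.2.1 a.2.2.2.2).2

theorem eq_one_of_inv {w : W} (hw : w = w⁻¹) : w = 1 := by
  apply eq_one_of_sq (h.symp.cube w)
  nth_rewrite 1 [hw]
  exact inv_mul_cancel w

/-- the fixed spaces of distinct involutions are disjoint -/
theorem disjoint (a b : Inv R z) {w : W} (hwa : w ∈ Pl φ (a : H)) (hwb : w ∈ Pl φ (b : H)) (hw : w ≠ 1) : a = b := by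
  obtain ⟨a, haR, haa, ha1, haz⟩ := a
  obtain ⟨b, hbR, hbb, hb1, hbz⟩ := b
  simp only at hwa hwb
  have hab : a * b = b * a := by
    rcases h.comm a haR b hbR with h1 | h1
    · exact h1
    · exfalso
      apply hw
      apply h.eq_one_of_inv
      have h2 : φ (a * b) w = w := by rw [map_mul, MulAut.mul_apply, mem_Pl.1 hwb, mem_Pl.1 hwa]
      have h3 : φ (z * (b * a)) w = w⁻¹ := by
        rw [map_mul, MulAut.mul_apply, map_mul, MulAut.mul_apply, mem_Pl.1 hwa, mem_Pl.1 hwb, h.z_inv]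
      rw [h1, h3] at h2
      exact h2.symm
  have hab' : ∀ w, φ a (φ b w) = φ b (φ a w) := fun w => by
    rw [← MulAut.mul_apply, ← map_mul, hab, map_mul, MulAut.mul_apply]
  have hpa := h.proper ⟨a, haR, haa, ha1, haz⟩
  obtain ⟨h1, h2⟩ := h.symp.pm (sq_act haa) hpa.1 hpa.2 (sq_act hbb) hab'
  have h3 : ∀ t ∈ Pl φ a, φ b t = t := by
    rcases h1 with h1 | h1
    · exact h1
    · exfalso
      apply hw
      apply h.eq_one_of_inv
      rw [← h1 w hwa]
      exact (mem_Pl.1 hwb).symm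
  apply Subtype.ext
  change a = b
  rcases h2 with h2 | h2
  · exfalso
    apply hb1
    apply h.faithful
    intro w
    obtain ⟨p, hp, m, hm, rfl⟩ := h.symp.decomp (sq_act (φ := φ) haa) w
    rw [map_mul, h3 p hp, h2 m hm]
  · apply h.eq_of_act
    intro w
    obtain ⟨p, hp, m, hm, rfl⟩ := h.symp.decomp (sq_act (φ := φ) haa) w
    rw [map_mul, map_mul, h3 p hp, h2 m hm, mem_Pl.1 hp, mem_Mi.1 hm]

theorem count (T : Subgroup W) (k : ℕ) (hk : ∀ a : Inv R z, Nat.card (T ⊓ Pl φ (a : H) : Subgroup W) = k + 1) :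
    Nat.card (Inv R z) * k + 1 ≤ Nat.card T := by
  have := h.finite
  have := h.symp.finite
  rw [← card_ne_one (T := T)]
  apply Nat.succ_le_succ
  have h1 : Nat.card (Σ a : Inv R z, {w : (T ⊓ Pl φ (a : H) : Subgroup W) // w ≠ 1}) = Nat.card (Inv R z) * k := by
    have : Fintype (Inv R z) := Fintype.ofFinite _
    rw [Nat.card_sigma]
    have h2 : ∀ a : Inv R z, Nat.card {w : (T ⊓ Pl φ (a : H) : Subgroup W) // w ≠ 1} = k := by
      intro a
      have h3 := card_ne_one (T := (T ⊓ Pl φ (a : H) : Subgroup W))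
      rw [hk a] at h3
      omega
    simp only [h2, Finset.sum_const, smul_eq_mul, Finset.card_univ, Nat.card_eq_fintype_card]
  rw [← h1]
  refine Nat.card_le_card_of_injective
    (fun x => (⟨⟨(x.2.1 : W), x.2.1.2.1⟩, fun h2 => x.2.2 (Subtype.ext (congrArg (fun y : T => (y : W)) h2))⟩ : {y : T // y ≠ 1})) ?_
  rintro ⟨a, w, hw⟩ ⟨b, v, hv⟩ hab
  have h2 : (w : W) = v := congrArg (fun y : {y : T // y ≠ 1} => ((y : T) : W)) hab
  have h3 : a = b := h.disjoint a b w.2.2 (h2 ▸ v.2.2) (fun h4 => hw (Subtype.ext h4))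
  subst h3
  have h4 : w = v := Subtype.ext h2
  subst h4
  rfl

/-- the centralizer in `R` of a noncentral element has order 16 -/
theorem card_cent {u : H} (hu : u ∈ R) (hu1 : u ≠ 1) (huz : u ≠ z) :
    Nat.card ((centralizer ({u} : Set H)).subgroupOf R) = 16 := by
  obtain ⟨s, hs, hus⟩ : ∃ s ∈ R, u * s ≠ s * u := by
    by_contra hcon
    push Not at hcon
    rcases h.cen u hu hcon with h1 | h1
    · exact hu1 h1
    · exact huz h1
  have hus' : u * s = z * (s * u) := (h.comm u hu s hs).resolve_left hus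
  have hzi : z⁻¹ = z := inv_eq_of_mul_eq_one_left h.zz
  have hmem : ∀ r : R, r ∈ (centralizer ({u} : Set H)).subgroupOf R ↔ (r : H) * u = u * r := by
    intro r
    rw [mem_subgroupOf, mem_centralizer_singleton_iff]
  have hidx : ((centralizer ({u} : Set H)).subgroupOf R).index = 2 := by
    rw [Subgroup.index_eq_two_iff]
    refine ⟨⟨s, hs⟩, ?_⟩
    intro r
    rw [hmem, hmem, Subgroup.coe_mul]
    change Xor ((r : H) * s * u = u * (r * s)) ((r : H) * u = u * r)
    have hsu : s * u = z * (u * s) := by rw [hus', ← mul_assoc, h.zz, one_mul]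
    rcases h.comm u hu r r.2 with h1 | h1
    · -- `r` commutes with `u`
      right
      refine ⟨h1.symm, fun h2 => ?_⟩
      apply hus
      have h3 : (r : H) * (s * u) = r * (u * s) := by
        rw [← mul_assoc, h2, ← mul_assoc, h1, mul_assoc]
      exact (mul_left_cancel h3).symm
    · left
      refine ⟨?_, fun h2 => ?_⟩
      · calc (r : H) * s * u = r * (s * u) := by group
          _ = r * z * (u * s) := by rw [hsu]; group
          _ = z * r * u * s := by rw [h.z_comm]; group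
          _ = (u * r) * s := by rw [h1]; group
          _ = u * (r * s) := by group
      · rw [← h2] at h1
        have h3 : z = 1 := mul_eq_right.1 h1.symm
        exact h.z1 h3
  have h1 := Subgroup.card_mul_index ((centralizer ({u} : Set H)).subgroupOf R)
  rw [hidx, h.cardR] at h1
  omega

theorem inv_nonempty : Nat.card (Inv R z) ≠ 0 := by
  have := h.finite
  rw [Nat.card_ne_zero]
  refine ⟨?_, inferInstance⟩
  have hsmall : ∀ x y u v : H, Nat.card ({x, y, u, v} : Set H) ≤ 4 := by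
    intro x y u v
    rw [Nat.card_coe_set_eq]
    exact (Set.ncard_insert_le _ _).trans (Nat.succ_le_succ ((Set.ncard_insert_le _ _).trans
      (Nat.succ_le_succ ((Set.ncard_insert_le _ _).trans (by rw [Set.ncard_singleton])))))
  by_contra hcon
  rw [not_nonempty_iff] at hcon
  have hsq : ∀ r ∈ R, r ≠ 1 → r ≠ z → r * r = z := by
    intro r hr h1 hz
    rcases h.sq r hr with h2 | h2
    · exact (hcon.false ⟨r, hr, h2, h1, hz⟩).elim
    · exact h2
  -- a noncentral element
  obtain ⟨u, hu, hu1, huz⟩ : ∃ u ∈ R, u ≠ 1 ∧ u ≠ z := by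
    by_contra hcon2
    push Not at hcon2
    have h1 : (R : Set H) ⊆ {1, z, 1, z} := by
      intro r hr
      by_cases hr1 : r = 1
      · simp [hr1]
      · simp [hcon2 r hr hr1]
    have h2 := Set.ncard_le_ncard h1
    have h3 := hsmall 1 z 1 z
    rw [Nat.card_coe_set_eq] at h3
    have h4 : (R : Set H).ncard = 32 := by rw [← h.cardR]; rfl
    omega
  obtain ⟨v, hv, hvu, hv1, hvz, hvu', hvuz⟩ : ∃ v ∈ R, v * u = u * v ∧ v ≠ 1 ∧ v ≠ z ∧ v ≠ u ∧ v ≠ u * z := by
    by_contra hcon2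
    push Not at hcon2
    have h1 : Nat.card ((centralizer ({u} : Set H)).subgroupOf R) ≤ Nat.card ({1, z, u, u * z} : Set H) := by
      refine Nat.card_le_card_of_injective (fun x => ⟨((x : R) : H), ?_⟩) ?_
      · have h2 := mem_centralizer_singleton_iff.1 (mem_subgroupOf.1 x.2)
        simp only [Set.mem_insert_iff, Set.mem_singleton_iff]
        by_contra hx
        push Not at hx
        exact hx.2.2.2 (hcon2 _ (x : R).2 h2 hx.1 hx.2.1 hx.2.2.1)
      · intro x y hxy
        exact Subtype.ext (Subtype.ext (congrArg (fun y : ({1, z, u, u * z} : Set H) => (y : H)) hxy))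
    rw [h.card_cent hu hu1 huz] at h1
    have := hsmall 1 z u (u * z)
    omega
  have hui : u⁻¹ = u * z := by
    rw [inv_eq_iff_mul_eq_one, ← mul_assoc, hsq u hu hu1 huz, h.zz]
  refine hcon.false ⟨u * v, mul_mem hu hv, ?_, ?_, ?_⟩
  · calc u * v * (u * v) = u * (v * u) * v := by group
      _ = (u * u) * (v * v) := by rw [hvu]; group
      _ = 1 := by rw [hsq u hu hu1 huz, hsq v hv hv1 hvz, h.zz]
  · intro h1
    apply hvuz
    rw [← hui, eq_inv_iff_mul_eq_one, hvu, h1]
  · intro h1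
    apply hvu'
    have h2 : v = u⁻¹ * z := by rw [← h1, inv_mul_cancel_left]
    rw [h2, hui, mul_assoc, h.zz, mul_one]

/-- **`R` has ten noncentral involutions** -/
theorem card_inv : Nat.card (Inv R z) = 10 := by
  have := h.finite
  have hn := h.normal
  have h1 : Nat.card (Inv R z) * 8 + 1 ≤ 81 := by
    have h2 := h.count ⊤ 8 (fun a => by rw [top_inf_eq]; exact (h.proper a).1)
    rw [Subgroup.card_top, h.symp.card] at h2
    exact h2
  have hzi : ∀ {a : H}, a ∈ R ∧ a * a = 1 ∧ a ≠ 1 ∧ a ≠ z →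
      a * z ∈ R ∧ a * z * (a * z) = 1 ∧ a * z ≠ 1 ∧ a * z ≠ z := by
    rintro a ⟨ha, haa, ha1, haz⟩
    refine ⟨mul_mem ha h.zR, ?_, ?_, ?_⟩
    · calc a * z * (a * z) = a * (z * a) * z := by group
        _ = (a * a) * (z * z) := by rw [← h.z_comm]; group
        _ = 1 := by rw [haa, h.zz, one_mul]
    · intro h2
      apply haz
      have h3 : a = z⁻¹ := eq_inv_of_mul_eq_one_left h2
      rw [h3, inv_eq_of_mul_eq_one_left h.zz]
    · intro h2
      exact ha1 (mul_eq_right.1 h2)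
  -- parity
  have h2 : Nat.card (Inv R z) ≡ 0 [MOD 2] := by
    have : Fact (Nat.Prime 2) := ⟨Nat.prime_two⟩
    let σ : Equiv.Perm (Inv R z) :=
      { toFun := fun a => ⟨(a : H) * z, hzi a.2⟩
        invFun := fun a => ⟨(a : H) * z, hzi a.2⟩
        left_inv := fun a => Subtype.ext (by
          change (a : H) * z * z = a
          rw [mul_assoc, h.zz, mul_one])
        right_inv := fun a => Subtype.ext (by
          change (a : H) * z * z = a
          rw [mul_assoc, h.zz, mul_one]) }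
    have h3 := perm_modEq (p := 2) σ (fun a => by
      rw [pow_two, Equiv.Perm.mul_apply]
      exact σ.left_inv a)
    have h4 : IsEmpty {x : Inv R z // σ x = x} := ⟨fun x => by
      have h5 : (x.1 : H) * z = x.1 := congrArg Subtype.val x.2
      exact h.z1 (mul_eq_left.1 h5)⟩
    rw [Nat.card_of_isEmpty] at h3
    exact h3.symm
  -- divisibility by five
  have h5 : Nat.card (Inv R z) ≡ 0 [MOD 5] := by
    have : Fact (Nat.Prime 5) := ⟨Nat.prime_five⟩
    obtain ⟨f, hf5, hfR, hf⟩ := h.exists_five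
    have hc : ∀ (g : H) {a : H}, a ∈ R ∧ a * a = 1 ∧ a ≠ 1 ∧ a ≠ z →
        g * a * g⁻¹ ∈ R ∧ g * a * g⁻¹ * (g * a * g⁻¹) = 1 ∧ g * a * g⁻¹ ≠ 1 ∧ g * a * g⁻¹ ≠ z := by
      rintro g a ⟨ha, haa, ha1, haz⟩
      refine ⟨hn.conj_mem a ha g, ?_, ?_, ?_⟩
      · calc g * a * g⁻¹ * (g * a * g⁻¹) = g * (a * a) * g⁻¹ := by group
          _ = 1 := by rw [haa, mul_one, mul_inv_cancel]
      · intro h2
        rw [mul_inv_eq_one, mul_eq_left] at h2
        exact ha1 h2
      · intro h2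
        rw [mul_inv_eq_iff_eq_mul, ← h.z_comm, mul_right_inj] at h2
        exact haz h2
    let σ : Equiv.Perm (Inv R z) :=
      { toFun := fun a => ⟨f * (a : H) * f⁻¹, hc f a.2⟩
        invFun := fun a => ⟨f⁻¹ * (a : H) * f⁻¹⁻¹, hc f⁻¹ a.2⟩
        left_inv := fun a => Subtype.ext (by
          change f⁻¹ * (f * (a : H) * f⁻¹) * f⁻¹⁻¹ = a
          group)
        right_inv := fun a => Subtype.ext (by
          change f * (f⁻¹ * (a : H) * f⁻¹⁻¹) * f⁻¹ = a
          group) }
    have hσ : ∀ a : Inv R z, ((σ a : Inv R z) : H) = f * a * f⁻¹ := fun a => rfl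
    have h3 := perm_modEq (p := 5) σ (fun a => by
      apply Subtype.ext
      have h6 : ∀ n : ℕ, (((σ ^ n) a : Inv R z) : H) = f ^ n * a * (f ^ n)⁻¹ := by
        intro n
        induction n with
        | zero => simp
        | succ n ih =>
          rw [pow_succ', Equiv.Perm.mul_apply, hσ, ih, pow_succ' f n]
          group
      rw [h6, hf5, one_mul, inv_one, mul_one])
    have h4 : IsEmpty {x : Inv R z // σ x = x} := ⟨fun x => by
      have h5 : f * (x.1 : H) * f⁻¹ = x.1 := congrArg Subtype.val x.2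
      have h6 : f * (x.1 : H) = x.1 * f := mul_inv_eq_iff_eq_mul.1 h5
      apply hf
      have hnp := h.not_pm x.1.2.2.2.1 x.1.2.2.2.2
      have hcomm : ∀ w, φ (x.1 : H) (φ f w) = φ f (φ (x.1 : H) w) := fun w => by
        rw [← MulAut.mul_apply, ← map_mul, ← h6, map_mul, MulAut.mul_apply]
      refine h.five' (sq_act x.1.2.2.1) hnp.1 hnp.2 hf5 ?_ ?_
      · intro w hw
        rw [mem_Pl, hcomm, mem_Pl.1 hw]
      · intro w hw
        rw [mem_Mi, hcomm, mem_Mi.1 hw, map_inv]⟩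
    rw [Nat.card_of_isEmpty] at h3
    exact h3.symm
  have h6 := h.inv_nonempty
  rw [Nat.ModEq] at h2 h5
  omega

/-- an element of order three of `H` centralizes a noncentral involution of `R` -/
theorem exists_comm {x : H} (hx : x ^ 3 = 1) : ∃ a : Inv R z, x * (a : H) = a * x := by
  have := h.finite
  have hn := h.normal
  have : Fact (Nat.Prime 3) := ⟨Nat.prime_three⟩
  have hc : ∀ (g : H) {a : H}, a ∈ R ∧ a * a = 1 ∧ a ≠ 1 ∧ a ≠ z →
      g * a * g⁻¹ ∈ R ∧ g * a * g⁻¹ * (g * a * g⁻¹) = 1 ∧ g * a * g⁻¹ ≠ 1 ∧ g * a * g⁻¹ ≠ z := by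
    rintro g a ⟨ha, haa, ha1, haz⟩
    refine ⟨hn.conj_mem a ha g, ?_, ?_, ?_⟩
    · calc g * a * g⁻¹ * (g * a * g⁻¹) = g * (a * a) * g⁻¹ := by group
        _ = 1 := by rw [haa, mul_one, mul_inv_cancel]
    · intro h2
      rw [mul_inv_eq_one, mul_eq_left] at h2
      exact ha1 h2
    · intro h2
      rw [mul_inv_eq_iff_eq_mul, ← h.z_comm, mul_right_inj] at h2
      exact haz h2
  let σ : Equiv.Perm (Inv R z) :=
    { toFun := fun a => ⟨x * (a : H) * x⁻¹, hc x a.2⟩
      invFun := fun a => ⟨x⁻¹ * (a : H) * x⁻¹⁻¹, hc x⁻¹ a.2⟩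
      left_inv := fun a => Subtype.ext (by
        change x⁻¹ * (x * (a : H) * x⁻¹) * x⁻¹⁻¹ = a
        group)
      right_inv := fun a => Subtype.ext (by
        change x * (x⁻¹ * (a : H) * x⁻¹⁻¹) * x⁻¹ = a
        group) }
  have hσ : ∀ a : Inv R z, ((σ a : Inv R z) : H) = x * a * x⁻¹ := fun a => rfl
  have h3 := perm_modEq (p := 3) σ (fun a => by
    apply Subtype.ext
    have h6 : ∀ n : ℕ, (((σ ^ n) a : Inv R z) : H) = x ^ n * a * (x ^ n)⁻¹ := by
      intro n
      induction n with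
      | zero => simp
      | succ n ih =>
        rw [pow_succ', Equiv.Perm.mul_apply, hσ, ih, pow_succ' x n]
        group
    rw [h6, hx, one_mul, inv_one, mul_one])
  rw [h.card_inv, Nat.ModEq] at h3
  have h4 : Nat.card {a : Inv R z // σ a = a} ≠ 0 := by
    intro h4
    rw [h4] at h3
    omega
  obtain ⟨⟨a, ha⟩⟩ := (Nat.card_ne_zero.1 h4).1
  have h5 : x * (a : H) * x⁻¹ = a := congrArg Subtype.val ha
  exact ⟨a, mul_inv_eq_iff_eq_mul.1 h5⟩

/-- an element of order three centralizing a noncentral involution `a` acts nontrivially on the fixed space -/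
theorem nontriv {x : H} (hx : x ^ 3 = 1) (hx1 : x ≠ 1) (a : Inv R z) (hxa : x * (a : H) = a * x) :
    ∃ w ∈ Pl φ (a : H), φ x w ≠ w := by
  by_contra hcon
  push Not at hcon
  have hn := h.normal
  obtain ⟨a, haR, haa, ha1, haz⟩ := a
  simp only at hxa hcon
  obtain ⟨b, hbR, hab⟩ : ∃ b ∈ R, a * b ≠ b * a := by
    by_contra hcon
    push Not at hcon
    rcases h.cen a haR hcon with h1 | h1
    · exact ha1 h1
    · exact haz h1
  have hab' : a * b = z * (b * a) := (h.comm a haR b hbR).resolve_left hab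
  -- `b` interchanges the eigenspaces
  have hbP : ∀ {w : W}, w ∈ Pl φ a → φ b w ∈ Mi φ a := by
    intro w hw
    rw [mem_Mi, ← MulAut.mul_apply, ← map_mul, hab', map_mul, MulAut.mul_apply, map_mul, MulAut.mul_apply,
      mem_Pl.1 hw, h.z_inv]
  have hbM : ∀ {w : W}, w ∈ Mi φ a → φ b w ∈ Pl φ a := by
    intro w hw
    rw [mem_Pl, ← MulAut.mul_apply, ← map_mul, hab', map_mul, MulAut.mul_apply, map_mul, MulAut.mul_apply,
      mem_Mi.1 hw, h.z_inv, map_inv, inv_inv]
  have hbb : b * b = 1 ∨ b * b = z := h.sq b hbR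
  -- `φ b⁻¹` as well
  have hbM' : ∀ {w : W}, w ∈ Mi φ a → φ b⁻¹ w ∈ Pl φ a := by
    intro w hw
    have h1 : b⁻¹ = b ∨ b⁻¹ = z * b := by
      rcases hbb with h1 | h1
      · left; exact inv_eq_of_mul_eq_one_left h1
      · right; rw [inv_eq_iff_mul_eq_one, ← mul_assoc, h.z_comm, mul_assoc, h1, h.zz]
    rcases h1 with h1 | h1
    · rw [h1]; exact hbM hw
    · rw [h1, map_mul, MulAut.mul_apply, h.z_inv]
      exact inv_mem (hbM hw)
  have hx' : ∀ w ∈ Mi φ a, φ (b * x * b⁻¹) w = w := by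
    intro w hw
    rw [map_mul, MulAut.mul_apply, map_mul, MulAut.mul_apply, hcon _ (hbM' hw), ← MulAut.mul_apply, ← map_mul,
      mul_inv_cancel, map_one]
    rfl
  -- the two commute
  have hxM : ∀ w ∈ Mi φ a, φ x w ∈ Mi φ a := by
    intro w hw
    rw [mem_Mi, ← MulAut.mul_apply, ← map_mul, ← hxa, map_mul, MulAut.mul_apply, mem_Mi.1 hw, map_inv]
  have hxa' : (b * x * b⁻¹) * a = a * (b * x * b⁻¹) := by
    have h1 : b⁻¹ * a = z * (a * b⁻¹) := by
      have h2 : a * b = z * (b * a) := hab'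
      calc b⁻¹ * a = b⁻¹ * (a * b) * b⁻¹ := by group
        _ = (b⁻¹ * z) * b * a * b⁻¹ := by rw [h2]; group
        _ = (z * b⁻¹) * b * a * b⁻¹ := by rw [h.z_comm]
        _ = z * (a * b⁻¹) := by group
    have h3 : b * a = z * (a * b) := by rw [hab', ← mul_assoc, h.zz, one_mul]
    calc (b * x * b⁻¹) * a = b * x * (b⁻¹ * a) := by group
      _ = (b * x * z) * (a * b⁻¹) := by rw [h1]; group
      _ = (z * (b * x)) * (a * b⁻¹) := by rw [h.z_comm]
      _ = z * b * (x * a) * b⁻¹ := by group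
      _ = z * (b * a) * x * b⁻¹ := by rw [hxa]; group
      _ = (z * z) * (a * b) * x * b⁻¹ := by rw [h3]; group
      _ = a * (b * x * b⁻¹) := by rw [h.zz]; group
  have hx'P : ∀ w ∈ Pl φ a, φ (b * x * b⁻¹) w ∈ Pl φ a := by
    intro w hw
    rw [mem_Pl, ← MulAut.mul_apply, ← map_mul, ← hxa', map_mul φ (b * x * b⁻¹) a, MulAut.mul_apply, mem_Pl.1 hw]
  have hcomm : x * (b * x * b⁻¹) = (b * x * b⁻¹) * x := by
    apply h.eq_of_act
    intro w
    obtain ⟨p, hp, m, hm, rfl⟩ := h.symp.decomp (sq_act (φ := φ) haa) w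
    rw [map_mul (φ _), map_mul (φ _)]
    congr 1
    · rw [map_mul φ x, MulAut.mul_apply, map_mul φ (b * x * b⁻¹) x, MulAut.mul_apply, hcon p hp,
        hcon _ (hx'P p hp)]
    · rw [map_mul φ x, MulAut.mul_apply, map_mul φ (b * x * b⁻¹) x, MulAut.mul_apply, hx' m hm, hx' _ (hxM m hm)]
  have h1 : b * x * b⁻¹ * x⁻¹ ∈ R := by
    have : b * x * b⁻¹ * x⁻¹ = b * (x * b⁻¹ * x⁻¹) := by group
    rw [this]
    exact mul_mem hbR (hn.conj_mem _ (inv_mem hbR) x)
  have h2 : (b * x * b⁻¹ * x⁻¹) ^ 3 = 1 := by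
    have h3 : Commute (b * x * b⁻¹) x⁻¹ := (show Commute (b * x * b⁻¹) x from hcomm.symm).inv_right
    rw [h3.mul_pow, inv_pow, hx, inv_one, mul_one, conj_pow, hx, mul_one, mul_inv_cancel]
  have h3 := h.eq_one_of_pow h1 (n := 3) (by norm_num) h2
  rw [mul_inv_eq_one] at h3
  apply hx1
  apply h.faithful
  intro w
  obtain ⟨p, hp, m, hm, rfl⟩ := h.symp.decomp (sq_act (φ := φ) haa) w
  have h4 := hx' m hm
  rw [h3] at h4
  rw [map_mul, hcon p hp, h4]

end HHyp

end Cfsg.Agent.H342.Co2H
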