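import Mathlib
import Cfsg.Agent.H342.Co2H2

/-!
# The group `2^{1+4}.A₅` acting on a symplectic space of order `3⁴`: irreducibility, perfectness
-/

set_option autoImplicit false

namespace Cfsg.Agent.H342.Co2H

open Subgroup Cfsg.Agent.H342.SympLoc

variable {H W A : Type*} [Group H] [CommGroup W] [CommGroup A]

namespace HHyp

variable {R : Subgroup H} {z : H} {φ : H →* MulAut W} {B : W →* W →* A} (h : HHyp R z φ B)
include h

/-- **`R` is irreducible** -/
theorem irred (T : Subgroup W) (hT : ∀ r ∈ R, ∀ t ∈ T, φ r t ∈ T) : T = ⊥ ∨ T = ⊤ := by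
  have := h.finite
  have := h.symp.finite
  have hsqr : ∀ a : Inv R z, Nat.card T = Nat.card (T ⊓ Pl φ (a : H) : Subgroup W) ^ 2 := by
    rintro ⟨a, haR, haa, ha1, haz⟩
    simp only
    obtain ⟨b, hbR, hab⟩ : ∃ b ∈ R, a * b ≠ b * a := by
      by_contra hcon
      push Not at hcon
      rcases h.cen a haR hcon with h1 | h1
      · exact ha1 h1
      · exact haz h1
    have hab' : a * b = z * (b * a) := (h.comm a haR b hbR).resolve_left hab
    have hbP : ∀ {w : W}, w ∈ Pl φ a → φ b w ∈ Mi φ a := by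
      intro w hw
      rw [mem_Mi, ← MulAut.mul_apply, ← map_mul, hab', map_mul, MulAut.mul_apply, map_mul, MulAut.mul_apply,
        mem_Pl.1 hw, h.z_inv]
    have hbM : ∀ {w : W}, w ∈ Mi φ a → φ b w ∈ Pl φ a := by
      intro w hw
      rw [mem_Pl, ← MulAut.mul_apply, ← map_mul, hab', map_mul, MulAut.mul_apply, map_mul, MulAut.mul_apply,
        mem_Mi.1 hw, h.z_inv, map_inv, inv_inv]
    have h1 : Nat.card (T ⊓ Pl φ a : Subgroup W) ≤ Nat.card (T ⊓ Mi φ a : Subgroup W) := by
      refine Nat.card_le_card_of_injective (fun w => ⟨φ b w, hT b hbR w w.2.1, hbP w.2.2⟩) ?_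
      intro v w hvw
      exact Subtype.ext ((φ b).injective (congrArg (fun y : (T ⊓ Mi φ a : Subgroup W) => (y : W)) hvw))
    have h2 : Nat.card (T ⊓ Mi φ a : Subgroup W) ≤ Nat.card (T ⊓ Pl φ a : Subgroup W) := by
      refine Nat.card_le_card_of_injective (fun w => ⟨φ b w, hT b hbR w w.2.1, hbM w.2.2⟩) ?_
      intro v w hvw
      exact Subtype.ext ((φ b).injective (congrArg (fun y : (T ⊓ Pl φ a : Subgroup W) => (y : W)) hvw))
    have h3 : Nat.card T = Nat.card (T ⊓ Pl φ a : Subgroup W) * Nat.card (T ⊓ Mi φ a : Subgroup W) := by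
      rw [← Nat.card_prod]
      refine (Nat.card_congr (Equiv.ofBijective
        (fun x : (T ⊓ Pl φ a : Subgroup W) × (T ⊓ Mi φ a : Subgroup W) =>
          (⟨(x.1 : W) * x.2, mul_mem x.1.2.1 x.2.2.1⟩ : T)) ⟨?_, ?_⟩)).symm
      · rintro ⟨x, y⟩ ⟨c, d⟩ hx
        have hx' : (x : W) * y = c * d := congrArg (fun y : T => (y : W)) hx
        have h1 : (c : W)⁻¹ * x = d * (y : W)⁻¹ := by
          rw [inv_mul_eq_iff_eq_mul, ← mul_assoc, ← hx', mul_inv_cancel_right]
        have h2 : (c : W)⁻¹ * x ∈ Pl φ a := mul_mem (inv_mem c.2.2) x.2.2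
        have h3 : (c : W)⁻¹ * x ∈ Mi φ a := h1 ▸ mul_mem d.2.2 (inv_mem y.2.2)
        have h4 := h.symp.inter h2 h3
        rw [inv_mul_eq_one] at h4
        rw [← h4, mul_right_inj] at hx'
        exact Prod.ext (Subtype.ext h4.symm) (Subtype.ext hx')
      · rintro ⟨t, ht⟩
        have h5 : φ a t ∈ T := hT a haR t ht
        have h6 := sq_act (φ := φ) haa t
        refine ⟨(⟨(t * φ a t) ^ 2, pow_mem (mul_mem ht h5) 2, ?_⟩, ⟨(t * (φ a t)⁻¹) ^ 2,
          pow_mem (mul_mem ht (inv_mem h5)) 2, ?_⟩), ?_⟩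
        · apply mem_Pl.2
          rw [map_pow, map_mul, h6, mul_comm]
        · apply mem_Mi.2
          rw [map_pow, map_mul, map_inv, h6, ← inv_pow, mul_inv, inv_inv, mul_comm]
        · apply Subtype.ext
          change (t * φ a t) ^ 2 * (t * (φ a t)⁻¹) ^ 2 = t
          rw [← mul_pow]
          have h1 : t * φ a t * (t * (φ a t)⁻¹) = t * t := by
            rw [mul_mul_mul_comm, mul_inv_cancel, mul_one]
          rw [h1, ← pow_two, ← pow_mul]
          have h2 := h.symp.cube t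
          rw [show 2 * 2 = 3 + 1 by rfl, pow_succ, h2, one_mul]
    rw [h3, pow_two, le_antisymm h2 h1]
  have hdvd : ∀ a : Inv R z, Nat.card (T ⊓ Pl φ (a : H) : Subgroup W) ∣ 9 := by
    intro a
    rw [← (h.proper a).1]
    exact Subgroup.card_dvd_of_le inf_le_right
  have hcases : ∀ n : ℕ, n ∣ 9 → n = 1 ∨ n = 3 ∨ n = 9 := by
    intro n hn
    have := Nat.le_of_dvd (by norm_num) hn
    interval_cases n <;> omega
  by_cases h9 : Nat.card T = 9
  · exfalso
    have h1 := h.count T 2 (fun a => by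
      have h2 := hsqr a
      rw [h9] at h2
      rcases hcases _ (hdvd a) with h3 | h3 | h3 <;> rw [h3] at h2 ⊢ <;> omega)
    rw [h.card_inv, h9] at h1
    omega
  · obtain ⟨⟨a⟩⟩ := (Nat.card_ne_zero.1 h.inv_nonempty).1
    rename_i ha
    have h2 := hsqr ⟨a, ha⟩
    rcases hcases _ (hdvd ⟨a, ha⟩) with h3 | h3 | h3
    · left
      rw [h3] at h2
      exact Subgroup.eq_bot_of_card_eq _ h2
    · rw [h3] at h2
      omega
    · right
      rw [h3] at h2
      exact Subgroup.eq_top_of_card_eq _ (by rw [h2, h.symp.card]; norm_num)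

/-- an element of order five centralizes only `⟨z⟩` in `R` -/
theorem card_fix_five {f : H} (hf5 : f ^ 5 = 1) (hf : ¬ ∀ w, φ f w = w) : Nat.card (fixS R (MulAut.conj f)) = 2 := by
  have := h.finite
  have hn := h.normal
  have : Fact (Nat.Prime 5) := ⟨Nat.prime_five⟩
  have h1 := fixS_modEq (p := 5) R (MulAut.conj f) (fun t ht => hn.conj_mem t ht f)
    (fun t _ => conj_pow_five hf5 t)
  have h2 := card_fixS_dvd R (MulAut.conj f)
  rw [h.cardR] at h1 h2
  have h3 : Nat.card (fixS R (MulAut.conj f)) ≠ 32 := by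
    intro h3
    have h4 := fixS_eq_of_card (h3.trans h.cardR.symm)
    obtain ⟨⟨a⟩⟩ := (Nat.card_ne_zero.1 h.inv_nonempty).1
    rename_i ha
    have h5 := h4 a ha.1
    rw [MulAut.conj_apply, mul_inv_eq_iff_eq_mul] at h5
    apply hf
    have hnp := h.not_pm ha.2.2.1 ha.2.2.2
    have hcomm : ∀ w, φ a (φ f w) = φ f (φ a w) := fun w => by
      rw [← MulAut.mul_apply, ← map_mul, ← h5, map_mul, MulAut.mul_apply]
    refine h.five' (sq_act ha.2.1) hnp.1 hnp.2 hf5 ?_ ?_
    · intro w hw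
      rw [mem_Pl, hcomm, mem_Pl.1 hw]
    · intro w hw
      rw [mem_Mi, hcomm, mem_Mi.1 hw, map_inv]
  have h4 := Nat.le_of_dvd (by norm_num) h2
  rw [Nat.ModEq] at h1
  generalize Nat.card (fixS R (MulAut.conj f)) = n at *
  interval_cases n <;> omega

/-- **a normal subgroup covering `H/R` is everything** -/
theorem eq_top {N : Subgroup H} (hN : N.Normal) (hNR : N ⊔ R = ⊤) : N = ⊤ := by
  have := h.finite
  have hn := h.normal
  obtain ⟨f, hf5, hfR, hf⟩ := h.exists_five
  have hfix := h.card_fix_five hf5 hf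
  -- `f ∈ N`
  have hfN : f ∈ N := by
    have h1 : f ^ N.index ∈ N := N.pow_index_mem f
    have h2 : N.index ∣ 32 := by
      have h3 := Subgroup.relIndex_sup_right R N
      rw [sup_comm, hNR, relIndex_top_right] at h3
      rw [h3, ← h.cardR]
      exact Subgroup.relIndex_dvd_card _ _
    have h3 : Nat.Coprime N.index 5 := Nat.Coprime.coprime_dvd_left h2 (by norm_num)
    have h4 : f ^ (Nat.gcd N.index 5) ∈ N := by
      have h5 : (f : H) ^ ((Nat.gcd N.index 5 : ℕ) : ℤ) = (f ^ N.index) ^ (Nat.gcdA N.index 5) *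
          (f ^ 5) ^ (Nat.gcdB N.index 5) := by
        rw [Nat.gcd_eq_gcd_ab, zpow_add, zpow_mul, zpow_mul, zpow_natCast]
        norm_cast
      rw [zpow_natCast] at h5
      rw [h5, hf5, one_zpow, mul_one]
      exact zpow_mem h1 _
    rw [h3, pow_one] at h4
    exact h4
  -- many commutators
  have h16 : 16 ≤ Nat.card (N ⊓ R : Subgroup H) := by
    let ψ : R → (N ⊓ R : Subgroup H) := fun r =>
      ⟨(r : H) * f * (r : H)⁻¹ * f⁻¹, Subgroup.mem_inf.2 ⟨mul_mem (hN.conj_mem f hfN r) (inv_mem hfN), by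
        have : (r : H) * f * (r : H)⁻¹ * f⁻¹ = r * (f * (r : H)⁻¹ * f⁻¹) := by group
        rw [this]
        exact mul_mem r.2 (hn.conj_mem _ (inv_mem r.2) f)⟩⟩
    -- the map from `R` to the product with the centralizer is injective
    have h1 : Nat.card R ≤ Nat.card ((N ⊓ R : Subgroup H) × fixS R (MulAut.conj f)) := by
      -- choose representatives of the fibres
      classical
      have hsec : ∀ c : (N ⊓ R : Subgroup H), ∃ s : R, (∃ r, ψ r = c) → ψ s = c := by
        intro c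
        by_cases hc : ∃ r, ψ r = c
        · obtain ⟨r, hr⟩ := hc
          exact ⟨r, fun _ => hr⟩
        · exact ⟨1, fun hc' => absurd hc' hc⟩
      choose s hs using hsec
      have hmem : ∀ r : R, ((s (ψ r) : H))⁻¹ * r ∈ fixS R (MulAut.conj f) := by
        intro r
        refine ⟨mul_mem (inv_mem (s (ψ r)).2) r.2, ?_⟩
        have h2 := hs (ψ r) ⟨r, rfl⟩
        have h3 : (s (ψ r) : H) * f * (s (ψ r) : H)⁻¹ * f⁻¹ = r * f * (r : H)⁻¹ * f⁻¹ :=
          congrArg (fun y : (N ⊓ R : Subgroup H) => (y : H)) h2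
        have h4 : (s (ψ r) : H) * f * (s (ψ r) : H)⁻¹ = r * f * (r : H)⁻¹ := mul_right_cancel h3
        rw [MulAut.conj_apply]
        calc f * ((s (ψ r) : H)⁻¹ * r) * f⁻¹ = (s (ψ r) : H)⁻¹ * ((s (ψ r) : H) * f * (s (ψ r) : H)⁻¹) * r * f⁻¹ := by
              group
          _ = (s (ψ r) : H)⁻¹ * r := by rw [h4]; group
      refine Nat.card_le_card_of_injective (fun r => (ψ r, ⟨_, hmem r⟩)) ?_
      intro r t hrt
      have h2 : ψ r = ψ t := congrArg Prod.fst hrt
      have h3 : ((s (ψ r) : H))⁻¹ * r = ((s (ψ t) : H))⁻¹ * t :=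
        congrArg (fun y => ((Prod.snd y : fixS R (MulAut.conj f)) : H)) hrt
      rw [h2, mul_right_inj] at h3
      exact Subtype.ext h3
    rw [Nat.card_prod, hfix, h.cardR] at h1
    omega
  have hdvd : Nat.card (N ⊓ R : Subgroup H) ∣ 32 := by
    rw [← h.cardR]
    exact Subgroup.card_dvd_of_le inf_le_right
  have h32 : Nat.card (N ⊓ R : Subgroup H) = 32 := by
    have h1 : Nat.card (N ⊓ R : Subgroup H) = 16 ∨ Nat.card (N ⊓ R : Subgroup H) = 32 := by
      have h2 := Nat.le_of_dvd (by norm_num) hdvd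
      generalize Nat.card (N ⊓ R : Subgroup H) = n at *
      interval_cases n <;> omega
    rcases h1 with h1 | h1
    · exfalso
      have hnr : (N ⊓ R : Subgroup H).Normal := inferInstance
      have : Fact (Nat.Prime 5) := ⟨Nat.prime_five⟩
      have h2 := fixS_modEq (p := 5) (N ⊓ R) (MulAut.conj f) (fun t ht => hnr.conj_mem t ht f)
        (fun t _ => conj_pow_five hf5 t)
      have h3 := card_fixS_dvd (N ⊓ R) (MulAut.conj f)
      have h4 : Nat.card (fixS (N ⊓ R) (MulAut.conj f)) ∣ 2 := by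
        rw [← hfix]
        exact Subgroup.card_dvd_of_le fun x hx => ⟨hx.1.2, hx.2⟩
      rw [h1] at h2 h3
      have h5 : Nat.card (fixS (N ⊓ R) (MulAut.conj f)) ≠ 1 := by
        intro h5
        have h6 := Subgroup.eq_bot_of_card_eq _ h5
        obtain ⟨d, hd, hd1⟩ : ∃ d ∈ N ⊓ R, d ≠ 1 := by
          by_contra hcon
          push Not at hcon
          have h7 : (N ⊓ R : Subgroup H) = ⊥ := (Subgroup.eq_bot_iff_forall _).2 hcon
          rw [h7, Subgroup.card_bot] at h1
          omega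
        have h8 := h.z_mem_of_ne hnr hd hd.2 hd1
        apply h.z1
        rw [← mem_bot, ← h6]
        refine ⟨h8, ?_⟩
        rw [MulAut.conj_apply, h.z_comm f, mul_inv_cancel_right]
      have h6 := Nat.le_of_dvd (by norm_num) h4
      rw [Nat.ModEq] at h2
      generalize Nat.card (fixS (N ⊓ R) (MulAut.conj f)) = n at *
      interval_cases n <;> omega
    · exact h1
  have h1 : N ⊓ R = R := Subgroup.eq_of_le_of_card_ge inf_le_right (by rw [h32, h.cardR])
  have h2 : R ≤ N := inf_eq_right.1 h1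
  rw [← hNR, sup_eq_left.2 h2]

/-- abelian normal subgroups lie in `R` -/
theorem abelian_le {N : Subgroup H} (hN : N.Normal) (hab : ∀ a ∈ N, ∀ b ∈ N, a * b = b * a) : N ≤ R := by
  rcases h.simp N hN with h1 | h1
  · exact h1
  · exfalso
    have h2 := h.eq_top hN h1
    obtain ⟨f, hf5, hfR, hf⟩ := h.exists_five
    apply hfR
    apply h.centerless
    intro g
    rw [hab f (h2 ▸ mem_top f) g (h2 ▸ mem_top g)]
    have : g * f * f⁻¹ * g⁻¹ = 1 := by group
    rw [this]
    exact one_mem _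

end HHyp

end Cfsg.Agent.H342.Co2H
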