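import Mathlib
import Cfsg.Prelude.Def_Solvable
import Cfsg.Agent.Transfer.Extraspecial
import Cfsg.Agent.H342.Co2H3

/-!
# The action of `C / Q` on `Q / Z(Q)` for an extraspecial normal subgroup `Q`, and the commutator pairing
-/

set_option autoImplicit false

namespace Cfsg.Agent.H342.Co2Act

open Subgroup Cfsg.Agent.H342.SympLoc Cfsg.Agent.H342.Co2H Cfsg.Agent.Transfer
open scoped commutatorElement IsMulCommutative

section Act

variable {X : Type*} [Group X] (Q : Subgroup X) [hQn : Q.Normal]

/-- the action on the abelianization of a normal subgroup -/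
noncomputable def act0 : X →* MulAut (Abelianization Q) where
  toFun x := (MulAut.conjNormal x : MulAut Q).abelianizationCongr
  map_one' := by
    rw [map_one]
    exact abelianizationCongr_refl
  map_mul' x y := by
    rw [map_mul]
    exact (abelianizationCongr_trans (MulAut.conjNormal y : MulAut Q) (MulAut.conjNormal x : MulAut Q)).symm

theorem act0_of (x : X) (q : Q) : act0 Q x (Abelianization.of q) =
    Abelianization.of (⟨x * q * x⁻¹, hQn.conj_mem q q.2 x⟩ : Q) := by
  change (MulAut.conjNormal x : MulAut Q).abelianizationCongr (Abelianization.of q) = _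
  rw [abelianizationCongr_of]
  congr 1

theorem act0_mem {x : X} (hx : x ∈ Q) : act0 Q x = 1 := by
  ext w
  obtain ⟨q, rfl⟩ := QuotientGroup.mk_surjective w
  change act0 Q x (Abelianization.of q) = Abelianization.of q
  rw [act0_of]
  have h1 : (⟨x * q * x⁻¹, hQn.conj_mem q q.2 x⟩ : Q) = ⟨x, hx⟩ * q * ⟨x, hx⟩⁻¹ := rfl
  rw [h1, map_mul, map_mul, map_inv, mul_comm, inv_mul_cancel_left]

/-- the action of the quotient -/
noncomputable def act : X ⧸ Q →* MulAut (Abelianization Q) :=
  QuotientGroup.lift Q (act0 Q) fun _ hx => act0_mem Q hx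

theorem act_mk (x : X) (q : Q) : act Q (x : X ⧸ Q) (Abelianization.of q) =
    Abelianization.of (⟨x * q * x⁻¹, hQn.conj_mem q q.2 x⟩ : Q) := act0_of Q x q

end Act

section Pair

variable {E : Type*} [Group E] (hc : ∀ a b : E, ⁅a, b⁆ ∈ center E)

/-- commutation with `a` -/
def pair0 (a : E) : E →* center E where
  toFun b := ⟨⁅a, b⁆, hc a b⟩
  map_one' := Subtype.ext (by simp)
  map_mul' b c := Subtype.ext (CentralComm.comm_mul_right hc a b c)

/-- the commutator pairing -/
noncomputable def pair : Abelianization E →* Abelianization E →* center E :=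
  Abelianization.lift
    { toFun := fun a => Abelianization.lift (pair0 hc a)
      map_one' := by
        apply Abelianization.hom_ext
        ext b
        change (Abelianization.lift (pair0 hc 1) (Abelianization.of b) : E) = 1
        rw [Abelianization.lift_apply_of]
        change ⁅(1 : E), b⁆ = 1
        simp
      map_mul' := fun a b => by
        apply Abelianization.hom_ext
        ext c
        change ((Abelianization.lift (pair0 hc (a * b)) (Abelianization.of c) : center E) : E) =
          ((Abelianization.lift (pair0 hc a) (Abelianization.of c) *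
            Abelianization.lift (pair0 hc b) (Abelianization.of c) : center E) : E)
        rw [Abelianization.lift_apply_of, Abelianization.lift_apply_of, Abelianization.lift_apply_of]
        exact CentralComm.comm_mul_left hc a b c }

theorem pair_of (a b : E) : ((pair hc (Abelianization.of a) (Abelianization.of b) : center E) : E) = ⁅a, b⁆ := by
  change ((Abelianization.lift (pair0 hc a) (Abelianization.of b) : center E) : E) = _
  rw [Abelianization.lift_apply_of]
  rfl

end Pair

theorem of_surjective {E : Type*} [Group E] : Function.Surjective (Abelianization.of : E →* Abelianization E) :=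
  QuotientGroup.mk_surjective

theorem of_eq_one_iff {E : Type*} [Group E] {a : E} : (Abelianization.of a : Abelianization E) = 1 ↔
    a ∈ commutator E := QuotientGroup.eq_one_iff a

theorem symp {X : Type*} [Group X] (Q : Subgroup X) [hQn : Q.Normal] (hQ : Cfsg.IsExtraspecial 3 Q)
    (hcard : Nat.card Q = 243) (hz : ∀ c ∈ center Q, ∀ x : X, x * (c : X) = c * x) :
    Symp (act Q) (pair (Extraspecial.comm_mem_center hQ)) where
  card := by
    have : Finite Q := Nat.finite_of_card_ne_zero (by rw [hcard]; norm_num)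
    have h1 := Subgroup.card_eq_card_quotient_mul_card_subgroup (commutator Q)
    rw [Extraspecial.card_commutator hQ, hcard] at h1
    change Nat.card (Q ⧸ commutator Q) = 81
    omega
  cube w := by
    obtain ⟨q, rfl⟩ := of_surjective w
    rw [← map_pow, of_eq_one_iff, Extraspecial.commutator_eq_center hQ]
    exact Extraspecial.pow_mem_center hQ q
  cubeA a := Subtype.ext (Extraspecial.pow_eq_one_of_mem_center hQ a.2)
  alt w := by
    obtain ⟨q, rfl⟩ := of_surjective w
    apply Subtype.ext
    rw [pair_of]
    exact commutatorElement_self q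
  nondeg w hw := by
    obtain ⟨q, rfl⟩ := of_surjective w
    rw [of_eq_one_iff, Extraspecial.commutator_eq_center hQ, mem_center_iff]
    intro g
    have h1 := congrArg Subtype.val (hw (Abelianization.of g))
    rw [pair_of] at h1
    exact (commutatorElement_eq_one_iff_mul_comm.1 h1).symm
  inv g w v := by
    obtain ⟨x, rfl⟩ := QuotientGroup.mk_surjective g
    obtain ⟨a, rfl⟩ := of_surjective w
    obtain ⟨b, rfl⟩ := of_surjective v
    apply Subtype.ext
    rw [act_mk, act_mk, pair_of, pair_of]
    apply Subtype.ext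
    have h1 : ((⁅(⟨x * a * x⁻¹, hQn.conj_mem a a.2 x⟩ : Q), ⟨x * b * x⁻¹, hQn.conj_mem b b.2 x⟩⁆ : Q) : X) =
        x * (⁅a, b⁆ : Q) * x⁻¹ := by
      rw [commutatorElement_def, commutatorElement_def]
      simp only [Subgroup.coe_mul, Subgroup.coe_inv]
      group
    rw [h1, hz _ (Extraspecial.comm_mem_center hQ a b), mul_inv_cancel_right]

/-! ### the group `2^{1+4}.A₅` -/

theorem hhyp_of {H W A : Type*} [Group H] [Finite H] [CommGroup W] [CommGroup A] (R : Subgroup H) [hRn : R.Normal]
    (hR : Cfsg.IsExtraspecial 2 R) (hRc : Nat.card R = 32) (e : H ⧸ R ≃* alternatingGroup (Fin 5))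
    {φ : H →* MulAut W} {B : W →* W →* A} (hs : Symp φ B) (three : ∀ x : H, orderOf x = 3 → ∃ w, φ x w ≠ w) :
    ∃ z, HHyp R z φ B := by
  have hcz : Nat.card (center R) = 2 := hR.2
  obtain ⟨⟨z, hzc⟩, hz1⟩ : ∃ z : center R, z ≠ 1 := by
    have : Nontrivial (center R) := Finite.one_lt_card_iff_nontrivial.1 (by rw [hcz]; norm_num)
    exact exists_ne 1
  have hz1' : (z : R) ≠ 1 := fun h => hz1 (Subtype.ext h)
  have hcen : ∀ c ∈ center R, c = 1 ∨ c = z := by
    intro c hc
    by_cases hc1 : c = 1
    · exact Or.inl hc1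
    · right
      have h1 : (⟨c, hc⟩ : center R) = ⟨z, hzc⟩ := by
        by_contra hne
        have h2 : Nat.card ({1, ⟨c, hc⟩, ⟨z, hzc⟩} : Set (center R)) ≤ Nat.card (center R) :=
          Nat.card_le_card_of_injective Subtype.val Subtype.val_injective
        rw [Nat.card_coe_set_eq, hcz] at h2
        have h3 : ({1, ⟨c, hc⟩, ⟨z, hzc⟩} : Set (center R)).ncard = 3 := by
          rw [Set.ncard_insert_of_notMem, Set.ncard_pair hne]
          simp only [Set.mem_insert_iff, Set.mem_singleton_iff, not_or]
          exact ⟨fun h => hc1 (congrArg Subtype.val h).symm, fun h => hz1 h.symm⟩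
        omega
      exact congrArg Subtype.val h1
  have hzz : (z : R) * z = 1 := by
    have := Extraspecial.pow_eq_one_of_mem_center hR hzc
    rwa [pow_two] at this
  have hcA : Nat.card (H ⧸ R) = 60 := by
    rw [Nat.card_congr e.toEquiv]
    have h1 := two_mul_nat_card_alternatingGroup (α := Fin 5)
    rw [Nat.card_perm, Nat.card_fin] at h1
    have h2 : (5 : ℕ).factorial = 120 := rfl
    omega
  have hsimple : IsSimpleGroup (alternatingGroup (Fin 5)) := alternatingGroup.isSimpleGroup (by simp)
  let π : H →* alternatingGroup (Fin 5) := e.toMonoidHom.comp (QuotientGroup.mk' R)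
  have hπ : ∀ x, π x = 1 ↔ x ∈ R := by
    intro x
    change e (x : H ⧸ R) = 1 ↔ _
    rw [e.map_eq_one_iff, QuotientGroup.eq_one_iff]
  have hπs : Function.Surjective π := e.surjective.comp (QuotientGroup.mk'_surjective R)
  refine ⟨(z : H), hs, hRn, hRc, ?_, z.2, fun h => hz1' (Subtype.ext h), congrArg Subtype.val hzz, ?_, ?_, ?_, ?_, ?_,
    ?_, ?_, three⟩
  · rw [Subgroup.card_eq_card_quotient_mul_card_subgroup R, hcA, hRc]
  · intro r hr
    exact congrArg Subtype.val (mem_center_iff.1 hzc ⟨r, hr⟩)
  · intro r hr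
    have h1 := Extraspecial.pow_mem_center hR ⟨r, hr⟩
    rw [pow_two] at h1
    rcases hcen _ h1 with h2 | h2
    · exact Or.inl (congrArg Subtype.val h2)
    · exact Or.inr (congrArg Subtype.val h2)
  · intro r hr s hs
    have h1 := Extraspecial.comm_mem_center hR ⟨r, hr⟩ ⟨s, hs⟩
    have h3 : r * s = ((⁅(⟨r, hr⟩ : R), ⟨s, hs⟩⁆ : R) : H) * (s * r) := by
      rw [commutatorElement_def]
      simp only [Subgroup.coe_mul, Subgroup.coe_inv]
      group
    rcases hcen _ h1 with h2 | h2
    · left
      rw [h2] at h3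
      rw [h3, Subgroup.coe_one, one_mul]
    · right
      rw [h2] at h3
      exact h3
  · intro r hr hrs
    have h1 : (⟨r, hr⟩ : R) ∈ center R := mem_center_iff.2 fun g => Subtype.ext (hrs g g.2).symm
    rcases hcen _ h1 with h2 | h2
    · exact Or.inl (congrArg Subtype.val h2)
    · exact Or.inr (congrArg Subtype.val h2)
  · intro N hN
    have h1 : (N.map π).Normal := hN.map π hπs
    rcases h1.eq_bot_or_eq_top with h2 | h2
    · left
      intro x hx
      rw [← hπ, ← mem_bot, ← h2]
      exact mem_map_of_mem π hx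
    · right
      rw [eq_top_iff]
      intro x _
      have h3 : π x ∈ N.map π := h2 ▸ mem_top _
      obtain ⟨y, hy, hyx⟩ := h3
      have h4 : y⁻¹ * x ∈ R := by rw [← hπ, map_mul, map_inv, hyx, inv_mul_cancel]
      have h5 : x = y * (y⁻¹ * x) := by group
      rw [h5]
      exact mul_mem (mem_sup_left hy) (mem_sup_right h4)
  · let c1 : alternatingGroup (Fin 5) := ⟨Equiv.swap 0 1 * Equiv.swap 2 3, Equiv.Perm.mem_alternatingGroup.2 (by decide)⟩
    let c2 : alternatingGroup (Fin 5) := ⟨Equiv.swap 0 2 * Equiv.swap 1 3, Equiv.Perm.mem_alternatingGroup.2 (by decide)⟩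
    obtain ⟨a, ha⟩ := hπs c1
    obtain ⟨b, hb⟩ := hπs c2
    have h1 : c1 * c1 = 1 := by decide
    have h2 : c2 * c2 = 1 := by decide
    have h3 : c1 * c2 * c1⁻¹ * c2⁻¹ = 1 := by decide
    have h4 : c1 ≠ 1 := by decide
    have h5 : c2 ≠ 1 := by decide
    have h6 : c1 * c2 ≠ 1 := by decide
    refine ⟨a, b, ?_, ?_, ?_, ?_, ?_, ?_⟩
    · rw [← hπ, map_mul, ha, h1]
    · rw [← hπ, map_mul, hb, h2]
    · rw [← hπ, map_mul, map_mul, map_mul, map_inv, map_inv, ha, hb, h3]
    · rw [← hπ, ha]; exact h4
    · rw [← hπ, hb]; exact h5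
    · rw [← hπ, map_mul, ha, hb]; exact h6
  · intro a ha
    rw [← hπ]
    have h1 : π a ∈ center (alternatingGroup (Fin 5)) := by
      rw [mem_center_iff]
      intro g
      obtain ⟨x, rfl⟩ := hπs g
      have h2 := (hπ _).2 (ha x)
      rw [map_mul, map_mul, map_mul, map_inv, map_inv, mul_inv_eq_one, mul_inv_eq_iff_eq_mul] at h2
      exact h2.symm
    rw [alternatingGroup.center_eq_bot (by simp)] at h1
    exact mem_bot.1 h1

end Cfsg.Agent.H342.Co2Act
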