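import Mathlib
import Cfsg.Prelude.Def_CaseTheorems
import Cfsg.Agent.Lib.Cores
import Cfsg.Agent.Transfer.ExtraspecialProduct
import Cfsg.Agent.H342.Co2Act

/-!
# The structure of the centralizer `3^{1+4}.2^{1+4}.A₅`
-/

set_option autoImplicit false

namespace Cfsg.Agent.H342.Co2X

open Subgroup Cfsg.Agent.H342.SympLoc Cfsg.Agent.H342.Co2H Cfsg.Agent.Transfer Cfsg.Agent.H342.Co2Act Cfsg
open scoped commutatorElement IsMulCommutative

/-- the hypotheses on the centralizer -/
structure XHyp {X : Type*} [Group X] (Z S : Subgroup X) : Prop where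
  hQ : IsExtraspecial 3 (pCore 3 X)
  cardQ : Nat.card (pCore 3 X) = 3 ^ 5
  hR : IsExtraspecial 2 (pCore 2 (X ⧸ pCore 3 X))
  cardR : Nat.card (pCore 2 (X ⧸ pCore 3 X)) = 2 ^ 5
  e : Nonempty ((X ⧸ pCore 3 X) ⧸ pCore 2 (X ⧸ pCore 3 X) ≃* alternatingGroup (Fin 5))
  zc : Z ≤ center X
  syl : ∃ P : Sylow 3 X, (P : Subgroup X) = S
  ZS : Z ≤ S
  cenS : ∀ t ∈ S, (∀ s ∈ S, t * s = s * t) → t ∈ Z

theorem commutator_eq_center_of_equiv {E F : Type*} [Group E] [Group F] (e : E ≃* F)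
    (h : commutator F = center F) : commutator E = center E := by
  apply Subgroup.map_injective (f := e.toMonoidHom) e.injective
  have h1 : (commutator E).map e.toMonoidHom = commutator F := by
    rw [commutator_def, map_commutator, commutator_def, ← MonoidHom.range_eq_map,
      MonoidHom.range_eq_top.2 e.surjective]
  have h2 : (center E).map e.toMonoidHom = center F := by
    ext x
    constructor
    · rintro ⟨y, hy, rfl⟩
      rw [mem_center_iff]
      intro g
      obtain ⟨g, rfl⟩ := e.surjective g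
      exact ((map_mul e g y).symm.trans (congrArg e (mem_center_iff.1 hy g))).trans (map_mul e y g)
    · intro hx
      refine ⟨e.symm x, ?_, e.apply_symm_apply x⟩
      rw [SetLike.mem_coe, mem_center_iff]
      intro g
      apply e.injective
      rw [map_mul, map_mul, e.apply_symm_apply]
      exact mem_center_iff.1 hx _
  rw [h1, h2, h]

namespace XHyp

variable {X : Type*} [Group X] [Finite X] {Z S : Subgroup X} (h : XHyp Z S)
include h

theorem card_X : Nat.card X = 466560 := by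
  obtain ⟨e⟩ := h.e
  have hcA : Nat.card ((X ⧸ pCore 3 X) ⧸ pCore 2 (X ⧸ pCore 3 X)) = 60 := by
    rw [Nat.card_congr e.toEquiv]
    have h1 := two_mul_nat_card_alternatingGroup (α := Fin 5)
    rw [Nat.card_perm, Nat.card_fin] at h1
    have h2 : (5 : ℕ).factorial = 120 := rfl
    omega
  rw [Subgroup.card_eq_card_quotient_mul_card_subgroup (pCore 3 X),
    Subgroup.card_eq_card_quotient_mul_card_subgroup (pCore 2 (X ⧸ pCore 3 X)), hcA, h.cardR, h.cardQ]
  norm_num

theorem card_S : Nat.card S = 729 := by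
  have : Fact (Nat.Prime 3) := ⟨Nat.prime_three⟩
  obtain ⟨P, rfl⟩ := h.syl
  have h1 : 3 ^ 6 ∣ Nat.card P := P.pow_dvd_card_of_pow_dvd_card (by rw [h.card_X]; norm_num)
  obtain ⟨k, hk⟩ := IsPGroup.iff_card.1 P.isPGroup'
  have h2 : Nat.card P ∣ 466560 := by rw [← h.card_X]; exact Subgroup.card_subgroup_dvd_card _
  change Nat.card P = 729
  rw [hk] at h1 h2 ⊢
  have h3 : 6 ≤ k := (Nat.pow_dvd_pow_iff_le_right (by norm_num)).1 h1
  have h4 : k ≤ 6 := by
    by_contra hcon
    have h5 : 3 ^ 7 ∣ 466560 := (pow_dvd_pow 3 (by omega)).trans h2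
    norm_num at h5
  rw [le_antisymm h4 h3]
  norm_num

omit [Finite X] in
theorem isPGroup_S : IsPGroup 3 S := by
  obtain ⟨P, rfl⟩ := h.syl
  exact P.isPGroup'

omit [Finite X] in
theorem Q_le_S : pCore 3 X ≤ S := by
  obtain ⟨P, rfl⟩ := h.syl
  exact Lib.Cores.pCore_le_sylow P

theorem Z_le_Q : Z ≤ pCore 3 X := by
  apply Lib.Cores.le_pCore
  · constructor
    intro z hz g
    have h1 := mem_center_iff.1 (h.zc hz) g
    rw [h1, mul_inv_cancel_right]
    exact hz
  · exact h.isPGroup_S.to_le h.ZS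

omit [Finite X] in
theorem comm_Z {z : X} (hz : z ∈ Z) (x : X) : x * z = z * x := mem_center_iff.1 (h.zc hz) x

/-- `Z` is the centre of `Q` -/
theorem Z_eq : Z = (center (pCore 3 X)).map (pCore 3 X).subtype := by
  have : Fact (Nat.Prime 3) := ⟨Nat.prime_three⟩
  have h1 : Z ≤ (center (pCore 3 X)).map (pCore 3 X).subtype := by
    intro z hz
    refine ⟨⟨z, h.Z_le_Q hz⟩, ?_, rfl⟩
    rw [SetLike.mem_coe, mem_center_iff]
    intro g
    exact Subtype.ext (h.comm_Z hz g)
  have h2 : Nat.card ((center (pCore 3 X)).map (pCore 3 X).subtype) = 3 := by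
    rw [Subgroup.card_map_of_injective (pCore 3 X).subtype_injective]
    exact h.hQ.2
  have h3 : Nat.card Z ≠ 1 := by
    intro h3
    have h4 : Nontrivial S := by
      rw [← Finite.one_lt_card_iff_nontrivial, h.card_S]
      norm_num
    have h5 := h.isPGroup_S.center_nontrivial
    obtain ⟨t, ht⟩ := exists_ne (1 : center S)
    apply ht
    have h6 : ((t : S) : X) ∈ Z := by
      apply h.cenS _ (t : S).2
      intro s hs
      exact (congrArg Subtype.val (mem_center_iff.1 t.2 ⟨s, hs⟩)).symm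
    rw [Subgroup.eq_bot_of_card_eq _ h3, mem_bot] at h6
    exact Subtype.ext (Subtype.ext h6)
  refine Subgroup.eq_of_le_of_card_ge h1 ?_
  rw [h2]
  have h4 : Nat.card Z ∣ 3 := by
    rw [← h2]
    exact Subgroup.card_dvd_of_le h1
  rcases (Nat.dvd_prime Nat.prime_three).1 h4 with h5 | h5
  · exact absurd h5 h3
  · exact h5.ge

theorem card_Z : Nat.card Z = 3 := by
  rw [h.Z_eq, Subgroup.card_map_of_injective (pCore 3 X).subtype_injective]
  exact h.hQ.2

theorem comm_center {c : pCore 3 X} (hc : c ∈ center (pCore 3 X)) (x : X) : x * (c : X) = c * x := by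
  apply h.comm_Z
  rw [h.Z_eq]
  exact ⟨c, hc, rfl⟩

theorem mem_Z_iff {q : pCore 3 X} : (q : X) ∈ Z ↔ q ∈ center (pCore 3 X) := by
  rw [h.Z_eq]
  constructor
  · rintro ⟨c, hc, hcq⟩
    rwa [← Subtype.ext hcq]
  · intro hq
    exact ⟨q, hq, rfl⟩

theorem of_eq_one_iff' {q : pCore 3 X} : (Abelianization.of q : Abelianization (pCore 3 X)) = 1 ↔ (q : X) ∈ Z := by
  rw [of_eq_one_iff, Extraspecial.commutator_eq_center h.hQ, h.mem_Z_iff]

/-- the symplectic space -/
theorem symp : Symp (act (pCore 3 X)) (pair (Extraspecial.comm_mem_center h.hQ)) :=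
  Co2Act.symp _ h.hQ (by rw [h.cardQ]; norm_num) fun _ hc x => h.comm_center hc x

/-- elements of order three of the quotient act nontrivially -/
theorem three (y : X ⧸ pCore 3 X) (hy : orderOf y = 3) : ∃ w, act (pCore 3 X) y w ≠ w := by
  by_contra hcon
  push Not at hcon
  have : Fact (Nat.Prime 3) := ⟨Nat.prime_three⟩
  obtain ⟨x, rfl⟩ := QuotientGroup.mk_surjective y
  set Q := pCore 3 X with hQdef
  have hQn : Q.Normal := inferInstance
  have hxQ : x ∉ Q := by
    intro hx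
    rw [(QuotientGroup.eq_one_iff x).2 hx, orderOf_one] at hy
    omega
  have hx3 : x ^ 3 ∈ Q := by
    rw [← QuotientGroup.eq_one_iff, QuotientGroup.mk_pow, ← hy, pow_orderOf_eq_one]
  have hxp : IsPGroup 3 (zpowers x) := by
    have h1 : x ^ 3 ^ 6 = 1 := by
      have h2 : (⟨x ^ 3, hx3⟩ : Q) ^ Nat.card Q = 1 := pow_card_eq_one'
      have h3 := congrArg Subtype.val h2
      rw [h.cardQ] at h3
      have h4 : (x ^ 3) ^ 3 ^ 5 = 1 := h3
      rw [← pow_mul] at h4
      exact h4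
    refine IsPGroup.of_card_dvd_pow (n := 6) ?_
    rw [Nat.card_zpowers]
    exact orderOf_dvd_of_pow_eq_one h1
  obtain ⟨P, hP⟩ := h.syl
  obtain ⟨P', hP'⟩ := hxp.exists_le_sylow
  obtain ⟨g, hg⟩ := MulAction.exists_smul_eq X P' P
  set x' := g * x * g⁻¹ with hx'
  have hx'S : x' ∈ S := by
    rw [← hP]
    change g * x * g⁻¹ ∈ P
    rw [← hg]
    exact ⟨x, hP' (mem_zpowers x), rfl⟩
  have hx'Q : x' ∉ Q := by
    intro h1
    apply hxQ
    have h2 := hQn.conj_mem _ h1 g⁻¹
    have h3 : g⁻¹ * x' * g⁻¹⁻¹ = x := by rw [hx']; group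
    rwa [h3] at h2
  -- `x'` acts trivially
  have hact : ∀ w, act Q (x' : X ⧸ Q) w = w := by
    intro w
    rw [hx', QuotientGroup.mk_mul, QuotientGroup.mk_mul, QuotientGroup.mk_inv, map_mul, map_mul, map_inv,
      MulAut.mul_apply, MulAut.mul_apply, hcon, MulAut.apply_inv_self]
  have hcomm : ∀ q ∈ Q, x' * q * x'⁻¹ * q⁻¹ ∈ Z := by
    intro q hq
    have h1 := hact (Abelianization.of ⟨q, hq⟩)
    rw [act_mk] at h1
    have h2 : Abelianization.of ((⟨x' * q * x'⁻¹, hQn.conj_mem q hq x'⟩ : Q) * ⟨q, hq⟩⁻¹) = 1 := by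
      rw [map_mul, map_inv, h1, mul_inv_cancel]
    exact h.of_eq_one_iff'.1 h2
  -- the product `Q ⟨x'⟩`
  set T : Subgroup X := Q ⊔ zpowers x' with hT
  have hQT : Q ≤ T := le_sup_left
  have hx'T : x' ∈ T := mem_sup_right (mem_zpowers x')
  let e : Q.subgroupOf T ≃* Q := subgroupOfEquivOfLe hQT
  have hcen : ∀ t : T, ∀ q ∈ Q, (t : X) * q * (t : X)⁻¹ * q⁻¹ ∈ Z := by
    -- the elements acting trivially modulo `Z`
    have hsub : T ≤ (act Q).ker.comap (QuotientGroup.mk' Q) := by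
      rw [hT, sup_le_iff]
      constructor
      · intro q hq
        rw [mem_comap, MonoidHom.mem_ker]
        have : (QuotientGroup.mk' Q) q = 1 := (QuotientGroup.eq_one_iff q).2 hq
        rw [this, map_one]
      · rw [zpowers_le, mem_comap, MonoidHom.mem_ker]
        ext w
        exact hact w
    intro t q hq
    have h1 := hsub t.2
    rw [mem_comap, MonoidHom.mem_ker] at h1
    have h2 : act Q ((t : X) : X ⧸ Q) (Abelianization.of ⟨q, hq⟩) = Abelianization.of ⟨q, hq⟩ := by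
      have : act Q ((t : X) : X ⧸ Q) = 1 := h1
      rw [this]; rfl
    rw [act_mk] at h2
    have h3 : Abelianization.of ((⟨t * q * (t : X)⁻¹, hQn.conj_mem q hq t⟩ : Q) * ⟨q, hq⟩⁻¹) = 1 := by
      rw [map_mul, map_inv, h2, mul_inv_cancel]
    exact h.of_eq_one_iff'.1 h3
  have hsup := ExtraspecialProduct.sup_centralizer_eq_top_of_prime_center (Q.subgroupOf T)
    (by
      rw [Nat.card_congr (centerCongr e).toEquiv, h.hQ.2]
      exact Nat.prime_three)
    (commutator_eq_center_of_equiv e (Extraspecial.commutator_eq_center h.hQ))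
    (by
      rw [commutator_le]
      intro t _ q hq
      have h1 : ((⁅t, q⁆ : T) : X) ∈ Z := hcen t q hq
      refine Subgroup.mem_inf.2 ⟨h.Z_le_Q h1, ?_⟩
      rw [mem_centralizer_iff]
      intro s _
      exact Subtype.ext (h.comm_Z h1 s))
  -- decompose `x'`
  obtain ⟨q, hq, t, ht, hqt⟩ := Subgroup.mem_sup_of_normal_left.1 (hsup ▸ mem_top (⟨x', hx'T⟩ : T))
  have hx'e : x' = (q : X) * t := (congrArg Subtype.val hqt).symm
  have hqQ : (q : X) ∈ Q := hq
  have htQ : (t : X) ∉ Q := by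
    intro h1
    apply hx'Q
    rw [hx'e]
    exact mul_mem hqQ h1
  have htS : (t : X) ∈ S := by
    have h1 : (t : X) = (q : X)⁻¹ * x' := by rw [hx'e, inv_mul_cancel_left]
    rw [h1]
    exact mul_mem (inv_mem (h.Q_le_S hqQ)) hx'S
  have htc : ∀ s ∈ Q, (t : X) * s = s * t := by
    intro s hs
    exact (congrArg Subtype.val (mem_centralizer_iff.1 ht ⟨s, hQT hs⟩ hs)).symm
  -- `S = Q ⟨t⟩`
  have hST : S = Q ⊔ zpowers (t : X) := by
    have h1 : Q ⊔ zpowers (t : X) ≤ S := sup_le h.Q_le_S (zpowers_le.2 htS)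
    refine (Subgroup.eq_of_le_of_card_ge h1 ?_).symm
    rw [h.card_S]
    have h2 : Nat.card (Q ⊔ zpowers (t : X) : Subgroup X) ∣ 729 := by
      rw [← h.card_S]
      exact Subgroup.card_dvd_of_le h1
    have h3 : 243 ∣ Nat.card (Q ⊔ zpowers (t : X) : Subgroup X) := by
      have : Nat.card Q = 243 := by rw [h.cardQ]; norm_num
      rw [← this]
      exact Subgroup.card_dvd_of_le le_sup_left
    have h4 : Nat.card (Q ⊔ zpowers (t : X) : Subgroup X) ≠ 243 := by
      intro h5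
      have h6 : Q = Q ⊔ zpowers (t : X) := Subgroup.eq_of_le_of_card_ge le_sup_left (by
        rw [h5, h.cardQ]; norm_num)
      apply htQ
      rw [h6]
      exact mem_sup_right (mem_zpowers _)
    obtain ⟨c, hc⟩ := h3
    rw [hc] at h2 h4 ⊢
    have h5 : c ∣ 3 := by
      obtain ⟨d, hd⟩ := h2
      exact ⟨d, by nlinarith⟩
    rcases (Nat.dvd_prime Nat.prime_three).1 h5 with h6 | h6
    · rw [h6] at h4; omega
    · rw [h6]
  apply htQ
  apply h.Z_le_Q
  apply h.cenS _ htS
  intro s hs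
  rw [hST] at hs
  have h1 : (Q ⊔ zpowers (t : X) : Subgroup X) ≤ centralizer ({(t : X)} : Set X) := by
    rw [sup_le_iff]
    constructor
    · intro u hu
      exact mem_centralizer_singleton_iff.2 (htc u hu).symm
    · rw [zpowers_le]
      exact mem_centralizer_singleton_iff.2 rfl
  exact (mem_centralizer_singleton_iff.1 (h1 hs)).symm

theorem hh : ∃ z, HHyp (pCore 2 (X ⧸ pCore 3 X)) z (act (pCore 3 X)) (pair (Extraspecial.comm_mem_center h.hQ)) := by
  obtain ⟨e⟩ := h.e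
  exact hhyp_of _ h.hR (by rw [h.cardR]; norm_num) e h.symp h.three

/-- **`C_X(Q) ≤ Q`** -/
theorem cent_le {c : X} (hc : ∀ q ∈ pCore 3 X, c * q = q * c) : c ∈ pCore 3 X := by
  obtain ⟨z, hz⟩ := h.hh
  rw [← QuotientGroup.eq_one_iff]
  apply hz.faithful
  intro w
  obtain ⟨q, rfl⟩ := of_surjective w
  rw [act_mk]
  congr 1
  apply Subtype.ext
  change c * q * c⁻¹ = q
  rw [hc q q.2, mul_inv_cancel_right]

/-- **abelian normal subgroups are in `Z`** -/
theorem abelian_le {A : Subgroup X} (hA : A.Normal) (hab : ∀ a ∈ A, ∀ b ∈ A, a * b = b * a) : A ≤ Z := by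
  have : Fact (Nat.Prime 2) := ⟨Nat.prime_two⟩
  have : Fact (Nat.Prime 3) := ⟨Nat.prime_three⟩
  obtain ⟨z, hz⟩ := h.hh
  set Q := pCore 3 X with hQdef
  have hQn : Q.Normal := inferInstance
  -- the image in the quotient is a `2`-group
  have h1 : (A.map (QuotientGroup.mk' Q)) ≤ pCore 2 (X ⧸ Q) := by
    apply hz.abelian_le (hA.map _ (QuotientGroup.mk'_surjective Q))
    rintro _ ⟨a, ha, rfl⟩ _ ⟨b, hb, rfl⟩
    rw [← map_mul, ← map_mul, hab a ha b hb]
  -- elements of order prime to three are trivial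
  have h2 : ∀ a ∈ A, ∀ n : ℕ, n.Coprime 3 → a ^ n = 1 → a ∈ Q := by
    intro a ha n hn han
    apply h.cent_le
    -- `a` centralizes `Q`
    -- the subgroup of `A` of elements of order dividing `n`
    intro q hq
    have h3 : a * q * a⁻¹ * q⁻¹ ∈ Q := mul_mem (hQn.conj_mem q hq a) (inv_mem hq)
    have h4 : a * q * a⁻¹ * q⁻¹ ∈ A := by
      have : a * q * a⁻¹ * q⁻¹ = a * (q * a⁻¹ * q⁻¹) := by group
      rw [this]
      exact mul_mem ha (hA.conj_mem _ (inv_mem ha) q)
    have h5 : (a * q * a⁻¹ * q⁻¹) ^ n = 1 := by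
      have h6 : a * q * a⁻¹ * q⁻¹ = a * (q * a⁻¹ * q⁻¹) := by group
      have h7 : Commute a (q * a⁻¹ * q⁻¹) := hab a ha _ (hA.conj_mem _ (inv_mem ha) q)
      rw [h6, h7.mul_pow, conj_pow, inv_pow, han, inv_one, mul_one, mul_inv_cancel, mul_one]
    have h6 : orderOf (a * q * a⁻¹ * q⁻¹) ∣ 3 ^ 5 := by
      have : orderOf (⟨_, h3⟩ : Q) = orderOf (a * q * a⁻¹ * q⁻¹) := Subgroup.orderOf_mk _ h3
      rw [← this, ← h.cardQ]
      exact orderOf_dvd_natCard _
    have h7 : orderOf (a * q * a⁻¹ * q⁻¹) ∣ n := orderOf_dvd_of_pow_eq_one h5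
    have h8 : Nat.Coprime (3 ^ 5) n := Nat.Coprime.pow_left 5 hn.symm
    have h9 := orderOf_eq_one_iff.1 (Nat.eq_one_of_dvd_coprimes h8 h6 h7)
    rw [mul_inv_eq_one, mul_inv_eq_iff_eq_mul] at h9
    exact h9
  -- `A ≤ Q`
  have hAQ : A ≤ Q := by
    intro a ha
    -- `a^32 ∈ Q`
    have h3 : (a : X ⧸ Q) ^ 32 = 1 := by
      have h4 : (a : X ⧸ Q) ∈ pCore 2 (X ⧸ Q) := h1 ⟨a, ha, rfl⟩
      have h5 : (⟨_, h4⟩ : pCore 2 (X ⧸ Q)) ^ Nat.card (pCore 2 (X ⧸ Q)) = 1 := pow_card_eq_one'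
      have h6 := congrArg Subtype.val h5
      rw [h.cardR] at h6
      exact h6
    have h4 : a ^ 32 ∈ Q := by
      rw [← QuotientGroup.eq_one_iff, QuotientGroup.mk_pow, h3]
    have h5 : (a ^ 32) ^ 243 = 1 := by
      have h2 : (⟨a ^ 32, h4⟩ : Q) ^ Nat.card Q = 1 := pow_card_eq_one'
      have h3 := congrArg Subtype.val h2
      rw [h.cardQ] at h3
      have h4 : (a ^ 32) ^ 3 ^ 5 = 1 := h3
      exact h4
    have h6 : a ^ 243 ∈ Q := by
      apply h2 _ (pow_mem ha 243) 32 (by norm_num)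
      rw [← pow_mul, mul_comm, pow_mul]
      exact h5
    -- `a` is a combination of `a^32` and `a^243`
    have h7 : a = (a ^ 32) ^ 38 * ((a ^ 243) ^ 5)⁻¹ := by
      rw [eq_mul_inv_iff_mul_eq, ← pow_mul, ← pow_mul, ← pow_succ']
    rw [h7]
    exact mul_mem (pow_mem h4 _) (inv_mem (pow_mem h6 _))
  -- the image in the symplectic space
  let T : Subgroup (Abelianization Q) := (A.subgroupOf Q).map Abelianization.of
  rcases hz.irred T (by
    intro r _ t ht
    obtain ⟨a, ha, rfl⟩ := ht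
    obtain ⟨x, rfl⟩ := QuotientGroup.mk_surjective r
    rw [act_mk]
    exact ⟨_, hA.conj_mem _ ha x, rfl⟩) with h3 | h3
  · intro a ha
    have h4 : Abelianization.of (⟨a, hAQ ha⟩ : Q) ∈ T := ⟨_, ha, rfl⟩
    rw [h3, mem_bot] at h4
    exact h.of_eq_one_iff'.1 h4
  · -- then `Q` is abelian
    exfalso
    obtain ⟨a, b, hne⟩ := Extraspecial.exists_comm_ne_one (by norm_num) h.hQ
    have h4 : ∀ q : Q, ∃ a ∈ A, ∃ c ∈ Z, (q : X) = a * c := by
      intro q
      have h5 : Abelianization.of q ∈ T := h3 ▸ mem_top _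
      obtain ⟨a, ha, hq⟩ := h5
      have h6 : Abelianization.of (a⁻¹ * q) = 1 := by rw [map_mul, map_inv, hq, inv_mul_cancel]
      have h7 := h.of_eq_one_iff'.1 h6
      refine ⟨a, ha, _, h7, ?_⟩
      simp
    obtain ⟨a', ha', c, hc, hac⟩ := h4 a
    obtain ⟨b', hb', d, hd, hbd⟩ := h4 b
    apply hne
    rw [commutatorElement_eq_one_iff_mul_comm]
    apply Subtype.ext
    change (a : X) * b = b * a
    rw [hac, hbd]
    calc a' * c * (b' * d) = a' * (c * b') * d := by group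
      _ = (a' * b') * c * d := by rw [← h.comm_Z hc]; group
      _ = b' * a' * c * d := by rw [hab a' ha' b' hb']
      _ = b' * (a' * c) * d := by group
      _ = b' * ((a' * c) * d) := by group
      _ = b' * (d * (a' * c)) := by rw [h.comm_Z hd]
      _ = b' * d * (a' * c) := by group

end XHyp

end Cfsg.Agent.H342.Co2X
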