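import Mathlib
import Cfsg.Agent.H342.Co2X
import Cfsg.Agent.H342.Co2T

/-!
# The structure of the centralizer `3^{1+4}.2^{1+4}.A₅`, second part
-/

set_option autoImplicit false

namespace Cfsg.Agent.H342.Co2X

open Subgroup Cfsg.Agent.H342.SympLoc Cfsg.Agent.H342.Co2H Cfsg.Agent.Transfer Cfsg.Agent.H342.Co2Act Cfsg
open scoped commutatorElement IsMulCommutative

namespace XHyp

variable {X : Type*} [Group X] [Finite X] {Z S : Subgroup X} (h : XHyp Z S)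
include h

/-- for a normal subgroup: `N ∩ Q ≤ Z` or `Q ≤ N Z` -/
theorem normal_le {N : Subgroup X} (hN : N.Normal) (hNQ : N ≤ pCore 3 X) : N ≤ Z ∨ pCore 3 X ≤ N ⊔ Z := by
  obtain ⟨z, hz⟩ := h.hh
  set Q := pCore 3 X with hQdef
  let T : Subgroup (Abelianization Q) := (N.subgroupOf Q).map Abelianization.of
  rcases hz.irred T (by
    intro r _ t ht
    obtain ⟨a, ha, rfl⟩ := ht
    obtain ⟨x, rfl⟩ := QuotientGroup.mk_surjective r
    rw [act_mk]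
    exact ⟨_, hN.conj_mem _ ha x, rfl⟩) with h3 | h3
  · left
    intro a ha
    have h4 : Abelianization.of (⟨a, hNQ ha⟩ : Q) ∈ T := ⟨_, ha, rfl⟩
    rw [h3, mem_bot] at h4
    exact h.of_eq_one_iff'.1 h4
  · right
    intro q hq
    have h5 : Abelianization.of (⟨q, hq⟩ : Q) ∈ T := h3 ▸ mem_top _
    obtain ⟨a, ha, hqa⟩ := h5
    have h6 : Abelianization.of (a⁻¹ * ⟨q, hq⟩) = 1 := by rw [map_mul, map_inv, hqa, inv_mul_cancel]
    have h7 := h.of_eq_one_iff'.1 h6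
    have h8 : q = a * (((a⁻¹ * ⟨q, hq⟩ : Q)) : X) := by simp
    rw [h8]
    exact mul_mem (mem_sup_left ha) (mem_sup_right h7)

/-- `Q` has exponent three -/
theorem cube {q : X} (hq : q ∈ pCore 3 X) : q ^ 3 = 1 := by
  set Q := pCore 3 X with hQdef
  have hQn : Q.Normal := inferInstance
  have hmul : ∀ a b : X, a ∈ Q → b ∈ Q → (a * b) ^ 3 = a ^ 3 * b ^ 3 := by
    intro a b ha hb
    have h1 := Extraspecial.mul_pow_eq Nat.prime_three (by norm_num) h.hQ ⟨a, ha⟩ ⟨b, hb⟩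
    exact congrArg Subtype.val h1
  -- the subgroup of elements of order three
  let N : Subgroup X :=
    { carrier := {a | a ∈ Q ∧ a ^ 3 = 1}
      one_mem' := ⟨one_mem _, one_pow _⟩
      mul_mem' := by
        rintro a b ⟨ha, ha'⟩ ⟨hb, hb'⟩
        exact ⟨mul_mem ha hb, by rw [hmul a b ha hb, ha', hb', one_mul]⟩
      inv_mem' := by
        rintro a ⟨ha, ha'⟩
        exact ⟨inv_mem ha, by rw [inv_pow, ha', inv_one]⟩ }
  have hNn : N.Normal := ⟨by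
    rintro a ⟨ha, ha'⟩ g
    exact ⟨hQn.conj_mem a ha g, by rw [conj_pow, ha', mul_one, mul_inv_cancel]⟩⟩
  have hZN : Z ≤ N := by
    intro a ha
    refine ⟨h.Z_le_Q ha, ?_⟩
    have h1 : (⟨a, ha⟩ : Z) ^ Nat.card Z = 1 := pow_card_eq_one'
    rw [h.card_Z] at h1
    exact congrArg Subtype.val h1
  rcases h.normal_le hNn (fun a ha => ha.1) with h1 | h1
  · exfalso
    -- the cube map has kernel `Z` and image in `Z`
    let f : Q →* X :=
      { toFun := fun a => (a : X) ^ 3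
        map_one' := by simp
        map_mul' := fun a b => hmul a b a.2 b.2 }
    have hker : Nat.card f.ker ≤ 3 := by
      rw [← h.card_Z]
      refine Nat.card_le_card_of_injective (fun a => (⟨((a : Q) : X), h1 ⟨(a : Q).2, a.2⟩⟩ : Z)) ?_
      intro a b hab
      exact Subtype.ext (Subtype.ext (congrArg (fun t : Z => (t : X)) hab))
    have hran : Nat.card f.range ≤ 3 := by
      rw [← h.card_Z]
      have hle : f.range ≤ Z := by
        rintro _ ⟨a, rfl⟩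
        have h2 := Extraspecial.pow_mem_center h.hQ a
        exact h.mem_Z_iff.2 h2
      exact Nat.le_of_dvd Nat.card_pos (Subgroup.card_dvd_of_le hle)
    have h2 := f.ker.card_eq_card_quotient_mul_card_subgroup
    rw [Nat.card_congr (QuotientGroup.quotientKerEquivRange f).toEquiv, h.cardQ] at h2
    have h3 : Nat.card f.range * Nat.card f.ker ≤ 3 * 3 := Nat.mul_le_mul hran hker
    omega
  · have h2 : N ⊔ Z = N := sup_eq_left.2 hZN
    rw [h2] at h1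
    exact (h1 hq).2

theorem cube_Z {a : X} (ha : a ∈ Z) : a ^ 3 = 1 := h.cube (h.Z_le_Q ha)

/-- a normal subgroup containing `Q` with solvable quotient is the whole group -/
theorem eq_top {N : Subgroup X} (hN : N.Normal) (hQN : pCore 3 X ≤ N) (hs : Group.IsSolvable (X ⧸ N)) : N = ⊤ := by
  obtain ⟨z, hz⟩ := h.hh
  obtain ⟨e⟩ := h.e
  set Q := pCore 3 X with hQdef
  set R := pCore 2 (X ⧸ Q) with hRdef
  let M : Subgroup (X ⧸ Q) := N.map (QuotientGroup.mk' Q)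
  have hM : M.Normal := hN.map _ (QuotientGroup.mk'_surjective Q)
  have hMtop : M = ⊤ := by
    apply hz.eq_top hM
    rcases hz.simp M hM with h1 | h1
    · exfalso
      -- `A₅` is a quotient of `X / N`
      have h2 : N ≤ ((QuotientGroup.mk' R).comp (QuotientGroup.mk' Q)).ker := by
        intro n hn
        rw [MonoidHom.mem_ker, MonoidHom.comp_apply]
        have h3 : (QuotientGroup.mk' Q) n ∈ R := h1 ⟨n, hn, rfl⟩
        exact (QuotientGroup.eq_one_iff _).2 h3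
      let f : X ⧸ N →* alternatingGroup (Fin 5) := e.toMonoidHom.comp (QuotientGroup.lift N _ h2)
      have hf : Function.Surjective f := by
        intro y
        obtain ⟨x, hx⟩ := QuotientGroup.mk_surjective (e.symm y)
        obtain ⟨x, rfl⟩ := QuotientGroup.mk_surjective x
        refine ⟨(x : X ⧸ N), ?_⟩
        change e (((x : X ⧸ Q)) : (X ⧸ Q) ⧸ R) = y
        rw [hx, e.apply_symm_apply]
      have h3 : Group.IsSolvable (alternatingGroup (Fin 5)) := Group.isSolvable_of_surjective hf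
      have h4 : Group.IsSolvable (Equiv.Perm (Fin 5)) := by
        exact Group.isSolvable_of_ker_le_range (alternatingGroup (Fin 5)).subtype (Equiv.Perm.sign (α := Fin 5)) (by
          rw [Subgroup.range_subtype]; rfl)
      exact Equiv.Perm.not_isSolvable_fin_5 h4
    · exact h1
  rw [eq_top_iff]
  intro x _
  have h1 : (x : X ⧸ Q) ∈ M := hMtop ▸ mem_top _
  obtain ⟨n, hn, hnx⟩ := h1
  have h2 : n⁻¹ * x ∈ Q := QuotientGroup.eq.1 hnx
  have h3 : x = n * (n⁻¹ * x) := by group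
  rw [h3]
  exact mul_mem hn (hQN h2)

theorem exists_comm_Z {b : X} (hb : b ∈ pCore 3 X) (hbZ : b ∉ Z) {c : X} (hc : c ∈ Z) :
    ∃ q ∈ pCore 3 X, q * b * q⁻¹ = b * c := by
  set Q := pCore 3 X with hQdef
  have h1 : ∃ q : Q, ⁅q, (⟨b, hb⟩ : Q)⁆ ≠ 1 := by
    by_contra hcon
    push Not at hcon
    apply hbZ
    apply (h.mem_Z_iff (q := ⟨b, hb⟩)).2
    rw [mem_center_iff]
    intro g
    exact commutatorElement_eq_one_iff_mul_comm.1 (hcon g)
  obtain ⟨q, hq⟩ := h1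
  have hcZ : ((⁅q, (⟨b, hb⟩ : Q)⁆ : Q) : X) ∈ Z := h.mem_Z_iff.2 (Extraspecial.comm_mem_center h.hQ _ _)
  have h2 : (⟨c, hc⟩ : Z) ∈ zpowers (⟨_, hcZ⟩ : Z) := by
    have : Fact (Nat.Prime 3) := ⟨Nat.prime_three⟩
    exact mem_zpowers_of_prime_card h.card_Z (fun h3 => hq (Subtype.ext (congrArg (fun t : Z => (t : X)) h3)))
  obtain ⟨k, hk⟩ := mem_zpowers_iff.1 h2
  have hk' : ((⁅q, (⟨b, hb⟩ : Q)⁆ : Q) : X) ^ k = c := by
    have := congrArg Subtype.val hk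
    simpa using this
  have h3 : ∀ g ∈ Q, g * b * g⁻¹ * b⁻¹ ∈ Z := by
    intro g hg
    exact h.mem_Z_iff.2 (Extraspecial.comm_mem_center h.hQ ⟨g, hg⟩ ⟨b, hb⟩)
  -- powers of the commutator
  have h4 : ∀ n : ℤ, ((q : X) ^ n) * b * ((q : X) ^ n)⁻¹ = b * ((⁅q, (⟨b, hb⟩ : Q)⁆ : Q) : X) ^ n := by
    have hbase : (q : X) * b * (q : X)⁻¹ = b * ((⁅q, (⟨b, hb⟩ : Q)⁆ : Q) : X) := by
      rw [h.comm_Z hcZ b]
      change (q : X) * b * (q : X)⁻¹ = ((q : X) * b * (q : X)⁻¹ * b⁻¹) * b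
      rw [inv_mul_cancel_right]
    generalize ((⁅q, (⟨b, hb⟩ : Q)⁆ : Q) : X) = c' at *
    have hn : ∀ n : ℕ, ((q : X) ^ n) * b * ((q : X) ^ n)⁻¹ = b * c' ^ n := by
      intro n
      induction n with
      | zero => simp
      | succ n ih =>
        have h5 : ((q : X) ^ (n + 1)) * b * ((q : X) ^ (n + 1))⁻¹ = q * (((q : X) ^ n) * b * ((q : X) ^ n)⁻¹) * (q : X)⁻¹ := by
          rw [pow_succ']; group
        rw [h5, ih]
        have h6 : (q : X) * c' ^ n = c' ^ n * q := by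
          have := h.comm_Z (pow_mem hcZ n) q
          exact this
        calc (q : X) * (b * c' ^ n) * (q : X)⁻¹ = (q : X) * b * ((q : X)⁻¹ * (q * c' ^ n)) * (q : X)⁻¹ := by group
          _ = (q : X) * b * (q : X)⁻¹ * c' ^ n := by rw [h6]; group
          _ = b * c' ^ (n + 1) := by rw [hbase, pow_succ']; group
    intro n
    obtain ⟨n, rfl | rfl⟩ := Int.eq_nat_or_neg n
    · simpa using hn n
    · have h5 := hn n
      rw [zpow_neg, zpow_natCast, inv_inv, zpow_neg, zpow_natCast]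
      have h6 : (q : X) ^ n * c' ^ n = c' ^ n * (q : X) ^ n := h.comm_Z (pow_mem hcZ n) _
      have h7 : b = ((q : X) ^ n)⁻¹ * (b * c' ^ n) * (q : X) ^ n := by rw [← h5]; group
      rw [eq_mul_inv_iff_mul_eq]
      calc ((q : X) ^ n)⁻¹ * b * (q : X) ^ n * c' ^ n = ((q : X) ^ n)⁻¹ * b * ((q : X) ^ n * c' ^ n) := by group
        _ = ((q : X) ^ n)⁻¹ * (b * c' ^ n) * (q : X) ^ n := by rw [h6]; group
        _ = b := h7.symm
  exact ⟨(q : X) ^ k, zpow_mem q.2 k, by rw [h4, hk']⟩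

/-- `X` is transitive on `Q \ Z` -/
theorem trans_Q {a b : X} (ha : a ∈ pCore 3 X) (haZ : a ∉ Z) (hb : b ∈ pCore 3 X) (hbZ : b ∉ Z) :
    ∃ x : X, x * a * x⁻¹ = b := by
  obtain ⟨z, hz⟩ := h.hh
  set Q := pCore 3 X with hQdef
  have hQn : Q.Normal := inferInstance
  obtain ⟨g, hg⟩ := hz.transitive (w := Abelianization.of (⟨a, ha⟩ : Q)) (w' := Abelianization.of (⟨b, hb⟩ : Q))
    (fun h1 => haZ (h.of_eq_one_iff'.1 h1)) (fun h1 => hbZ (h.of_eq_one_iff'.1 h1))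
  obtain ⟨x, rfl⟩ := QuotientGroup.mk_surjective g
  rw [act_mk] at hg
  have h1 : Abelianization.of ((⟨b, hb⟩ : Q)⁻¹ * ⟨x * a * x⁻¹, hQn.conj_mem a ha x⟩) = 1 := by
    rw [map_mul, map_inv, hg, inv_mul_cancel]
  have h2 : b⁻¹ * (x * a * x⁻¹) ∈ Z := h.of_eq_one_iff'.1 h1
  obtain ⟨q, hq, hqb⟩ := h.exists_comm_Z hb hbZ (inv_mem h2)
  refine ⟨q * x, ?_⟩
  have h3 : x * a * x⁻¹ = b * (b⁻¹ * (x * a * x⁻¹)) := by group
  have h4 : q * x * a * (q * x)⁻¹ = q * (x * a * x⁻¹) * q⁻¹ := by group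
  rw [h4, h3]
  have h5 := h.comm_Z h2 q
  calc q * (b * (b⁻¹ * (x * a * x⁻¹))) * q⁻¹ = q * b * q⁻¹ * (q * (b⁻¹ * (x * a * x⁻¹))) * q⁻¹ := by group
    _ = b * (b⁻¹ * (x * a * x⁻¹))⁻¹ * ((b⁻¹ * (x * a * x⁻¹)) * q) * q⁻¹ := by rw [hqb, h5]
    _ = b := by group

/-- the centralizer in `Q` of an element outside `Q` -/
theorem card_cent_le {y : X} (hy : y ∉ pCore 3 X) (hy3 : y ^ 3 ∈ pCore 3 X) :
    Nat.card (pCore 3 X ⊓ centralizer {y} : Subgroup X) ≤ 27 := by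
  obtain ⟨z, hz⟩ := h.hh
  set Q := pCore 3 X with hQdef
  have hQn : Q.Normal := inferInstance
  have h1 : (y : X ⧸ Q) ^ 3 = 1 := by rw [← QuotientGroup.mk_pow]; exact (QuotientGroup.eq_one_iff _).2 hy3
  have h2 : (y : X ⧸ Q) ≠ 1 := fun h2 => hy ((QuotientGroup.eq_one_iff _).1 h2)
  obtain ⟨h9, -⟩ := hz.three_pair h1 h2
  -- the map to the fixed points
  let f : (Q ⊓ centralizer {y} : Subgroup X) →* Pl (act Q) (y : X ⧸ Q) :=
    { toFun := fun q => ⟨Abelianization.of (⟨q, q.2.1⟩ : Q), by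
        rw [mem_Pl, act_mk]
        congr 1
        apply Subtype.ext
        have h3 : (q : X) * y = y * q := (mem_centralizer_singleton_iff.1 q.2.2)
        change y * q * y⁻¹ = q
        rw [← h3, mul_inv_cancel_right]⟩
      map_one' := rfl
      map_mul' := fun a b => rfl }
  have hker : Nat.card f.ker ≤ 3 := by
    rw [← h.card_Z]
    refine Nat.card_le_card_of_injective (fun a => (⟨((a : (Q ⊓ centralizer {y} : Subgroup X)) : X), ?_⟩ : Z)) ?_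
    · have h3 : f a = 1 := a.2
      have h4 : Abelianization.of (⟨((a : (Q ⊓ centralizer {y} : Subgroup X)) : X),
        (a : (Q ⊓ centralizer {y} : Subgroup X)).2.1⟩ : Q) = 1 := congrArg Subtype.val h3
      exact h.of_eq_one_iff'.1 h4
    · intro a b hab
      exact Subtype.ext (Subtype.ext (congrArg (fun t : Z => (t : X)) hab))
  have := hz.symp.finite
  have hran : Nat.card f.range ≤ 9 := by
    rw [← h9]
    exact Nat.card_le_card_of_injective _ Subtype.val_injective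
  have h2 := f.ker.card_eq_card_quotient_mul_card_subgroup
  rw [Nat.card_congr (QuotientGroup.quotientKerEquivRange f).toEquiv] at h2
  rw [h2]
  exact Nat.mul_le_mul hran hker

/-- the conjugates of an element of order three outside `Q` -/
theorem split {x : X} (hx : x ∉ pCore 3 X) (hx3 : x ^ 3 = 1) :
    (∃ q c : X, c ∈ Z ∧ c ≠ 1 ∧ q * x * q⁻¹ = x * c) ∨
    ∃ q₁ q₂ a₁ a₂ c₁ c₂ : X, a₁ ∈ pCore 3 X ∧ a₂ ∈ pCore 3 X ∧ c₁ ∈ Z ∧ c₂ ∈ Z ∧ c₁ ≠ 1 ∧ c₂ ≠ 1 ∧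
      q₁ * x * q₁⁻¹ = x * a₁ ∧ q₂ * x * q₂⁻¹ = x * a₂ ∧ q₁ * a₁ * q₁⁻¹ = a₁ * c₁ ∧ q₂ * a₂ * q₂⁻¹ = a₂ * c₂ ∧
      q₁ * a₂ = a₂ * q₁ ∧ q₂ * a₁ = a₁ * q₂ ∧ a₁ * a₂ = a₂ * a₁ ∧ x * a₁ = a₁ * x ∧ x * a₂ = a₂ * x := by
  obtain ⟨z, hz⟩ := h.hh
  set Q := pCore 3 X with hQdef
  have hQn : Q.Normal := inferInstance
  have h1 : ((x⁻¹ : X) : X ⧸ Q) ^ 3 = 1 := by
    rw [← QuotientGroup.mk_pow, inv_pow, hx3, inv_one]
    rfl
  have h2 : ((x⁻¹ : X) : X ⧸ Q) ≠ 1 := fun h2 => hx (by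
    have := (QuotientGroup.eq_one_iff _).1 h2
    exact (inv_mem_iff (H := Q)).1 this)
  obtain ⟨-, w₁, w₂, e1, e2, e3, e4, e5, e6, e7, e8⟩ := hz.three_pair h1 h2
  obtain ⟨q₁, rfl⟩ := of_surjective w₁
  obtain ⟨q₂, rfl⟩ := of_surjective w₂
  -- the commutators
  have ha : ∀ q : Q, act Q ((x⁻¹ : X) : X ⧸ Q) (Abelianization.of q) * (Abelianization.of q)⁻¹ =
      Abelianization.of ((⟨x⁻¹ * q * x⁻¹⁻¹, hQn.conj_mem q q.2 x⁻¹⟩ : Q) * q⁻¹) := by
    intro q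
    rw [act_mk, map_mul, map_inv]
  rw [ha q₁] at e1 e3 e7 e8
  rw [ha q₂] at e2 e4 e6 e8
  set a₁ : Q := (⟨x⁻¹ * q₁ * x⁻¹⁻¹, hQn.conj_mem q₁ q₁.2 x⁻¹⟩ : Q) * q₁⁻¹ with ha₁
  set a₂ : Q := (⟨x⁻¹ * q₂ * x⁻¹⁻¹, hQn.conj_mem q₂ q₂.2 x⁻¹⟩ : Q) * q₂⁻¹ with ha₂
  have hv₁ : (a₁ : X) = x⁻¹ * q₁ * x * (q₁ : X)⁻¹ := by rw [ha₁]; simp
  have hv₂ : (a₂ : X) = x⁻¹ * q₂ * x * (q₂ : X)⁻¹ := by rw [ha₂]; simp
  have hconj₁ : (q₁ : X) * x * (q₁ : X)⁻¹ = x * a₁ := by rw [hv₁]; group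
  have hconj₂ : (q₂ : X) * x * (q₂ : X)⁻¹ = x * a₂ := by rw [hv₂]; group
  -- the pairing
  have hB : ∀ a b : Q, pair (Extraspecial.comm_mem_center h.hQ) (Abelianization.of a) (Abelianization.of b) = 1 ↔
      ⁅a, b⁆ = 1 := by
    intro a b
    rw [← pair_of (Extraspecial.comm_mem_center h.hQ)]
    exact ⟨fun h3 => by rw [h3]; rfl, fun h3 => Subtype.ext h3⟩
  have hBc : ∀ a b : Q, pair (Extraspecial.comm_mem_center h.hQ) (Abelianization.of a) (Abelianization.of b) = 1 →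
      (a : X) * b = b * a := by
    intro a b hab
    exact congrArg Subtype.val (commutatorElement_eq_one_iff_mul_comm.1 ((hB a b).1 hab))
  -- fixed modulo `Z`
  have hfix : ∀ a : Q, act Q ((x⁻¹ : X) : X ⧸ Q) (Abelianization.of a) = Abelianization.of a →
      (a : X) * x * (a : X)⁻¹ = x * (x⁻¹ * a * x * (a : X)⁻¹) ∧ x⁻¹ * a * x * (a : X)⁻¹ ∈ Z := by
    intro a h3
    refine ⟨by group, ?_⟩
    have h4 := ha a
    rw [h3, mul_inv_cancel] at h4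
    have h5 := h.of_eq_one_iff'.1 h4.symm
    have h6 : (((⟨x⁻¹ * a * x⁻¹⁻¹, hQn.conj_mem a a.2 x⁻¹⟩ : Q) * a⁻¹ : Q) : X) = x⁻¹ * a * x * (a : X)⁻¹ := by simp
    rwa [h6] at h5
  obtain ⟨f1, f2⟩ := hfix a₁ e1
  obtain ⟨g1, g2⟩ := hfix a₂ e2
  by_cases hd₁ : x⁻¹ * a₁ * x * (a₁ : X)⁻¹ = 1
  · by_cases hd₂ : x⁻¹ * a₂ * x * (a₂ : X)⁻¹ = 1
    · right
      have hc₁ : ((⁅q₁, a₁⁆ : Q) : X) ∈ Z := h.mem_Z_iff.2 (Extraspecial.comm_mem_center h.hQ _ _)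
      have hc₂ : ((⁅q₂, a₂⁆ : Q) : X) ∈ Z := h.mem_Z_iff.2 (Extraspecial.comm_mem_center h.hQ _ _)
      refine ⟨q₁, q₂, a₁, a₂, (⁅q₁, a₁⁆ : Q), (⁅q₂, a₂⁆ : Q), a₁.2, a₂.2, hc₁, hc₂, ?_, ?_, hconj₁, hconj₂, ?_, ?_,
        hBc _ _ e6, hBc _ _ e7, hBc _ _ e8, ?_, ?_⟩
      · intro h3
        exact e3 ((hB _ _).2 (Subtype.ext h3))
      · intro h3
        exact e4 ((hB _ _).2 (Subtype.ext h3))
      · rw [h.comm_Z hc₁]
        change (q₁ : X) * a₁ * (q₁ : X)⁻¹ = ((q₁ : X) * a₁ * (q₁ : X)⁻¹ * (a₁ : X)⁻¹) * a₁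
        rw [inv_mul_cancel_right]
      · rw [h.comm_Z hc₂]
        change (q₂ : X) * a₂ * (q₂ : X)⁻¹ = ((q₂ : X) * a₂ * (q₂ : X)⁻¹ * (a₂ : X)⁻¹) * a₂
        rw [inv_mul_cancel_right]
      · rw [mul_inv_eq_one, mul_assoc, inv_mul_eq_iff_eq_mul] at hd₁
        exact hd₁.symm
      · rw [mul_inv_eq_one, mul_assoc, inv_mul_eq_iff_eq_mul] at hd₂
        exact hd₂.symm
    · left
      exact ⟨_, _, g2, hd₂, g1⟩
  · left
    exact ⟨_, _, f2, hd₁, f1⟩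

end XHyp

end Cfsg.Agent.H342.Co2X
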