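import Mathlib
import Cfsg.Agent.H342.Co2X2
import Cfsg.Agent.H261.Reduction
import Cfsg.Agent.Lib.CoprimeHyperplane

/-!
# Groups with `C_G(Z) = 3^{1+4}.2^{1+4}.A₅`: the local hypothesis and `O_{3'}(G) = 1`
-/

set_option autoImplicit false
set_option linter.unusedSectionVars false

namespace Cfsg.Agent.H342.Co2G

open Subgroup Cfsg Cfsg.Agent.H342.Co2X

/-- the context -/
structure GC {G : Type*} [Group G] (S : Sylow 3 G) (Z Q : Subgroup G) : Prop where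
  hx : XHyp (Z.subgroupOf (centralizer (Z : Set G))) ((S : Subgroup G).subgroupOf (centralizer (Z : Set G)))
  hQ : Q = (pCore 3 (centralizer (Z : Set G))).map (centralizer (Z : Set G)).subtype
  hZ : Z = (S : Subgroup G) ⊓ centralizer ((S : Subgroup G) : Set G)

/-- multiplying into a subgroup of index three -/
theorem exists_pow_mem {G : Type*} [Group G] {E B : Subgroup G} (hE : ∀ a ∈ E, ∀ b ∈ E, a * b = b * a)
    (h3 : B.relIndex E = 3) {z : G} (hz : z ∈ E) (hzB : z ∉ B) (hz3 : z ^ 3 = 1) {e : G}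
    (he : e ∈ E) : ∃ n : ℕ, n < 3 ∧ e * z ^ n ∈ B := by
  have : Fact (Nat.Prime 3) := ⟨Nat.prime_three⟩
  have hn : (B.subgroupOf E).Normal := ⟨fun n hn g => by
    have h1 : g * n = n * g := Subtype.ext (hE g g.2 n n.2)
    rw [h1, mul_inv_cancel_right]
    exact hn⟩
  have h1 : Nat.card (E ⧸ B.subgroupOf E) = 3 := h3
  have h2 : (QuotientGroup.mk (⟨z, hz⟩ : E) : E ⧸ B.subgroupOf E) ≠ 1 := by
    intro h2
    have h3 : (⟨z, hz⟩ : E) ∈ B.subgroupOf E := (QuotientGroup.eq_one_iff (⟨z, hz⟩ : E)).1 h2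
    exact hzB h3
  have h4 : (QuotientGroup.mk ((⟨e, he⟩ : E)⁻¹) : E ⧸ B.subgroupOf E) ∈
      zpowers (QuotientGroup.mk (⟨z, hz⟩ : E) : E ⧸ B.subgroupOf E) := mem_zpowers_of_prime_card h1 h2
  obtain ⟨k, hk⟩ := mem_zpowers_iff.1 h4
  have h5 : (⟨z, hz⟩ : E) ^ (k % 3) = (⟨z, hz⟩ : E) ^ k := by
    conv_rhs => rw [← Int.mul_ediv_add_emod k 3, zpow_add, zpow_mul]
    have h6 : (⟨z, hz⟩ : E) ^ (3 : ℤ) = 1 := Subtype.ext (by
      have : z ^ (3 : ℤ) = 1 := by rw [← hz3]; norm_cast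
      simpa using this)
    rw [h6, one_zpow, one_mul]
  have h6 : 0 ≤ k % 3 := Int.emod_nonneg k (by norm_num)
  have h7 : k % 3 < 3 := Int.emod_lt_of_pos k (by norm_num)
  refine ⟨(k % 3).toNat, by omega, ?_⟩
  rw [← QuotientGroup.mk_zpow, ← h5, eq_comm, QuotientGroup.eq] at hk
  have h8 : e * z ^ (k % 3) ∈ B := by
    have := (Subgroup.mem_subgroupOf).1 hk
    simpa using this
  rwa [← zpow_natCast, Int.toNat_of_nonneg h6]

namespace GC

variable {G : Type*} [Group G] {S : Sylow 3 G} {Z Q : Subgroup G} (h : GC S Z Q)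
include h

theorem ZS : Z ≤ S := by
  rw [h.hZ]
  exact inf_le_left

theorem SC : (S : Subgroup G) ≤ centralizer (Z : Set G) := by
  intro s hs
  rw [Subgroup.mem_centralizer_iff]
  intro z hz
  rw [h.hZ] at hz
  exact ((Subgroup.mem_centralizer_iff.1 hz.2) s hs).symm

theorem QC : Q ≤ centralizer (Z : Set G) := by
  rw [h.hQ]
  rintro _ ⟨q, -, rfl⟩
  exact q.2

theorem mem_Q {x : G} (hx : x ∈ centralizer (Z : Set G)) :
    (⟨x, hx⟩ : centralizer (Z : Set G)) ∈ pCore 3 (centralizer (Z : Set G)) ↔ x ∈ Q := by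
  constructor
  · intro h1
    rw [h.hQ]
    exact ⟨_, h1, rfl⟩
  · intro h1
    rw [h.hQ] at h1
    obtain ⟨y, hy, hyx⟩ := h1
    have : y = ⟨x, hx⟩ := Subtype.ext hyx
    rwa [← this]

theorem QS : Q ≤ S := by
  intro q hq
  exact h.hx.Q_le_S ((h.mem_Q (h.QC hq)).2 hq)

theorem conj_Q {c q : G} (hc : c ∈ centralizer (Z : Set G)) (hq : q ∈ Q) : c * q * c⁻¹ ∈ Q := by
  have hn : (pCore 3 (centralizer (Z : Set G))).Normal := inferInstance
  have h1 := hn.conj_mem ⟨q, h.QC hq⟩ ((h.mem_Q _).2 hq) ⟨c, hc⟩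
  exact (h.mem_Q (mul_mem (mul_mem hc (h.QC hq)) (inv_mem hc))).1 h1

variable [Finite G]

theorem card_C : Nat.card (centralizer (Z : Set G)) = 466560 := h.hx.card_X

theorem card_S : Nat.card (S : Subgroup G) = 729 := by
  have h1 := h.hx.card_S
  rwa [Nat.card_congr (Subgroup.subgroupOfEquivOfLe h.SC).toEquiv] at h1

theorem ZC : Z ≤ centralizer (Z : Set G) := h.ZS.trans h.SC

theorem cardZ : Nat.card Z = 3 := by
  have h1 := h.hx.card_Z
  rwa [Nat.card_congr (Subgroup.subgroupOfEquivOfLe h.ZC).toEquiv] at h1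

theorem ZQ : Z ≤ Q := by
  intro z hz
  exact (h.mem_Q (h.ZC hz)).1 (h.hx.Z_le_Q hz)

theorem cardQ : Nat.card Q = 243 := by
  rw [h.hQ, Subgroup.card_map_of_injective (centralizer (Z : Set G)).subtype_injective, h.hx.cardQ]
  norm_num

theorem ZS' {x : G} (hx : x ∈ (S : Subgroup G)) (hc : ∀ s ∈ (S : Subgroup G), s * x = x * s) : x ∈ Z := by
  rw [h.hZ]
  exact ⟨hx, Subgroup.mem_centralizer_iff.2 hc⟩

theorem CQ : centralizer (Q : Set G) ≤ Q := by
  intro c hc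
  rw [Subgroup.mem_centralizer_iff] at hc
  have hcC : c ∈ centralizer (Z : Set G) := by
    rw [Subgroup.mem_centralizer_iff]
    intro z hz
    exact hc z (h.ZQ hz)
  refine (h.mem_Q hcC).1 (h.hx.cent_le ?_)
  intro q hq
  exact Subtype.ext (hc q ((h.mem_Q q.2).1 hq)).symm

theorem loc : H261.Loc 3 Z Q where
  card := h.cardZ
  le := h.ZQ
  leC := h.QC
  pQ := S.isPGroup'.to_le h.QS
  norm := H261.le_normalizer_of_conj fun c hc y hy => h.conj_Q hc hy
  cent := h.CQ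
  ab := by
    intro A hAC hn hc
    have hA : (A.subgroupOf (centralizer (Z : Set G))).Normal := by
      refine ⟨fun a ha c => ?_⟩
      exact (Subgroup.mem_normalizer_iff.1 (hn c.2) a).1 ha
    have h1 := h.hx.abelian_le hA fun a ha b hb => Subtype.ext (hc a ha b hb)
    intro a ha
    exact h1 (x := ⟨a, hAC ha⟩) ha

theorem mem_C_iff {z : G} (hz : z ∈ Z) (hz1 : z ≠ 1) {x : G} : x ∈ centralizer (Z : Set G) ↔ x * z = z * x := by
  constructor
  · intro hx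
    exact ((Subgroup.mem_centralizer_iff.1 hx) z hz).symm
  · intro hx
    rw [Subgroup.mem_centralizer_iff]
    intro y hy
    have h1 : Z ≤ zpowers z := H261.eq_of_mem_of_card_prime Nat.prime_three h.cardZ hz hz1 (mem_zpowers z)
    obtain ⟨n, rfl⟩ := mem_zpowers_iff.1 (h1 hy)
    have h2 : Commute x z := hx
    exact (h2.zpow_right n).eq.symm

theorem centralizer_eq {z : G} (hz : z ∈ Z) (hz1 : z ≠ 1) : centralizer {z} = centralizer (Z : Set G) := by
  ext x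
  rw [h.mem_C_iff hz hz1, mem_centralizer_singleton_iff]

theorem exists_gen : ∃ z ∈ Z, z ≠ 1 := by
  by_contra hcon
  push Not at hcon
  have h1 : Z = ⊥ := (Subgroup.eq_bot_iff_forall _).2 hcon
  have h2 := h.cardZ
  rw [h1, Subgroup.card_bot] at h2
  norm_num at h2

theorem cube {q : G} (hq : q ∈ Q) : q ^ 3 = 1 :=
  congrArg Subtype.val (h.hx.cube ((h.mem_Q (h.QC hq)).2 hq))

theorem comm_Z {z c : G} (hz : z ∈ Z) (hc : c ∈ centralizer (Z : Set G)) : z * c = c * z :=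
  Subgroup.mem_centralizer_iff.1 hc z hz

theorem exists_comm_Z {b c : G} (hb : b ∈ Q) (hbZ : b ∉ Z) (hc : c ∈ Z) : ∃ q ∈ Q, q * b * q⁻¹ = b * c := by
  obtain ⟨q, hq, h1⟩ := h.hx.exists_comm_Z (b := ⟨b, h.QC hb⟩) ((h.mem_Q _).2 hb) hbZ (c := ⟨c, h.ZC hc⟩) hc
  exact ⟨q, (h.mem_Q q.2).1 hq, congrArg Subtype.val h1⟩

theorem trans_Q {a b : G} (ha : a ∈ Q) (haZ : a ∉ Z) (hb : b ∈ Q) (hbZ : b ∉ Z) :
    ∃ x ∈ centralizer (Z : Set G), x * a * x⁻¹ = b := by
  obtain ⟨x, hx⟩ := h.hx.trans_Q (a := ⟨a, h.QC ha⟩) ((h.mem_Q _).2 ha) haZ (b := ⟨b, h.QC hb⟩) ((h.mem_Q _).2 hb) hbZ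
  exact ⟨x, x.2, congrArg Subtype.val hx⟩

theorem card_cent_le {y : G} (hyC : y ∈ centralizer (Z : Set G)) (hy : y ∉ Q) (hy3 : y ^ 3 = 1) :
    Nat.card (Q ⊓ centralizer {y} : Subgroup G) ≤ 27 := by
  have h1 := h.hx.card_cent_le (y := ⟨y, hyC⟩) (fun h1 => hy ((h.mem_Q hyC).1 h1)) (by
    have h2 : (⟨y, hyC⟩ : centralizer (Z : Set G)) ^ 3 = 1 := Subtype.ext hy3
    rw [h2]
    exact one_mem _)
  refine le_trans ?_ h1
  refine Nat.card_le_card_of_injective (fun a => (⟨⟨(a : G), h.QC a.2.1⟩, (h.mem_Q _).2 a.2.1,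
    mem_centralizer_singleton_iff.2 (Subtype.ext (mem_centralizer_singleton_iff.1 a.2.2))⟩ :
    (pCore 3 (centralizer (Z : Set G)) ⊓ centralizer {(⟨y, hyC⟩ : centralizer (Z : Set G))} : Subgroup _))) ?_
  intro a b hab
  exact Subtype.ext (congrArg (fun t : (pCore 3 (centralizer (Z : Set G)) ⊓
    centralizer {(⟨y, hyC⟩ : centralizer (Z : Set G))} : Subgroup _) => ((t : centralizer (Z : Set G)) : G)) hab)

/-- from failure of weak closure: a conjugate in `S` outside `Z` -/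
theorem exists_x (hw : ¬ IsWeaklyClosed Z (S : Subgroup G)) :
    ∃ g : G, ∃ z ∈ Z, z ≠ 1 ∧ g * z * g⁻¹ ∈ (S : Subgroup G) ∧ g * z * g⁻¹ ∉ Z := by
  by_contra hcon
  push Not at hcon
  apply hw
  refine ⟨h.ZS, fun g hg => ?_⟩
  refine Subgroup.eq_of_le_of_card_ge ?_ ?_
  · rintro _ ⟨z, hz, rfl⟩
    by_cases hz1 : z = 1
    · rw [hz1, map_one]; exact one_mem _
    · exact hcon g z hz hz1 (hg ⟨z, hz, rfl⟩)
  · rw [Subgroup.card_map_of_injective (MulAut.conj g).injective]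

/-- conjugates of the nontrivial elements of `Z` -/
def Fused (Z : Subgroup G) (y : G) : Prop := ∃ g : G, ∃ z ∈ Z, z ≠ 1 ∧ g * z * g⁻¹ = y

omit h in
theorem Fused.conj {Z : Subgroup G} {y : G} (hy : Fused Z y) (g : G) : Fused Z (g * y * g⁻¹) := by
  obtain ⟨k, z, hz, hz1, rfl⟩ := hy
  exact ⟨g * k, z, hz, hz1, by group⟩

omit h [Finite G] in
/-- powers of a central commutator -/
theorem conj_pow_of {q x c : G} (h1 : q * x * q⁻¹ = x * c) (h2 : q * c = c * q) (n : ℕ) :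
    q ^ n * x * (q ^ n)⁻¹ = x * c ^ n := by
  induction n with
  | zero => simp
  | succ n ih =>
    have h5 : q ^ (n + 1) * x * (q ^ (n + 1))⁻¹ = q * (q ^ n * x * (q ^ n)⁻¹) * q⁻¹ := by
      rw [pow_succ']; group
    rw [h5, ih]
    have h6 : q * c ^ n = c ^ n * q := (show Commute q c from h2).pow_right n
    calc q * (x * c ^ n) * q⁻¹ = q * x * q⁻¹ * (q * c ^ n) * q⁻¹ := by group
      _ = q * x * q⁻¹ * c ^ n := by rw [h6]; group
      _ = x * c ^ (n + 1) := by rw [h1, pow_succ']; group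

omit h [Finite G] in
theorem conj_two {q x a c : G} (f1 : q * x * q⁻¹ = x * a) (f3 : q * a * q⁻¹ = a * c) :
    ∀ i < 3, q ^ i * x * (q ^ i)⁻¹ = x * a ^ i * c ^ (i * (i - 1) / 2) := by
  intro i hi
  interval_cases i
  · simp
  · simpa using f1
  · calc q ^ 2 * x * (q ^ 2)⁻¹ = q * (q * x * q⁻¹) * q⁻¹ := by rw [pow_two]; group
      _ = q * (x * a) * q⁻¹ := by rw [f1]
      _ = (q * x * q⁻¹) * (q * a * q⁻¹) := by group
      _ = x * a ^ 2 * c ^ (2 * (2 - 1) / 2) := by rw [f1, f3, pow_two]; norm_num; group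

/-- the elementary abelian subgroup used for the signalizer argument -/
theorem exists_E (hw : ¬ IsWeaklyClosed Z (S : Subgroup G)) :
    ∃ E : Subgroup G, IsElementaryAbelian 3 E ∧ E ≠ ⊥ ∧ ∀ B ≤ E, B.relIndex E = 3 → ∃ y ∈ B, Fused Z y := by
  obtain ⟨g, z₀, hz₀, hz₀1, hxS, hxZ⟩ := h.exists_x hw
  set x := g * z₀ * g⁻¹ with hx
  have hxf : Fused Z x := ⟨g, z₀, hz₀, hz₀1, rfl⟩
  have hxC := h.SC hxS
  have hx3 : x ^ 3 = 1 := by rw [hx, conj_pow, h.cube (h.ZQ hz₀), mul_one, mul_inv_cancel]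
  obtain ⟨z, hz, hz1⟩ := h.exists_gen
  have hz3 : z ^ 3 = 1 := h.cube (h.ZQ hz)
  have hzf : Fused Z z := ⟨1, z, hz, hz1, by group⟩
  -- elements of `Z` are powers of `z`
  have hpow : ∀ c ∈ Z, ∃ n : ℕ, n < 3 ∧ c = z ^ n := by
    intro c hc
    have h1 : Z ≤ zpowers z := H261.eq_of_mem_of_card_prime Nat.prime_three h.cardZ hz hz1 (mem_zpowers z)
    obtain ⟨k, hk⟩ := mem_zpowers_iff.1 (h1 hc)
    refine ⟨(k % 3).toNat, ?_, ?_⟩
    · have h7 : k % 3 < 3 := Int.emod_lt_of_pos k (by norm_num)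
      have h6 : 0 ≤ k % 3 := Int.emod_nonneg k (by norm_num)
      omega
    · rw [← hk, ← zpow_natCast, Int.toNat_of_nonneg (Int.emod_nonneg k (by norm_num))]
      conv_lhs => rw [← Int.mul_ediv_add_emod k 3, zpow_add, zpow_mul]
      have h6 : z ^ (3 : ℤ) = 1 := by rw [← hz3]; norm_cast
      rw [h6, one_zpow, one_mul]
  -- elementary abelian closures
  have hclos : ∀ T : Set G, (∀ a ∈ T, ∀ b ∈ T, a * b = b * a) → (∀ a ∈ T, a ^ 3 = 1) →
      (∀ a ∈ closure T, ∀ b ∈ closure T, a * b = b * a) ∧ IsElementaryAbelian 3 (closure T) := by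
    intro T hT1 hT2
    have hc : ∀ a ∈ closure T, ∀ b ∈ closure T, a * b = b * a := by
      intro a ha b hb
      have := (Subgroup.isMulCommutative_closure hT1).is_comm.comm ⟨a, ha⟩ ⟨b, hb⟩
      exact congrArg Subtype.val this
    refine ⟨hc, ⟨⟨fun a b => Subtype.ext (hc a a.2 b b.2)⟩⟩, ?_⟩
    intro a ha
    induction ha using Subgroup.closure_induction with
    | mem a ha => exact hT2 a ha
    | one => exact one_pow 3
    | mul a b ha hb h1 h2 =>
      rw [(show Commute a b from hc a ha b hb).mul_pow, h1, h2, one_mul]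
    | inv a ha h1 => rw [inv_pow, h1, inv_one]
  have hzx : z * x = x * z := h.comm_Z hz hxC
  -- the first case
  have case1 : ∀ q c : G, q ∈ centralizer (Z : Set G) → c ∈ Z → c ≠ 1 → q * x * q⁻¹ = x * c →
      ∃ E : Subgroup G, IsElementaryAbelian 3 E ∧ E ≠ ⊥ ∧ ∀ B ≤ E, B.relIndex E = 3 → ∃ y ∈ B, Fused Z y := by
    intro q c hq hc hc1 hqx
    obtain ⟨h1, h2⟩ := hclos {c, x} (by
      rintro a (rfl | rfl) b (rfl | rfl)
      · rfl
      · exact h.comm_Z hc hxC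
      · exact (h.comm_Z hc hxC).symm
      · rfl) (by
      rintro a (rfl | rfl)
      · exact h.cube (h.ZQ hc)
      · exact hx3)
    have hcE : c ∈ closure ({c, x} : Set G) := subset_closure (Set.mem_insert _ _)
    have hxE : x ∈ closure ({c, x} : Set G) := subset_closure (Set.mem_insert_of_mem _ rfl)
    refine ⟨closure {c, x}, h2, ?_, ?_⟩
    · intro h3
      rw [h3, mem_bot] at hcE
      exact hc1 hcE
    · intro B hB hB3
      by_cases hcB : c ∈ B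
      · exact ⟨c, hcB, 1, c, hc, hc1, by group⟩
      · obtain ⟨n, -, hn⟩ := exists_pow_mem h1 hB3 hcE hcB (h.cube (h.ZQ hc)) hxE
        refine ⟨_, hn, ?_⟩
        rw [← conj_pow_of hqx (h.comm_Z hc hq).symm n]
        exact hxf.conj _
  by_cases hxQ : x ∈ Q
  · obtain ⟨q, hq, hqx⟩ := h.exists_comm_Z hxQ hxZ hz
    exact case1 q z (h.QC hq) hz hz1 hqx
  rcases h.hx.split (x := ⟨x, hxC⟩) (fun h1 => hxQ ((h.mem_Q hxC).1 h1)) (Subtype.ext hx3) with
    ⟨q, c, hc, hc1, hqx⟩ | ⟨q₁, q₂, a₁, a₂, c₁, c₂, ha₁, ha₂, hc₁, hc₂, hc₁1, hc₂1, e1, e2, e3, e4, e5, e6, e7, e8, e9⟩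
  · exact case1 q c q.2 hc (fun h1 => hc1 (Subtype.ext h1)) (congrArg Subtype.val hqx)
  · -- the second case
    have ha₁Q := (h.mem_Q a₁.2).1 ha₁
    have ha₂Q := (h.mem_Q a₂.2).1 ha₂
    have hc₁Z : (c₁ : G) ∈ Z := hc₁
    have hc₂Z : (c₂ : G) ∈ Z := hc₂
    have f1 : (q₁ : G) * x * (q₁ : G)⁻¹ = x * a₁ := congrArg Subtype.val e1
    have f2 : (q₂ : G) * x * (q₂ : G)⁻¹ = x * a₂ := congrArg Subtype.val e2
    have f3 : (q₁ : G) * a₁ * (q₁ : G)⁻¹ = a₁ * c₁ := congrArg Subtype.val e3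
    have f4 : (q₂ : G) * a₂ * (q₂ : G)⁻¹ = a₂ * c₂ := congrArg Subtype.val e4
    have f5 : (q₁ : G) * a₂ = a₂ * q₁ := congrArg Subtype.val e5
    have f6 : (q₂ : G) * a₁ = a₁ * q₂ := congrArg Subtype.val e6
    have f7 : (a₁ : G) * a₂ = a₂ * a₁ := congrArg Subtype.val e7
    have f8 : x * a₁ = a₁ * x := congrArg Subtype.val e8
    have f9 : x * a₂ = a₂ * x := congrArg Subtype.val e9
    have g1 : z * (a₁ : G) = a₁ * z := h.comm_Z hz a₁.2
    have g2 : z * (a₂ : G) = a₂ * z := h.comm_Z hz a₂.2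
    obtain ⟨h1, h2⟩ := hclos {z, x, (a₁ : G), (a₂ : G)} (by
      rintro a (rfl | rfl | rfl | rfl) b (rfl | rfl | rfl | rfl)
      all_goals first | rfl | assumption | (symm; assumption)) (by
      rintro a (rfl | rfl | rfl | rfl)
      · exact hz3
      · exact hx3
      · exact h.cube ha₁Q
      · exact h.cube ha₂Q)
    have hzE : z ∈ closure ({z, x, (a₁ : G), (a₂ : G)} : Set G) := subset_closure (by simp)
    have hxE : x ∈ closure ({z, x, (a₁ : G), (a₂ : G)} : Set G) := subset_closure (by simp)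
    have ha₁E : (a₁ : G) ∈ closure ({z, x, (a₁ : G), (a₂ : G)} : Set G) := subset_closure (by simp)
    have ha₂E : (a₂ : G) ∈ closure ({z, x, (a₁ : G), (a₂ : G)} : Set G) := subset_closure (by simp)
    refine ⟨closure {z, x, (a₁ : G), (a₂ : G)}, h2, ?_, ?_⟩
    · intro h3
      rw [h3, mem_bot] at hzE
      exact hz1 hzE
    · intro B hB hB3
      by_cases hzB : z ∈ B
      · exact ⟨z, hzB, hzf⟩
      · obtain ⟨n₀, hn₀, b0⟩ := exists_pow_mem h1 hB3 hzE hzB hz3 hxE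
        obtain ⟨n₁, hn₁, b1⟩ := exists_pow_mem h1 hB3 hzE hzB hz3 ha₁E
        obtain ⟨n₂, hn₂, b2⟩ := exists_pow_mem h1 hB3 hzE hzB hz3 ha₂E
        obtain ⟨m₁, hm₁, d1⟩ := hpow _ hc₁Z
        obtain ⟨m₂, hm₂, d2⟩ := hpow _ hc₂Z
        have hm₁0 : m₁ ≠ 0 := by
          rintro rfl
          exact hc₁1 (Subtype.ext (by rw [d1, pow_zero]; rfl))
        have hm₂0 : m₂ ≠ 0 := by
          rintro rfl
          exact hc₂1 (Subtype.ext (by rw [d2, pow_zero]; rfl))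
        have key : ∃ i j : ℕ, i < 3 ∧ j < 3 ∧
            (m₁ * (i * (i - 1) / 2) + m₂ * (j * (j - 1) / 2)) % 3 = (n₀ + n₁ * i + n₂ * j) % 3 := by
          have h3 : ∀ n₀ n₁ n₂ m₁ m₂ : Fin 3, m₁.val ≠ 0 → m₂.val ≠ 0 → ∃ i j : Fin 3,
              (m₁.val * (i.val * (i.val - 1) / 2) + m₂.val * (j.val * (j.val - 1) / 2)) % 3 =
                (n₀.val + n₁.val * i.val + n₂.val * j.val) % 3 := by
            decide +kernel
          obtain ⟨i, j, h4⟩ := h3 ⟨n₀, hn₀⟩ ⟨n₁, hn₁⟩ ⟨n₂, hn₂⟩ ⟨m₁, hm₁⟩ ⟨m₂, hm₂⟩ hm₁0 hm₂0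
          exact ⟨i, j, i.2, j.2, h4⟩
        obtain ⟨i, j, hi, hj, hij⟩ := key
        -- the conjugate of `x`
        have hmod : z ^ (m₁ * (i * (i - 1) / 2) + m₂ * (j * (j - 1) / 2)) = z ^ (n₀ + n₁ * i + n₂ * j) := by
          rw [pow_eq_pow_mod _ hz3, hij, ← pow_eq_pow_mod _ hz3]
        have p1 := conj_two f1 f3 i hi
        have p2 := conj_two f2 f4 j hj
        rw [d1, ← pow_mul] at p1
        rw [d2, ← pow_mul] at p2
        have hz' : ∀ n : ℕ, ∀ y : G, z * y = y * z → z ^ n * y = y * z ^ n := fun n y hy =>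
          (show Commute z y from hy).pow_left n
        have hq₂z : z * (q₂ : G) = q₂ * z := h.comm_Z hz q₂.2
        have p3 : (q₂ : G) ^ j * ((q₁ : G) ^ i * x * ((q₁ : G) ^ i)⁻¹) * ((q₂ : G) ^ j)⁻¹ =
            (x * z ^ n₀) * ((a₁ : G) * z ^ n₁) ^ i * ((a₂ : G) * z ^ n₂) ^ j := by
          rw [p1]
          have k1 : ((a₁ : G) * z ^ n₁) ^ i = (a₁ : G) ^ i * z ^ (n₁ * i) := by
            rw [((show Commute z (a₁ : G) from g1).symm.pow_right n₁).mul_pow, pow_mul]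
          have k2 : ((a₂ : G) * z ^ n₂) ^ j = (a₂ : G) ^ j * z ^ (n₂ * j) := by
            rw [((show Commute z (a₂ : G) from g2).symm.pow_right n₂).mul_pow, pow_mul]
          rw [k1, k2]
          have k3 : (q₂ : G) ^ j * (a₁ : G) ^ i = (a₁ : G) ^ i * (q₂ : G) ^ j :=
            (show Commute (q₂ : G) (a₁ : G) from f6).pow_pow j i
          have k4 : (a₁ : G) ^ i * (a₂ : G) ^ j = (a₂ : G) ^ j * (a₁ : G) ^ i :=
            (show Commute (a₁ : G) (a₂ : G) from f7).pow_pow i j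
          have k5 : ∀ n : ℕ, z ^ n * (q₂ : G) ^ j = (q₂ : G) ^ j * z ^ n := fun n =>
            (show Commute z (q₂ : G) from hq₂z).pow_pow n j
          have k6 : ∀ n : ℕ, z ^ n * (a₁ : G) ^ i = (a₁ : G) ^ i * z ^ n := fun n =>
            (show Commute z (a₁ : G) from g1).pow_pow n i
          have k7 : ∀ n : ℕ, z ^ n * (a₂ : G) ^ j = (a₂ : G) ^ j * z ^ n := fun n =>
            (show Commute z (a₂ : G) from g2).pow_pow n j
          generalize (a₁ : G) ^ i = A₁ at *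
          generalize (a₂ : G) ^ j = A₂ at *
          generalize (q₂ : G) ^ j = P₂ at *
          calc P₂ * (x * A₁ * z ^ (m₁ * (i * (i - 1) / 2))) * P₂⁻¹
              = P₂ * x * A₁ * (z ^ (m₁ * (i * (i - 1) / 2)) * P₂) * P₂⁻¹ * P₂⁻¹ := by group
            _ = P₂ * x * (A₁ * P₂) * z ^ (m₁ * (i * (i - 1) / 2)) * P₂⁻¹ * P₂⁻¹ := by rw [k5]; group
            _ = P₂ * x * (P₂ * A₁) * z ^ (m₁ * (i * (i - 1) / 2)) * P₂⁻¹ * P₂⁻¹ := by rw [k3]
            _ = (P₂ * x * P₂⁻¹) * P₂ * (P₂ * A₁) * z ^ (m₁ * (i * (i - 1) / 2)) * P₂⁻¹ * P₂⁻¹ := by group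
            _ = (x * A₂ * z ^ (m₂ * (j * (j - 1) / 2))) * P₂ * (A₁ * P₂) * z ^ (m₁ * (i * (i - 1) / 2)) * P₂⁻¹ * P₂⁻¹ := by
              rw [p2, k3]
            _ = (x * A₂ * z ^ (m₂ * (j * (j - 1) / 2))) * (P₂ * A₁) * (P₂ * z ^ (m₁ * (i * (i - 1) / 2))) * P₂⁻¹ * P₂⁻¹ := by
              group
            _ = (x * A₂ * z ^ (m₂ * (j * (j - 1) / 2))) * (A₁ * P₂) * (z ^ (m₁ * (i * (i - 1) / 2)) * P₂) * P₂⁻¹ * P₂⁻¹ := by
              rw [k3, k5]
            _ = (x * A₂ * z ^ (m₂ * (j * (j - 1) / 2))) * A₁ * (P₂ * z ^ (m₁ * (i * (i - 1) / 2))) * P₂⁻¹ := by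
              group
            _ = x * A₂ * (z ^ (m₂ * (j * (j - 1) / 2)) * A₁) * z ^ (m₁ * (i * (i - 1) / 2)) := by
              rw [← k5]; group
            _ = x * (A₂ * A₁) * (z ^ (m₂ * (j * (j - 1) / 2)) * z ^ (m₁ * (i * (i - 1) / 2))) := by
              rw [k6]; group
            _ = x * (A₁ * A₂) * (z ^ (m₁ * (i * (i - 1) / 2) + m₂ * (j * (j - 1) / 2))) := by
              rw [k4, ← pow_add, add_comm]
            _ = x * (A₁ * A₂) * (z ^ n₀ * z ^ (n₁ * i) * z ^ (n₂ * j)) := by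
              rw [hmod, pow_add, pow_add]
            _ = x * A₁ * (A₂ * z ^ n₀) * (z ^ (n₁ * i) * z ^ (n₂ * j)) := by group
            _ = x * (A₁ * z ^ n₀) * (A₂ * z ^ (n₁ * i)) * z ^ (n₂ * j) := by rw [← k7]; group
            _ = x * (z ^ n₀ * A₁) * (z ^ (n₁ * i) * A₂) * z ^ (n₂ * j) := by rw [← k6, ← k7]
            _ = x * z ^ n₀ * (A₁ * z ^ (n₁ * i)) * (A₂ * z ^ (n₂ * j)) := by group
        refine ⟨_, mul_mem (mul_mem b0 (pow_mem b1 i)) (pow_mem b2 j), ?_⟩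
        rw [← p3]
        exact (hxf.conj _).conj _

/-- **`O_{3'}(G) = 1`** -/
theorem core_eq_bot (hw : ¬ IsWeaklyClosed Z (S : Subgroup G)) : pPrimeCore 3 G = ⊥ := by
  have h3 : Fact (Nat.Prime 3) := ⟨Nat.prime_three⟩
  obtain ⟨E, hE, hE1, hEB⟩ := h.exists_E hw
  obtain ⟨N, hN⟩ : ∃ N, N = pPrimeCore 3 G := ⟨_, rfl⟩
  have hNn : N.Normal := by rw [hN]; exact Cfsg.Agent.Lib.Cores.pPrimeCore_normal 3
  have hNc : (Nat.card N).Coprime 3 := by rw [hN]; exact Cfsg.Agent.Lib.Cores.pPrimeCore_coprime 3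
  have hNd : ¬ 3 ∣ Nat.card N := fun h1 => by
    have := Nat.Coprime.eq_one_of_dvd (Nat.Coprime.symm hNc) h1
    norm_num at this
  rw [← hN]
  -- the intersection with a `3`-group
  have hN3 : ∀ y ∈ N, y ^ 3 = 1 → y = 1 := by
    intro y hy hy3
    have h1 : orderOf y ∣ 3 := orderOf_dvd_of_pow_eq_one hy3
    have h2 : orderOf y ∣ Nat.card N := by
      have := orderOf_dvd_natCard (⟨y, hy⟩ : N)
      rwa [Subgroup.orderOf_mk] at this
    exact orderOf_eq_one_iff.1 (Nat.eq_one_of_dvd_coprimes hNc h2 h1)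
  have hNZ : ∀ n ∈ N, n ∈ centralizer (Z : Set G) → n = 1 := by
    intro n hn hnC
    have h1 : n ∈ Q := by
      refine h.CQ ?_
      rw [Subgroup.mem_centralizer_iff]
      intro q hq
      have h2 : n * q * n⁻¹ * q⁻¹ = 1 := by
        apply hN3
        · have : n * q * n⁻¹ * q⁻¹ = n * (q * n⁻¹ * q⁻¹) := by group
          rw [this]
          exact mul_mem hn (hNn.conj_mem _ (inv_mem hn) q)
        · exact h.cube (mul_mem (h.conj_Q hnC hq) (inv_mem hq))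
      rw [mul_inv_eq_one, mul_inv_eq_iff_eq_mul] at h2
      exact h2.symm
    exact hN3 n hn (h.cube h1)
  have hNf : ∀ y, Fused Z y → N ⊓ centralizer {y} = ⊥ := by
    rintro _ ⟨g, z, hz, hz1, rfl⟩
    rw [Subgroup.eq_bot_iff_forall]
    rintro n ⟨hn, hnc⟩
    have h1 := mem_centralizer_singleton_iff.1 hnc
    have h2 : g⁻¹ * n * g = 1 := by
      apply hNZ
      · have := hNn.conj_mem n hn g⁻¹
        rwa [inv_inv] at this
      · rw [h.mem_C_iff hz hz1]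
        calc g⁻¹ * n * g * z = g⁻¹ * (n * (g * z * g⁻¹)) * g := by group
          _ = z * (g⁻¹ * n * g) := by rw [h1]; group
    have h3 : n = g * (g⁻¹ * n * g) * g⁻¹ := by group
    rw [h3, h2, mul_one, mul_inv_cancel]
  have hsup := Cfsg.Agent.Lib.CoprimeHyperplane.iSup_centralizer_hyperplane (Q := N) hE hE1 hNd (by
    rw [Subgroup.normalizer_eq_top]
    exact le_top)
  rw [← hsup, eq_bot_iff]
  refine iSup_le fun ⟨B, hB, hB3⟩ => ?_
  obtain ⟨y, hy, hyf⟩ := hEB B hB hB3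
  rw [← hNf y hyf]
  refine inf_le_inf_left N ?_
  intro c hc
  rw [mem_centralizer_singleton_iff]
  exact (Subgroup.mem_centralizer_iff.1 hc y hy).symm

end GC

end Cfsg.Agent.H342.Co2G
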