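import Mathlib
import Cfsg.Agent.H342.Co2G
import Cfsg.Agent.H815.HnLoc

/-!
# Groups with `C_G(Z) = 3^{1+4}.2^{1+4}.A₅`: arithmetic
-/

set_option autoImplicit false
set_option linter.unusedSectionVars false

namespace Cfsg.Agent.H342.Co2G

open Subgroup Cfsg Cfsg.Agent.H342.Co2X Cfsg.Agent.Transfer
open Cfsg.Agent.H815.HnLoc (dvd_card card_orbit card_mul_rel conjAct)
open scoped commutatorElement

/-- abelian subgroups of an extraspecial group of order `3^5` -/
theorem extraspecial_abelian_le {E : Type*} [Group E] (hE : IsExtraspecial 3 E) (hc : Nat.card E = 243)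
    (A : Subgroup E) (hA : ∀ a ∈ A, ∀ b ∈ A, a * b = b * a) : Nat.card A ≤ 27 := by
  have : Finite E := Nat.finite_of_card_ne_zero (by rw [hc]; norm_num)
  by_contra hcon
  push Not at hcon
  have h1 : Nat.card A ∣ 3 ^ 5 := by
    have := Subgroup.card_subgroup_dvd_card A
    rwa [hc] at this
  obtain ⟨j, hj, hj2⟩ := (Nat.dvd_prime_pow Nat.prime_three).1 h1
  have hj4 : 4 ≤ j := by
    by_contra hcon2
    push Not at hcon2
    interval_cases j <;> omega
  have h81 : 81 ≤ Nat.card A := by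
    rw [hj2]
    calc 81 = 3 ^ 4 := by norm_num
      _ ≤ 3 ^ j := Nat.pow_le_pow_right (by norm_num) hj4
  have hcen : Nat.card (center E) = 3 := hE.2
  have hcomm : Nat.card (commutator E) = 3 := by rw [Extraspecial.commutator_eq_center hE]; exact hcen
  -- for every `q`, the centralizer of `q` in `A` is large
  have key : ∀ q : E, ∃ T : Subgroup E, 27 ≤ Nat.card T ∧ (∀ t ∈ T, t ∈ A ∧ t * q = q * t) := by
    intro q
    let f := (Extraspecial.commHom' (Extraspecial.comm_mem_center hE) q).comp A.subtype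
    refine ⟨f.ker.map A.subtype, ?_, ?_⟩
    · rw [Subgroup.card_map_of_injective A.subtype_injective]
      have h2 := f.ker.card_eq_card_quotient_mul_card_subgroup
      rw [Nat.card_congr (QuotientGroup.quotientKerEquivRange f).toEquiv] at h2
      have h3 : Nat.card f.range ≤ 3 := by
        rw [← hcomm]
        exact Nat.le_of_dvd Nat.card_pos (Subgroup.card_subgroup_dvd_card _)
      by_contra hcon2
      push Not at hcon2
      have h4 : Nat.card f.range * Nat.card f.ker ≤ 3 * 26 := Nat.mul_le_mul h3 (by omega)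
      omega
    · rintro _ ⟨t, ht, rfl⟩
      refine ⟨t.2, ?_⟩
      exact (Extraspecial.mem_ker_commHom' (Extraspecial.comm_mem_center hE)).1 ht
  by_cases hAtop : A = ⊤
  · have h2 : center E = ⊤ := by
      rw [eq_top_iff]
      intro x _
      rw [mem_center_iff]
      intro g
      exact hA g (hAtop ▸ mem_top _) x (hAtop ▸ mem_top _)
    rw [h2, Subgroup.card_top, hc] at hcen
    norm_num at hcen
  · obtain ⟨q, hq⟩ : ∃ q, q ∉ A := by
      by_contra hcon2
      push Not at hcon2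
      exact hAtop (eq_top_iff.2 fun x _ => hcon2 x)
    obtain ⟨T, hT, hT2⟩ := key q
    have h2 : A ⊔ zpowers q = ⊤ := by
      apply Subgroup.eq_top_of_card_eq
      have h3 : Nat.card (A ⊔ zpowers q : Subgroup E) ∣ 3 ^ 5 := by
        have := Subgroup.card_subgroup_dvd_card (A ⊔ zpowers q)
        rwa [hc] at this
      obtain ⟨i, hi, hi2⟩ := (Nat.dvd_prime_pow Nat.prime_three).1 h3
      have h4 : j < i := by
        by_contra hcon2
        push Not at hcon2
        have h5 : A = A ⊔ zpowers q := by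
          refine Subgroup.eq_of_le_of_card_ge le_sup_left ?_
          rw [hi2, hj2]
          exact Nat.pow_le_pow_right (by norm_num) hcon2
        apply hq
        rw [h5]
        exact mem_sup_right (mem_zpowers q)
      have h5 : i = 5 := by omega
      rw [hi2, hc, h5]
      norm_num
    have h3 : T ≤ center E := by
      intro t ht
      rw [mem_center_iff]
      have h4 : A ⊔ zpowers q ≤ centralizer {t} := by
        rw [sup_le_iff, zpowers_le]
        refine ⟨fun a ha => mem_centralizer_singleton_iff.2 (hA a ha t (hT2 t ht).1),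
          mem_centralizer_singleton_iff.2 (hT2 t ht).2.symm⟩
      intro g
      exact mem_centralizer_singleton_iff.1 (h4 (h2 ▸ mem_top g))
    have h4 := Nat.le_of_dvd Nat.card_pos (Subgroup.card_dvd_of_le h3)
    rw [hcen] at h4
    omega

namespace GC

variable {G : Type*} [Group G] [Finite G] {S : Sylow 3 G} {Z Q : Subgroup G} (h : GC S Z Q)
include h

theorem extraspecial_Q : IsExtraspecial 3 (pCore 3 (centralizer (Z : Set G))) := h.hx.hQ

/-- abelian 3-subgroups -/
theorem card_abelian {A : Subgroup G} (hA : IsPGroup 3 ↥A) (hc : ∀ a ∈ A, ∀ b ∈ A, a * b = b * a) :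
    Nat.card ↥A ≤ 3 ^ 4 := by
  have h3 : Fact (Nat.Prime 3) := ⟨Nat.prime_three⟩
  obtain ⟨P, hP⟩ := hA.exists_le_sylow
  obtain ⟨g, hg⟩ := MulAction.exists_smul_eq G P S
  set A' := A.map (MulAut.conj g).toMonoidHom with hA'
  have h1 : A' ≤ (S : Subgroup G) := by
    rintro _ ⟨a, ha, rfl⟩
    rw [← hg]
    exact Subgroup.smul_mem_pointwise_smul a (MulAut.conj g) (P : Subgroup G) (hP ha)
  have h2 : Nat.card A' = Nat.card A := Subgroup.card_map_of_injective (MulAut.conj g).injective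
  have hc' : ∀ a ∈ A', ∀ b ∈ A', a * b = b * a := by
    rintro _ ⟨a, ha, rfl⟩ _ ⟨b, hb, rfl⟩
    change (MulAut.conj g) a * (MulAut.conj g) b = (MulAut.conj g) b * (MulAut.conj g) a
    rw [← map_mul, ← map_mul, hc a ha b hb]
  rw [← h2]
  -- the intersection with `Q`
  have h4 : Nat.card (A' ⊓ Q : Subgroup G) ≤ 27 := by
    have h5 := extraspecial_abelian_le h.extraspecial_Q (by rw [h.hx.cardQ]; norm_num)
      ((((A' ⊓ Q : Subgroup G).subgroupOf (centralizer (Z : Set G)))).subgroupOf (pCore 3 (centralizer (Z : Set G)))) (by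
        intro a ha b hb
        exact Subtype.ext (Subtype.ext (hc' _ ha.1 _ hb.1)))
    refine le_trans ?_ h5
    refine Nat.card_le_card_of_injective (fun a => ⟨⟨⟨(a : G), h.QC a.2.2⟩, (h.mem_Q _).2 a.2.2⟩, ?_⟩) ?_
    · exact a.2
    · intro a b hab
      exact Subtype.ext (congrArg (fun t : ((((A' ⊓ Q : Subgroup G).subgroupOf (centralizer (Z : Set G)))).subgroupOf
        (pCore 3 (centralizer (Z : Set G)))) => (((t : pCore 3 (centralizer (Z : Set G))) :
          centralizer (Z : Set G)) : G)) hab)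
  -- the index
  have h5 : (A' ⊓ Q : Subgroup G).relIndex A' ≤ 3 := by
    rw [Subgroup.inf_relIndex_left]
    have h6 : Q.relIndex (S : Subgroup G) = 3 := by
      have h7 := card_mul_rel h.QS
      rw [h.cardQ, h.card_S] at h7
      omega
    rw [← h6]
    exact Subgroup.relIndex_le_of_le_right h1 (by rw [h6]; norm_num)
  have h6 := card_mul_rel (inf_le_left : A' ⊓ Q ≤ A')
  rw [← h6]
  calc _ ≤ 27 * 3 := Nat.mul_le_mul h4 h5
    _ = 3 ^ 4 := by norm_num

/-- conjugates of `Z` and Sylow subgroups: an element centralized by a subgroup of order `3^6` -/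
theorem exists_conj_of_dvd {y : G} (hd : 3 ^ 6 ∣ Nat.card ↥(centralizer {y} : Subgroup G)) :
    ∃ g : G, g * y * g⁻¹ ∈ Z := by
  have h3 : Fact (Nat.Prime 3) := ⟨Nat.prime_three⟩
  obtain ⟨P⟩ : Nonempty (Sylow 3 ↥(centralizer {y} : Subgroup G)) := inferInstance
  have h1 : 3 ^ 6 ∣ Nat.card ↥(P : Subgroup ↥(centralizer {y} : Subgroup G)) := P.pow_dvd_card_of_pow_dvd_card hd
  obtain ⟨T, hT⟩ : ∃ T : Subgroup G, T = (P : Subgroup ↥(centralizer {y} : Subgroup G)).map
    (centralizer {y} : Subgroup G).subtype := ⟨_, rfl⟩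
  have hTp : IsPGroup 3 ↥T := by rw [hT]; exact P.isPGroup'.map _
  have hTc : Nat.card ↥T = Nat.card ↥(P : Subgroup ↥(centralizer {y} : Subgroup G)) := by
    rw [hT, Subgroup.card_map_of_injective (Subgroup.subtype_injective _)]
  obtain ⟨P', hP'⟩ := hTp.exists_le_sylow
  obtain ⟨g, hg⟩ := MulAction.exists_smul_eq G P' S
  have h5 : ∀ t ∈ T, g * t * g⁻¹ ∈ (S : Subgroup G) := by
    intro t ht
    rw [← hg]
    exact Subgroup.smul_mem_pointwise_smul t (MulAut.conj g) (P' : Subgroup G) (hP' ht)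
  have h6 : T.map (MulAut.conj g).toMonoidHom = (S : Subgroup G) := by
    refine Subgroup.eq_of_le_of_card_ge ?_ ?_
    · rintro _ ⟨t, ht, rfl⟩
      exact h5 t ht
    · rw [Subgroup.card_map_of_injective (MulAut.conj g).injective, hTc]
      have hcS : Nat.card ↥(S : Subgroup G) = 729 := h.card_S
      rw [hcS]
      exact Nat.le_of_dvd Nat.card_pos (by norm_num at h1 ⊢; exact h1)
  have hyT : ∀ t ∈ T, t * y = y * t := by
    intro t ht
    rw [hT] at ht
    obtain ⟨⟨t, htc⟩, -, rfl⟩ := ht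
    exact mem_centralizer_singleton_iff.1 htc
  refine ⟨g, ?_⟩
  have h7 : ∀ s ∈ (S : Subgroup G), s * (g * y * g⁻¹) = g * y * g⁻¹ * s := by
    intro s hs
    rw [← h6] at hs
    obtain ⟨t, ht, rfl⟩ := hs
    change g * t * g⁻¹ * (g * y * g⁻¹) = g * y * g⁻¹ * (g * t * g⁻¹)
    calc g * t * g⁻¹ * (g * y * g⁻¹) = g * (t * y) * g⁻¹ := by group
      _ = g * (y * t) * g⁻¹ := by rw [hyT t ht]
      _ = _ := by group
  refine h.ZS' ?_ h7
  apply h.QS
  apply h.CQ
  rw [Subgroup.mem_centralizer_iff]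
  intro q hq
  exact h7 q (h.QS hq)

omit [Finite G] h in
theorem card_centralizer_conj (g y : G) :
    Nat.card ↥(centralizer {g * y * g⁻¹} : Subgroup G) = Nat.card ↥(centralizer {y} : Subgroup G) := by
  refine Nat.card_congr
    { toFun := fun b => ⟨g⁻¹ * b.1 * g, ?_⟩
      invFun := fun b => ⟨g * b.1 * g⁻¹, ?_⟩
      left_inv := fun b => Subtype.ext (by group)
      right_inv := fun b => Subtype.ext (by group) }
  · have h1 := mem_centralizer_singleton_iff.1 b.2
    rw [mem_centralizer_singleton_iff]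
    calc g⁻¹ * b.1 * g * y = g⁻¹ * (b.1 * (g * y * g⁻¹)) * g := by group
      _ = g⁻¹ * (g * y * g⁻¹ * b.1) * g := by rw [h1]
      _ = _ := by group
  · have h1 := mem_centralizer_singleton_iff.1 b.2
    rw [mem_centralizer_singleton_iff]
    calc g * b.1 * g⁻¹ * (g * y * g⁻¹) = g * (b.1 * y) * g⁻¹ := by group
      _ = g * (y * b.1) * g⁻¹ := by rw [h1]
      _ = _ := by group

theorem card_centralizer_fused {y : G} (hy : Fused Z y) : Nat.card ↥(centralizer {y} : Subgroup G) = 466560 := by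
  obtain ⟨g, z, hz, hz1, rfl⟩ := hy
  rw [card_centralizer_conj, h.centralizer_eq hz hz1, h.card_C]

theorem fused_of_dvd {y : G} (hy : y ≠ 1) (hd : 3 ^ 6 ∣ Nat.card ↥(centralizer {y} : Subgroup G)) : Fused Z y := by
  obtain ⟨g, hg⟩ := h.exists_conj_of_dvd hd
  exact ⟨g⁻¹, _, hg, fun h1 => hy (conj_eq_one_iff.1 h1), by group⟩

/-- an element of order three with at most three conjugates under `S` is in `Q` -/
theorem mem_Q_of_card {y : G} (hy3 : y ^ 3 = 1) (hr : 243 ≤ Nat.card ((S : Subgroup G) ⊓ centralizer {y} : Subgroup G)) :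
    y ∈ Q := by
  have h3 : Fact (Nat.Prime 3) := ⟨Nat.prime_three⟩
  set T : Subgroup G := (S : Subgroup G) ⊓ centralizer {y} with hT
  have hTS : T ≤ (S : Subgroup G) := inf_le_left
  have hTp : IsPGroup 3 T := S.isPGroup'.to_le hTS
  obtain ⟨z, hz, hz1⟩ := h.exists_gen
  have hTne : T ≠ ⊥ := by
    intro h1
    rw [h1, Subgroup.card_bot] at hr
    norm_num at hr
  have hzT : z ∈ T := by
    by_contra hzT
    obtain ⟨w, hw, hw1, hwc⟩ := Cfsg.Agent.Characters.CNBasic.exists_mem_center_of_normal T hTp T hTp hTne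
      (fun t ht d hd => mul_mem (mul_mem ht hd) (inv_mem ht))
    have h1 : T ⊔ Z = (S : Subgroup G) := by
      refine Subgroup.eq_of_le_of_card_ge (sup_le hTS h.ZS) ?_
      have h2 : IsPGroup 3 (T ⊔ Z : Subgroup G) := S.isPGroup'.to_le (sup_le hTS h.ZS)
      obtain ⟨a, ha⟩ := IsPGroup.iff_card.1 h2
      obtain ⟨b, hb⟩ := IsPGroup.iff_card.1 hTp
      have h4 : b < a := by
        by_contra hcon
        push Not at hcon
        have h5 : T = T ⊔ Z := by
          refine Subgroup.eq_of_le_of_card_ge le_sup_left ?_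
          rw [ha, hb]
          exact Nat.pow_le_pow_right (by norm_num) hcon
        exact hzT (h5 ▸ mem_sup_right hz)
      have h5 : 5 ≤ b := by
        by_contra hcon
        push Not at hcon
        have : 3 ^ b ≤ 3 ^ 4 := Nat.pow_le_pow_right (by norm_num) (by omega)
        rw [hb] at hr
        omega
      rw [h.card_S, ha]
      calc 729 = 3 ^ 6 := by norm_num
        _ ≤ 3 ^ a := Nat.pow_le_pow_right (by norm_num) (by omega)
    have h2 : (S : Subgroup G) ≤ centralizer {w} := by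
      rw [← h1]
      refine sup_le (fun t ht => mem_centralizer_singleton_iff.2 (hwc t ht)) ?_
      intro c hc
      exact mem_centralizer_singleton_iff.2 (h.comm_Z hc (h.SC (hTS hw)))
    have h4 : w ∈ Z := h.ZS' (hTS hw) fun s hs => mem_centralizer_singleton_iff.1 (h2 hs)
    exact hzT (H261.eq_of_mem_of_card_prime Nat.prime_three h.cardZ h4 hw1 hw hz)
  have hyC : y ∈ centralizer (Z : Set G) := by
    rw [h.mem_C_iff hz hz1]
    exact (mem_centralizer_singleton_iff.1 hzT.2).symm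
  by_contra hyQ
  have h1 := h.card_cent_le hyC hyQ hy3
  have h2 : Nat.card (T ⊓ Q : Subgroup G) ≤ 27 :=
    (Nat.le_of_dvd Nat.card_pos (Subgroup.card_dvd_of_le (by
      intro t ht
      exact ⟨ht.2, ht.1.2⟩))).trans h1
  have h5 : Q.relIndex T ≤ 3 := by
    have h6 : Q.relIndex (S : Subgroup G) = 3 := by
      have h7 := card_mul_rel h.QS
      rw [h.cardQ, h.card_S] at h7
      omega
    rw [← h6]
    exact Subgroup.relIndex_le_of_le_right hTS (by rw [h6]; norm_num)
  have h6 := card_mul_rel (inf_le_left : T ⊓ Q ≤ T)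
  rw [Subgroup.inf_relIndex_left] at h6
  have h7 : Nat.card (T ⊓ Q : Subgroup G) * Q.relIndex T ≤ 27 * 3 := Nat.mul_le_mul h2 h5
  omega

/-- the `K`-conjugates of the nontrivial elements of `Z` -/
def Cls (K Z : Subgroup G) : Set G := {y | ∃ k ∈ K, ∃ z ∈ Z, z ≠ 1 ∧ k * z * k⁻¹ = y}

omit h [Finite G] in
theorem cls_conj {K Z : Subgroup G} {y : G} (hy : y ∈ Cls K Z) {g : G} (hg : g ∈ K) : g * y * g⁻¹ ∈ Cls K Z := by
  obtain ⟨k, hk, z, hz, hz1, rfl⟩ := hy
  exact ⟨g * k, mul_mem hg hk, z, hz, hz1, by group⟩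

omit [Finite G] h in
theorem cls_ne_one {K Z : Subgroup G} {y : G} (hy : y ∈ Cls K Z) : y ≠ 1 := by
  obtain ⟨k, hk, z, hz, hz1, rfl⟩ := hy
  intro h1
  exact hz1 (conj_eq_one_iff.1 h1)

theorem cls_cube {K : Subgroup G} {y : G} (hy : y ∈ Cls K Z) : y ^ 3 = 1 := by
  obtain ⟨k, hk, z, hz, hz1, rfl⟩ := hy
  rw [conj_pow, h.cube (h.ZQ hz), mul_one, mul_inv_cancel]

/-- **the number of conjugates modulo nine** -/
theorem mod_nine {K : Subgroup G} (hK : centralizer (Z : Set G) ≤ K) :
    (Nat.card (Cls K Z) % 9 = 2 ∧ ∀ y ∈ Cls K Z, y ∈ Q → y ∈ Z) ∨ Nat.card (Cls K Z) % 9 = 8 := by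
  set R : Set G := {y | y ∈ Cls K Z ∧ y ∉ Q} with hR
  have hR9 : 9 ∣ Nat.card R := by
    refine dvd_card (S : Subgroup G) R ?_ 9 ?_
    · rintro m hm y ⟨h1, h2⟩
      refine ⟨cls_conj h1 (hK (h.SC hm)), fun hy => h2 ?_⟩
      have h3 := h.conj_Q (inv_mem (h.SC hm)) hy
      have h4 : m⁻¹ * (m * y * m⁻¹) * m⁻¹⁻¹ = y := by group
      rwa [h4] at h3
    · rintro y ⟨h1, h2⟩
      have h4 : (centralizer {y}).relIndex (S : Subgroup G) ∣ 3 ^ 6 := by
        have := Subgroup.relIndex_dvd_card (centralizer {y}) (S : Subgroup G)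
        rwa [h.card_S] at this
      obtain ⟨j, hj, hj2⟩ := (Nat.dvd_prime_pow Nat.prime_three).1 h4
      rw [hj2]
      have h5 : 2 ≤ j := by
        by_contra hcon
        push Not at hcon
        apply h2
        apply h.mem_Q_of_card (cls_cube h h1)
        have h6 := card_mul_rel (inf_le_left : (S : Subgroup G) ⊓ centralizer {y} ≤ (S : Subgroup G))
        rw [Subgroup.inf_relIndex_left, h.card_S, hj2] at h6
        have h7 : 3 ^ j ≤ 3 ^ 1 := Nat.pow_le_pow_right (by norm_num) (by omega)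
        by_contra hcon2
        push Not at hcon2
        have h8 : Nat.card ((S : Subgroup G) ⊓ centralizer {y} : Subgroup G) * 3 ^ j ≤ 242 * 3 ^ 1 :=
          Nat.mul_le_mul (by omega) h7
        omega
      exact pow_dvd_pow 3 h5
  have hsplit : Nat.card (Cls K Z) = Nat.card {y : G | y ∈ Cls K Z ∧ y ∈ Q} + Nat.card R := by
    have h1 : Cls K Z = {y : G | y ∈ Cls K Z ∧ y ∈ Q} ∪ R := by
      ext y
      constructor
      · intro hy
        by_cases hyQ : y ∈ Q
        · exact Or.inl ⟨hy, hyQ⟩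
        · exact Or.inr ⟨hy, hyQ⟩
      · rintro (hy | hy)
        · exact hy.1
        · exact hy.1
    have h2 : Disjoint {y : G | y ∈ Cls K Z ∧ y ∈ Q} R := by
      rw [Set.disjoint_left]
      rintro y hy hy'
      exact hy'.2 hy.2
    have h3 := Set.ncard_union_eq h2 (Set.toFinite _) (Set.toFinite _)
    rw [← h1] at h3
    exact h3
  have hne : ∀ T : Subgroup G, Nat.card {y : G | y ∈ T ∧ y ≠ 1} + 1 = Nat.card T := by
    intro T
    have h1 : (T : Set G) = insert 1 {y : G | y ∈ T ∧ y ≠ 1} := by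
      ext y
      constructor
      · intro hy
        by_cases hy1 : y = 1
        · left; exact hy1
        · right; exact ⟨hy, hy1⟩
      · rintro (rfl | hy)
        · exact one_mem T
        · exact hy.1
    have h2 : (T : Set G).ncard = {y : G | y ∈ T ∧ y ≠ 1}.ncard + 1 := by
      rw [h1]
      exact Set.ncard_insert_of_notMem (fun h3 => h3.2 rfl) (Set.toFinite _)
    exact h2.symm
  obtain ⟨r, hr⟩ := hR9
  by_cases hcase : ∀ y ∈ Cls K Z, y ∈ Q → y ∈ Z
  · left
    refine ⟨?_, hcase⟩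
    have h1 : {y : G | y ∈ Cls K Z ∧ y ∈ Q} = {y : G | y ∈ Z ∧ y ≠ 1} := by
      ext y
      constructor
      · rintro ⟨h1, h2⟩
        exact ⟨hcase y h1 h2, cls_ne_one h1⟩
      · rintro ⟨h1, h2⟩
        exact ⟨⟨1, one_mem K, y, h1, h2, by group⟩, h.ZQ h1⟩
    have h2 := hne Z
    rw [h.cardZ] at h2
    rw [hsplit, h1, hr]
    omega
  · right
    push Not at hcase
    obtain ⟨y₀, hy₀, hy₀Q, hy₀Z⟩ := hcase
    have h1 : {y : G | y ∈ Cls K Z ∧ y ∈ Q} = {y : G | y ∈ Q ∧ y ≠ 1} := by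
      ext y
      constructor
      · rintro ⟨h1, h2⟩
        exact ⟨h2, cls_ne_one h1⟩
      · rintro ⟨h1, h2⟩
        refine ⟨?_, h1⟩
        by_cases hyZ : y ∈ Z
        · exact ⟨1, one_mem K, y, hyZ, h2, by group⟩
        · obtain ⟨x, hx, rfl⟩ := h.trans_Q hy₀Q hy₀Z h1 hyZ
          exact cls_conj hy₀ (hK hx)
    have h2 := hne Q
    rw [h.cardQ] at h2
    rw [hsplit, h1, hr]
    omega

/-- the number of conjugates -/
theorem card_cls {K : Subgroup G} (hK : centralizer (Z : Set G) ≤ K) :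
    ∃ m, Nat.card K = 466560 * m ∧ ((Nat.card (Cls K Z) = m ∧ 2 ∣ m) ∨ Nat.card (Cls K Z) = 2 * m) := by
  obtain ⟨z, hz, hz1⟩ := h.exists_gen
  have hz3 : z ^ 3 = 1 := h.cube (h.ZQ hz)
  have hzz : z * z = z⁻¹ := by
    rw [eq_inv_iff_mul_eq_one, ← pow_two, ← pow_succ]
    exact hz3
  have hzi : z⁻¹ ≠ 1 := inv_ne_one.2 hz1
  have hZ : ∀ c ∈ Z, c ≠ 1 → c = z ∨ c = z⁻¹ := by
    intro c hc hc1
    have h1 : Z ≤ zpowers z := H261.eq_of_mem_of_card_prime Nat.prime_three h.cardZ hz hz1 (mem_zpowers z)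
    obtain ⟨k, hk⟩ := mem_zpowers_iff.1 (h1 hc)
    have h5 : z ^ (k % 3) = c := by
      rw [← hk]
      conv_rhs => rw [← Int.mul_ediv_add_emod k 3, zpow_add, zpow_mul]
      have h6 : z ^ (3 : ℤ) = 1 := by rw [← hz3]; norm_cast
      rw [h6, one_zpow, one_mul]
    have h7 : k % 3 < 3 := Int.emod_lt_of_pos k (by norm_num)
    have h6 : 0 ≤ k % 3 := Int.emod_nonneg k (by norm_num)
    have h8 : k % 3 = 0 ∨ k % 3 = 1 ∨ k % 3 = 2 := by omega
    rcases h8 with h8 | h8 | h8
    · rw [h8, zpow_zero] at h5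
      exact absurd h5.symm hc1
    · rw [h8, zpow_one] at h5
      exact Or.inl h5.symm
    · rw [h8] at h5
      have h9 : z ^ (2 : ℤ) = z * z := by rw [← pow_two]; norm_cast
      rw [h9, hzz] at h5
      exact Or.inr h5.symm
  -- the class of `z`
  let O : Set G := {y | ∃ k ∈ K, k * z * k⁻¹ = y}
  have hO : ∀ m ∈ K, ∀ y ∈ O, m * y * m⁻¹ ∈ O := by
    rintro m hm _ ⟨g, hg, rfl⟩
    exact ⟨m * g, mul_mem hm hg, by group⟩
  have hOc : Nat.card O = (centralizer (Z : Set G)).relIndex K := by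
    rw [← h.centralizer_eq hz hz1, ← card_orbit K O hO ⟨z, 1, one_mem K, by group⟩]
    let _ := conjAct K O hO
    have h1 : MulAction.orbit K (⟨z, 1, one_mem K, by group⟩ : O) = Set.univ := by
      rw [Set.eq_univ_iff_forall]
      rintro ⟨_, g, hg, rfl⟩
      exact ⟨⟨g, hg⟩, rfl⟩
    rw [h1, Nat.card_univ]
  refine ⟨Nat.card O, ?_, ?_⟩
  · rw [hOc, ← h.card_C, card_mul_rel hK]
  · by_cases hinv : z⁻¹ ∈ O
    · left
      have hOi : ∀ y ∈ O, y⁻¹ ∈ O := by
        rintro _ ⟨k, hk, rfl⟩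
        have h1 := hO k hk _ hinv
        have h2 : k * z⁻¹ * k⁻¹ = (k * z * k⁻¹)⁻¹ := by group
        rwa [h2] at h1
      have hCO : Cls K Z = O := by
        ext y
        constructor
        · rintro ⟨k, hk, c, hc, hc1, rfl⟩
          rcases hZ c hc hc1 with rfl | rfl
          · exact ⟨k, hk, rfl⟩
          · exact hO k hk _ hinv
        · rintro ⟨k, hk, rfl⟩
          exact ⟨k, hk, z, hz, hz1, rfl⟩
      refine ⟨by rw [hCO], ?_⟩
      have : Fact (Nat.Prime 2) := ⟨Nat.prime_two⟩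
      let σ : Equiv.Perm O :=
        { toFun := fun y => ⟨(y : G)⁻¹, hOi y y.2⟩
          invFun := fun y => ⟨(y : G)⁻¹, hOi y y.2⟩
          left_inv := fun y => Subtype.ext (inv_inv _)
          right_inv := fun y => Subtype.ext (inv_inv _) }
      have h1 := SympLoc.perm_modEq (p := 2) σ (fun y => by
        rw [pow_two, Equiv.Perm.mul_apply]
        exact Subtype.ext (inv_inv _))
      have h2 : Nat.card {y : O // σ y = y} = 0 := by
        rw [Nat.card_eq_zero]
        left
        refine ⟨?_⟩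
        rintro ⟨⟨y, hy⟩, hfix⟩
        have h3 : y⁻¹ = y := congrArg Subtype.val hfix
        have h4 : y ∈ Cls K Z := by rw [hCO]; exact hy
        have h5 := cls_cube h h4
        apply cls_ne_one h4
        have h6 : y * y = 1 := by
          nth_rewrite 1 [← h3]
          exact inv_mul_cancel y
        rw [pow_succ, pow_two, h6, one_mul] at h5
        exact h5
      rw [h2, Nat.ModEq] at h1
      omega
    · right
      have hCO : Cls K Z = O ∪ (fun y => y⁻¹) '' O := by
        ext y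
        constructor
        · rintro ⟨k, hk, c, hc, hc1, rfl⟩
          rcases hZ c hc hc1 with rfl | rfl
          · exact Or.inl ⟨k, hk, rfl⟩
          · right
            refine ⟨k * z * k⁻¹, ⟨k, hk, rfl⟩, ?_⟩
            group
        · rintro (⟨k, hk, rfl⟩ | ⟨_, ⟨k, hk, rfl⟩, rfl⟩)
          · exact ⟨k, hk, z, hz, hz1, rfl⟩
          · refine ⟨k, hk, z⁻¹, inv_mem hz, hzi, ?_⟩
            group
      have hd : Disjoint O ((fun y : G => y⁻¹) '' O) := by
        rw [Set.disjoint_left]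
        rintro _ ⟨k, hk, rfl⟩ ⟨_, ⟨l, hl, rfl⟩, hkl⟩
        apply hinv
        refine ⟨l⁻¹ * k, mul_mem (inv_mem hl) hk, ?_⟩
        have h1 : (l * z * l⁻¹)⁻¹ = k * z * k⁻¹ := hkl
        calc l⁻¹ * k * z * (l⁻¹ * k)⁻¹ = l⁻¹ * (k * z * k⁻¹) * l := by group
          _ = l⁻¹ * (l * z * l⁻¹)⁻¹ * l := by rw [h1]
          _ = z⁻¹ := by group
      have h3 := Set.ncard_union_eq hd (Set.toFinite _) (Set.toFinite _)
      rw [← hCO, Set.ncard_image_of_injective _ inv_injective] at h3
      have h4 : Nat.card (Cls K Z) = (Cls K Z).ncard := rfl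
      have h5 : Nat.card O = O.ncard := rfl
      rw [h4, h5, h3]
      ring

end GC

end Cfsg.Agent.H342.Co2G
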