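import Mathlib
import Cfsg.Agent.H342.Co2N
import Cfsg.Agent.H342.A12Three

/-!
# Groups with `C_G(Z) = 3^{1+4}.2^{1+4}.A₅`: no alternating subgroup of degree 12
-/

set_option autoImplicit false
set_option linter.unusedSectionVars false

namespace Cfsg.Agent.H342.Co2G

open Subgroup Cfsg Cfsg.Agent.H342.Co2X Cfsg.Agent.H342.A12Three
open Cfsg.Agent.H815.HnLoc (card_mul_rel)
open scoped commutatorElement

namespace GC

variable {G : Type*} [Group G] [Finite G] {S : Sylow 3 G} {Z Q : Subgroup G} (h : GC S Z Q)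
include h

/-- commutators of elements of `S` are in `Q` -/
theorem comm_mem_Q {a b : G} (ha : a ∈ (S : Subgroup G)) (hb : b ∈ (S : Subgroup G)) : a * b * a⁻¹ * b⁻¹ ∈ Q := by
  have : Fact (Nat.Prime 3) := ⟨Nat.prime_three⟩
  have hn : (Q.subgroupOf (S : Subgroup G)).Normal := ⟨fun n hn s => h.conj_Q (h.SC s.2) hn⟩
  have h6 : Q.relIndex (S : Subgroup G) = 3 := by
    have h7 := card_mul_rel h.QS
    rw [h.cardQ, h.card_S] at h7
    omega
  have h1 : Nat.card ((S : Subgroup G) ⧸ Q.subgroupOf (S : Subgroup G)) = 3 := h6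
  have h2 : IsCyclic ((S : Subgroup G) ⧸ Q.subgroupOf (S : Subgroup G)) := isCyclic_of_prime_card h1
  have h3 : ∀ x y : (S : Subgroup G) ⧸ Q.subgroupOf (S : Subgroup G), x * y = y * x :=
    fun x y => (IsCyclic.commGroup).mul_comm x y
  have h4 := h3 (QuotientGroup.mk ⟨a, ha⟩) (QuotientGroup.mk ⟨b, hb⟩)
  have h5 : ((⟨a, ha⟩ * ⟨b, hb⟩ * (⟨a, ha⟩ : (S : Subgroup G))⁻¹ * (⟨b, hb⟩ : (S : Subgroup G))⁻¹ : (S : Subgroup G)) :
      (S : Subgroup G) ⧸ Q.subgroupOf (S : Subgroup G)) = 1 := by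
    rw [QuotientGroup.mk_mul, QuotientGroup.mk_mul, QuotientGroup.mk_mul, QuotientGroup.mk_inv, QuotientGroup.mk_inv, h4,
      mul_inv_cancel_right, mul_inv_cancel]
  have h7 := (QuotientGroup.eq_one_iff
    (⟨a, ha⟩ * ⟨b, hb⟩ * (⟨a, ha⟩ : (S : Subgroup G))⁻¹ * (⟨b, hb⟩ : (S : Subgroup G))⁻¹ : (S : Subgroup G))).1 h5
  exact h7

/-- **There is no alternating subgroup of degree 12.** -/
theorem no_A12 {K : Subgroup G} (hKn : K.Normal)
    (hns : ∀ y ∈ Cls K Z, y ∈ Q → y ∈ Z) (f : A →* G) (hf : Function.Injective f) (hfK : ∀ a, f a ∈ K) : False := by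
  have h3 : Fact (Nat.Prime 3) := ⟨Nat.prime_three⟩
  -- conjugate into `S`
  obtain ⟨P', hP'⟩ := (isPGroup_P0.map f).exists_le_sylow
  obtain ⟨g, hg⟩ := MulAction.exists_smul_eq G P' S
  obtain ⟨k, hkf, hkK, hkS⟩ : ∃ k : A →* G, Function.Injective k ∧ (∀ a, k a ∈ K) ∧ ∀ a ∈ P0, k a ∈ (S : Subgroup G) := by
    refine ⟨(MulAut.conj g).toMonoidHom.comp f, (MulAut.conj g).injective.comp hf, ?_, ?_⟩
    · intro a
      exact hKn.conj_mem _ (hfK a) g
    · intro a ha
      change g * f a * g⁻¹ ∈ (S : Subgroup G)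
      rw [← hg]
      exact Subgroup.smul_mem_pointwise_smul (f a) (MulAut.conj g) (P' : Subgroup G) (hP' ⟨a, ha, rfl⟩)
  clear hP' hg hf hfK
  obtain ⟨m1, m2, m3, m4⟩ := mem_E0
  set P : Subgroup G := P0.map k with hP
  have hPS : P ≤ (S : Subgroup G) := by
    rintro _ ⟨a, ha, rfl⟩
    exact hkS a ha
  have hcardP : 243 ≤ Nat.card P := by
    rw [hP, Subgroup.card_map_of_injective hkf]
    exact card_P0
  set x := k x4 with hx
  have hxS : x ∈ (S : Subgroup G) := hkS _ (E0_le m4)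
  have hPT : P ≤ (S : Subgroup G) ⊓ centralizer {x} := by
    rintro _ ⟨a, ha, rfl⟩
    refine ⟨hkS a ha, mem_centralizer_singleton_iff.2 ?_⟩
    rw [hx, ← map_mul, ← map_mul, P0_comm_x4 a ha]
  have hTcard : 243 ≤ Nat.card ((S : Subgroup G) ⊓ centralizer {x} : Subgroup G) :=
    hcardP.trans (Nat.le_of_dvd Nat.card_pos (Subgroup.card_dvd_of_le hPT))
  have hxQ : x ∈ Q := h.mem_Q_of_card (by rw [hx, ← map_pow, x4_cube, map_one]) hTcard
  have hx1 : x ≠ 1 := fun h1 => x4_ne (hkf (by rw [map_one]; exact h1))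
  have hxZ : x ∉ Z := by
    intro hxZ
    have h1 := h.card_centralizer_fused (y := x) ⟨1, x, hxZ, hx1, by group⟩
    have h2 : k t7 ∈ centralizer {x} := by
      rw [mem_centralizer_singleton_iff, hx, ← map_mul, ← map_mul, c74]
    have h4 : orderOf (k t7) = 7 := by
      have : Fact (Nat.Prime 7) := ⟨by norm_num⟩
      refine orderOf_eq_prime (by rw [← map_pow, t7_pow, map_one]) ?_
      intro h5
      exact t7_ne (hkf (by rw [map_one]; exact h5))
    have h5 : orderOf (⟨k t7, h2⟩ : centralizer {x}) ∣ Nat.card (centralizer {x}) := orderOf_dvd_natCard _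
    rw [Subgroup.orderOf_mk, h4, h1] at h5
    norm_num at h5
  -- `P = C_S(x)`
  have hTne : (S : Subgroup G) ⊓ centralizer {x} ≠ (S : Subgroup G) := by
    intro h1
    apply hxZ
    refine h.ZS' hxS ?_
    intro s hs
    rw [← h1] at hs
    exact mem_centralizer_singleton_iff.1 hs.2
  have hTle : Nat.card ((S : Subgroup G) ⊓ centralizer {x} : Subgroup G) ≤ 243 := by
    have h1 : Nat.card ((S : Subgroup G) ⊓ centralizer {x} : Subgroup G) ∣ 3 ^ 6 := by
      have := Subgroup.card_dvd_of_le (inf_le_left : (S : Subgroup G) ⊓ centralizer {x} ≤ (S : Subgroup G))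
      rwa [h.card_S] at this
    obtain ⟨j, hj, hj2⟩ := (Nat.dvd_prime_pow Nat.prime_three).1 h1
    have h2 : j ≠ 6 := by
      rintro rfl
      apply hTne
      refine Subgroup.eq_of_le_of_card_ge inf_le_left ?_
      rw [hj2, h.card_S]
      norm_num
    rw [hj2]
    calc 3 ^ j ≤ 3 ^ 5 := Nat.pow_le_pow_right (by norm_num) (by omega)
      _ = 243 := by norm_num
  have hPeq : P = (S : Subgroup G) ⊓ centralizer {x} :=
    Subgroup.eq_of_le_of_card_ge hPT (hTle.trans hcardP)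
  have hPcard : Nat.card P = 243 := le_antisymm (by rw [hPeq]; exact hTle) hcardP
  -- `P` is normalized by `S`
  have hPn : (P.subgroupOf (S : Subgroup G)).Normal := by
    apply Subgroup.normal_of_index_eq_minFac_card
    have h1 := card_mul_rel hPS
    rw [hPcard, h.card_S] at h1
    have h2 : (P.subgroupOf (S : Subgroup G)).index = 3 := by
      change P.relIndex (S : Subgroup G) = 3
      omega
    rw [h2, h.card_S]
    norm_num
  have hconj : ∀ s ∈ (S : Subgroup G), ∀ p ∈ P, s * p * s⁻¹ ∈ P := fun s hs p hp =>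
    hPn.conj_mem ⟨p, hPS hp⟩ hp ⟨s, hs⟩
  -- the subgroup `P' ∩ Z(P)`
  set D : Subgroup G := ⁅P, P⁆ ⊓ centralizer (P : Set G) with hD
  have hcommP : ⁅P, P⁆ = (⁅P0, P0⁆).map k := (Subgroup.map_commutator P0 P0 k).symm
  have hDP : D ≤ P := inf_le_left.trans (Subgroup.commutator_le_self P)
  have hDn : ∀ t ∈ (S : Subgroup G), ∀ d ∈ D, t * d * t⁻¹ ∈ D := by
    rintro t ht d ⟨hd1, hd2⟩
    constructor
    · have h1 : ⁅P, P⁆.map (MulAut.conj t).toMonoidHom ≤ ⁅P, P⁆ := by
        rw [Subgroup.map_commutator]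
        have h2 : P.map (MulAut.conj t).toMonoidHom ≤ P := by
          rintro _ ⟨p, hp, rfl⟩
          exact hconj t ht p hp
        exact Subgroup.commutator_mono h2 h2
      exact h1 ⟨d, hd1, rfl⟩
    · have hd2' : d ∈ centralizer (P : Set G) := hd2
      change t * d * t⁻¹ ∈ centralizer (P : Set G)
      rw [Subgroup.mem_centralizer_iff] at hd2' ⊢
      intro p hp
      have h1 := hd2' _ (hconj t⁻¹ (inv_mem ht) p hp)
      calc p * (t * d * t⁻¹) = t * ((t⁻¹ * p * t⁻¹⁻¹) * d) * t⁻¹ := by group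
        _ = t * (d * (t⁻¹ * p * t⁻¹⁻¹)) * t⁻¹ := by rw [h1]
        _ = t * d * t⁻¹ * p := by group
  have hy0D : k y0 ∈ D := by
    refine ⟨?_, ?_⟩
    · rw [hcommP]
      exact ⟨y0, y0_mem, rfl⟩
    · change k y0 ∈ centralizer (P : Set G)
      rw [Subgroup.mem_centralizer_iff]
      have h1 : P0 ≤ centralizer {y0} := by
        unfold P0
        rw [closure_le]
        intro a ha
        exact mem_centralizer_singleton_iff.2 (y0_comm_gens a ha)
      rintro _ ⟨a, ha, rfl⟩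
      rw [← map_mul, ← map_mul, mem_centralizer_singleton_iff.1 (h1 ha)]
  have hDne : D ≠ ⊥ := by
    intro h1
    rw [h1, mem_bot] at hy0D
    exact y0_ne (hkf (by rw [map_one]; exact hy0D))
  obtain ⟨w, hw, hw1, hwc⟩ := Cfsg.Agent.Characters.CNBasic.exists_mem_center_of_normal (S : Subgroup G) S.isPGroup' D
    (S.isPGroup'.to_le (hDP.trans hPS)) hDne hDn
  have hwZ : w ∈ Z := h.ZS' (hPS (hDP hw)) hwc
  obtain ⟨hw2, hw3⟩ := hw
  rw [hcommP] at hw2
  obtain ⟨c, hc, rfl⟩ := hw2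
  have hw3' : k c ∈ centralizer (P : Set G) := hw3
  rw [Subgroup.mem_centralizer_iff] at hw3'
  have hcc : ∀ a ∈ P0, c * a = a * c := by
    intro a ha
    apply hkf
    rw [map_mul, map_mul]
    exact (hw3' _ ⟨a, ha, rfl⟩).symm
  have hy0Z : k y0 ∈ Z := by
    rcases central_of (hcc x1 (E0_le m1)) (hcc s s_mem) (hcc x4 (E0_le m4)) (fix_nine hc) with h1 | h1 | h1
    · exact absurd (by rw [h1, map_one]) hw1
    · rw [← h1]; exact hwZ
    · have h2 : k y0 = k c * k c := by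
        rw [h1, ← map_mul]
        exact congrArg k y0_four
      rw [h2]
      exact mul_mem hwZ hwZ
  -- the contradiction
  have hw0C : k w0 ∈ Cls K Z := by
    refine ⟨k g0, hkK g0, k y0, hy0Z, ?_, ?_⟩
    · intro h1
      exact y0_ne (hkf (by rw [map_one]; exact h1))
    · rw [← map_inv, ← map_mul, ← map_mul, g0_conj]
  have hw0Q : k w0 ∈ Q := by
    rw [w0_eq, map_mul]
    refine mul_mem ?_ hxQ
    rw [map_mul, map_mul, map_mul, map_inv, map_inv]
    exact h.comm_mem_Q (hkS _ s_mem) (hkS _ (E0_le (mul_mem m2 m3)))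
  have hw0Z := hns _ hw0C hw0Q
  apply w0_s
  apply hkf
  rw [map_mul, map_mul]
  exact h.comm_Z hw0Z (h.SC (hkS _ s_mem))

end GC

end Cfsg.Agent.H342.Co2G
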