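import Mathlib
import Cfsg.Agent.H342.Co2N
import Cfsg.Agent.Schreier.Basic

/-!
# Groups with `C_G(Z) = 3^{1+4}.2^{1+4}.A₅`: reduction to a simple normal subgroup
-/

set_option autoImplicit false
set_option linter.unusedSectionVars false

namespace Cfsg.Agent.H342.Co2X

open Subgroup Cfsg Cfsg.Agent.H342.Co2Act
open scoped commutatorElement IsMulCommutative

namespace XHyp

variable {X : Type*} [Group X] [Finite X] {Z S : Subgroup X} (h : XHyp Z S)
include h

/-- elements acting trivially on `Q / Z` -/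
theorem mem_Q_of_comm {c : X} (hc : ∀ q ∈ pCore 3 X, c * q * c⁻¹ * q⁻¹ ∈ Z) : c ∈ pCore 3 X := by
  obtain ⟨z, hz⟩ := h.hh
  have hQn : (pCore 3 X).Normal := inferInstance
  rw [← QuotientGroup.eq_one_iff]
  apply hz.faithful
  intro w
  obtain ⟨q, rfl⟩ := of_surjective w
  rw [act_mk, ← mul_inv_eq_one, ← map_inv, ← map_mul, h.of_eq_one_iff']
  exact hc q q.2

end XHyp

end Cfsg.Agent.H342.Co2X

namespace Cfsg.Agent.H342.Co2G

open Subgroup Cfsg Cfsg.Agent.H342.Co2X
open scoped commutatorElement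

/-- a quotient by a normal subgroup containing all perfect subgroups is solvable -/
theorem isSolvable_quotient {X : Type*} [Group X] [Finite X] (N : Subgroup X) [N.Normal]
    (h : ∀ P : Subgroup X, ⁅P, P⁆ = P → P ≤ N) : Group.IsSolvable (X ⧸ N) := by
  let n := Function.argmin (fun n : ℕ => Nat.card (derivedSeries X n))
  have hn : ∀ m, Nat.card (derivedSeries X n) ≤ Nat.card (derivedSeries X m) := fun m =>
    Function.argmin_le (fun n : ℕ => Nat.card (derivedSeries X n)) m
  have h1 : ⁅derivedSeries X n, derivedSeries X n⁆ = derivedSeries X n := by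
    rw [← derivedSeries_succ]
    exact Subgroup.eq_of_le_of_card_ge (derivedSeries_antitone X (Nat.le_succ n)) (hn _)
  have h2 := h _ h1
  refine ⟨⟨n, ?_⟩⟩
  rw [← map_derivedSeries_eq (QuotientGroup.mk'_surjective N) n, Subgroup.map_eq_bot_iff,
    QuotientGroup.ker_mk']
  exact h2

namespace GC

variable {G : Type*} [Group G] [Finite G] {S : Sylow 3 G} {Z Q : Subgroup G} (h : GC S Z Q)
include h

/-- **Reduction**: `G` has a simple normal subgroup containing `C_G(Z)`, with trivial centralizer. -/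
theorem exists_simple (hw : ¬ IsWeaklyClosed Z (S : Subgroup G))
    (hsch : ∀ K : Subgroup G, IsSimpleGroup K → ¬ IsMulCommutative K → Schreier.Basic.Sch K) :
    ∃ K : Subgroup G, K.Normal ∧ IsSimpleGroup K ∧ ¬ IsMulCommutative K ∧ centralizer (K : Set G) = ⊥ ∧
      centralizer (Z : Set G) ≤ K := by
  have h3 : Fact (Nat.Prime 3) := ⟨Nat.prime_three⟩
  obtain ⟨x, z, hz, hz1, hyS, hyZ⟩ := h.exists_x hw
  obtain ⟨hKn, hKs, hKc, hZK, hCK⟩ := h.loc.simple Nat.prime_three (h.core_eq_bot hw) ⟨x, z, hz, hyZ⟩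
  obtain ⟨K, hKdef⟩ : ∃ K, K = generalizedFittingSubgroup G := ⟨_, rfl⟩
  rw [← hKdef] at hKn hKs hKc hZK hCK
  -- `Q ≤ K`
  have hN : ((K ⊓ Q : Subgroup G).subgroupOf (centralizer (Z : Set G))).Normal := by
    refine ⟨fun n hn c => ?_⟩
    exact ⟨hKn.conj_mem _ hn.1 c, h.conj_Q c.2 hn.2⟩
  have hQK : Q ≤ K := by
    rcases h.hx.normal_le hN (fun n hn => (h.mem_Q n.2).2 hn.2) with h1 | h1
    · exfalso
      -- then `K ∩ S = Z`
      have h2 : ∀ k ∈ K, k ∈ Q → k ∈ Z := fun k hk hkQ => h1 (x := ⟨k, h.QC hkQ⟩) ⟨hk, hkQ⟩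
      have hyK : x * z * x⁻¹ ∈ K := hKn.conj_mem z (hZK hz) x
      apply hyZ
      apply h2 _ hyK
      rw [← h.mem_Q (h.SC hyS)]
      apply h.hx.mem_Q_of_comm
      intro q hq
      have hqQ := (h.mem_Q q.2).1 hq
      apply h2
      · have e1 : x * z * x⁻¹ * (q : G) * (x * z * x⁻¹)⁻¹ * (q : G)⁻¹ =
            x * z * x⁻¹ * ((q : G) * (x * z * x⁻¹)⁻¹ * (q : G)⁻¹) := by group
        change x * z * x⁻¹ * (q : G) * (x * z * x⁻¹)⁻¹ * (q : G)⁻¹ ∈ K
        rw [e1]
        exact mul_mem hyK (hKn.conj_mem _ (inv_mem hyK) _)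
      · exact mul_mem (h.conj_Q (h.SC hyS) hqQ) (inv_mem hqQ)
    · intro q hq
      have h2 : (⟨q, h.QC hq⟩ : centralizer (Z : Set G)) ∈
          (K ⊓ Q : Subgroup G).subgroupOf (centralizer (Z : Set G)) ⊔ Z.subgroupOf (centralizer (Z : Set G)) :=
        h1 ((h.mem_Q _).2 hq)
      have h4 : (K ⊓ Q : Subgroup G).subgroupOf (centralizer (Z : Set G)) ⊔ Z.subgroupOf (centralizer (Z : Set G)) ≤
          K.subgroupOf (centralizer (Z : Set G)) :=
        sup_le (fun a ha => ha.1) (fun a ha => hZK ha)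
      exact h4 h2
  -- `C ≤ K`
  have hCK' : centralizer (Z : Set G) ≤ K := by
    have hKC : (K.subgroupOf (centralizer (Z : Set G))).Normal := ⟨fun n hn c => hKn.conj_mem _ hn c⟩
    have h1 : K.subgroupOf (centralizer (Z : Set G)) = ⊤ := by
      apply h.hx.eq_top hKC
      · intro q hq
        exact hQK ((h.mem_Q q.2).1 hq)
      · apply isSolvable_quotient
        intro P hPP
        let φ : G →* MulAut ↥K := MulAut.conjNormal
        have h2 := hsch K hKs hKc ((P.map (centralizer (Z : Set G)).subtype).map φ) (by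
          rw [← Subgroup.map_commutator, ← Subgroup.map_commutator, hPP])
        intro p hp
        obtain ⟨k, hk⟩ := h2 ⟨(p : G), ⟨p, hp, rfl⟩, rfl⟩
        have h4 : (k : G)⁻¹ * p ∈ centralizer (K : Set G) := by
          rw [Subgroup.mem_centralizer_iff]
          intro y hy
          have h5 := congrArg (fun a : MulAut ↥K => ((a ⟨y, hy⟩ : ↥K) : G)) hk
          have h6 : (k : G) * y * (k : G)⁻¹ = p * y * (p : G)⁻¹ := h5
          calc y * ((k : G)⁻¹ * p) = (k : G)⁻¹ * ((k : G) * y * (k : G)⁻¹) * p := by group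
            _ = (k : G)⁻¹ * (p * y * (p : G)⁻¹) * p := by rw [h6]
            _ = (k : G)⁻¹ * p * y := by group
        rw [hCK, Subgroup.mem_bot, inv_mul_eq_one] at h4
        change (p : G) ∈ K
        rw [← h4]
        exact k.2
    intro c hc
    have h2 : (⟨c, hc⟩ : centralizer (Z : Set G)) ∈ K.subgroupOf (centralizer (Z : Set G)) := h1 ▸ mem_top _
    exact h2
  exact ⟨K, hKn, hKs, hKc, hCK, hCK'⟩

end GC

end Cfsg.Agent.H342.Co2G
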