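import Mathlib
import Cfsg.Agent.H342.Co2R
import Cfsg.Agent.H342.Co2HN

/-!
# Groups with `C_G(Z) = 3^{1+4}.2^{1+4}.A₅`: the hypotheses for the simple subgroup
-/

set_option autoImplicit false
set_option linter.unusedSectionVars false

namespace Cfsg.Agent.H342.Co2G

open Subgroup Cfsg Cfsg.Agent.H342.Co2X Cfsg.Agent.H342.A12Three
open Cfsg.Agent.H815.HnLoc (card_mul_rel)

/-- the hypotheses for the elimination -/
structure EHyp (L : Type*) [Group L] : Prop where
  d6 : 3 ^ 6 ∣ Nat.card L
  n7 : ¬ 3 ^ 7 ∣ Nat.card L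
  hab : ∀ A : Subgroup L, IsPGroup 3 A → (∀ a ∈ A, ∀ b ∈ A, a * b = b * a) → Nat.card A ≤ 3 ^ 4
  cent : ∀ y : L, orderOf y = 3 → 3 ^ 6 ∣ Nat.card (centralizer ({y} : Set L)) →
    Nat.card (centralizer ({y} : Set L)) = 466560
  ex : ∃ y : L, orderOf y = 3 ∧ 3 ^ 6 ∣ Nat.card (centralizer ({y} : Set L))
  cnt : ∃ m, Nat.card L = 466560 * m ∧ ((2 ∣ m ∧ (m % 9 = 2 ∨ m % 9 = 8)) ∨ m % 9 = 1 ∨ m % 9 = 4)
  fact : ∀ m, Nat.card L = 466560 * m → Nat.card L ∣ m.factorial
  cen : ∀ P : Subgroup L, IsPGroup 3 P → Nat.card P = 3 ^ 6 → Nat.card (center P) ≤ 3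
  a12 : ∀ m, Nat.card L = 466560 * m → m % 9 = 2 → ∀ f : A →* L, ¬ Function.Injective f

/-- In a simple group a proper subgroup `H` gives an embedding in the symmetric group on the cosets. -/
theorem card_dvd_factorial {G : Type*} [Group G] [Finite G] [IsSimpleGroup G] (H : Subgroup G) (hH : H ≠ ⊤) :
    Nat.card G ∣ H.index.factorial := by
  classical
  have h1 : H.normalCore = ⊥ := by
    rcases (inferInstance : H.normalCore.Normal).eq_bot_or_eq_top with h | h
    · exact h
    · exact absurd (top_le_iff.1 (h ▸ H.normalCore_le)) hH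
  have h2 : Function.Injective (MulAction.toPermHom G (G ⧸ H)) := by
    rw [← MonoidHom.ker_eq_bot_iff, ← Subgroup.normalCore_eq_ker, h1]
  have h3 := Subgroup.card_dvd_of_injective _ h2
  rw [Nat.card_perm] at h3
  exact h3

theorem isPGroup_map' {G H : Type*} [Group G] [Group H] {P : Subgroup G} (hP : IsPGroup 3 P) (f : G →* H) :
    IsPGroup 3 (P.map f) := hP.map f

namespace GC

variable {G : Type*} [Group G] [Finite G] {S : Sylow 3 G} {Z Q : Subgroup G} (h : GC S Z Q)
include h

/-- **the hypotheses for the simple subgroup** -/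
theorem ehyp {K : Subgroup G} (hKn : K.Normal) (hKs : IsSimpleGroup K) (hKc : ¬ IsMulCommutative K)
    (hK : centralizer (Z : Set G) ≤ K) : EHyp K := by
  have h3 : Fact (Nat.Prime 3) := ⟨Nat.prime_three⟩
  -- centralizers of fused elements
  have hcf : ∀ y : K, Fused Z (y : G) → Nat.card (centralizer ({y} : Set K)) = 466560 := by
    rintro y ⟨g, z, hz, hz1, hy⟩
    rw [← h.card_centralizer_fused (y := (y : G)) ⟨g, z, hz, hz1, hy⟩]
    have h1 : centralizer {(y : G)} ≤ K := by
      intro c hc
      have h2 := mem_centralizer_singleton_iff.1 hc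
      rw [← hy] at h2
      have h4 : g⁻¹ * c * g ∈ centralizer (Z : Set G) := by
        rw [h.mem_C_iff hz hz1]
        calc g⁻¹ * c * g * z = g⁻¹ * (c * (g * z * g⁻¹)) * g := by group
          _ = g⁻¹ * (g * z * g⁻¹ * c) * g := by rw [h2]
          _ = z * (g⁻¹ * c * g) := by group
      have h5 := hKn.conj_mem _ (hK h4) g
      have h6 : g * (g⁻¹ * c * g) * g⁻¹ = c := by group
      rwa [h6] at h5
    refine Nat.card_congr
      { toFun := fun c => ⟨(c : K), ?_⟩
        invFun := fun c => ⟨⟨c, h1 c.2⟩, ?_⟩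
        left_inv := fun c => rfl
        right_inv := fun c => rfl }
    · rw [mem_centralizer_singleton_iff]
      exact congrArg Subtype.val (mem_centralizer_singleton_iff.1 c.2)
    · rw [mem_centralizer_singleton_iff]
      exact Subtype.ext (mem_centralizer_singleton_iff.1 c.2)
  have hle : ∀ y : K, Nat.card (centralizer ({y} : Set K)) ∣ Nat.card (centralizer ({(y : G)} : Set G)) := by
    intro y
    let f : centralizer ({y} : Set K) →* centralizer ({(y : G)} : Set G) :=
      { toFun := fun c => ⟨((c : K) : G), by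
          rw [mem_centralizer_singleton_iff]
          exact congrArg Subtype.val (mem_centralizer_singleton_iff.1 c.2)⟩
        map_one' := rfl
        map_mul' := fun a b => rfl }
    apply Subgroup.card_dvd_of_injective f
    intro a b hab
    exact Subtype.ext (Subtype.ext (congrArg (fun c : centralizer ({(y : G)} : Set G) => (c : G)) hab))
  have hCcard : Nat.card (centralizer (Z : Set G)) ∣ Nat.card K := Subgroup.card_dvd_of_le hK
  rw [h.card_C] at hCcard
  obtain ⟨z, hz, hz1⟩ := h.exists_gen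
  have hz3 : z ^ 3 = 1 := h.cube (h.ZQ hz)
  have hzK : z ∈ K := hK (h.ZC hz)
  refine
    { d6 := (by norm_num : 3 ^ 6 ∣ 466560).trans hCcard
      n7 := ?_
      hab := ?_
      cent := ?_
      ex := ?_
      cnt := ?_
      fact := ?_
      cen := ?_
      a12 := ?_ }
  · intro h7
    have h1 : 3 ^ 7 ∣ Nat.card G := h7.trans (Subgroup.card_subgroup_dvd_card K)
    have h2 : 3 ^ 7 ∣ Nat.card (S : Subgroup G) := S.pow_dvd_card_of_pow_dvd_card h1
    rw [h.card_S] at h2
    norm_num at h2
  · intro A hA hc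
    have h1 := h.card_abelian (A := A.map K.subtype) (hA.map _) (by
      rintro _ ⟨a, ha, rfl⟩ _ ⟨b, hb, rfl⟩
      rw [← map_mul, ← map_mul, hc a ha b hb])
    rwa [Subgroup.card_map_of_injective K.subtype_injective] at h1
  · intro y hy hd
    apply hcf
    apply h.fused_of_dvd
    · intro h1
      have h2 : y = 1 := Subtype.ext h1
      rw [h2, orderOf_one] at hy
      norm_num at hy
    · exact hd.trans (hle y)
  · refine ⟨⟨z, hzK⟩, ?_, ?_⟩
    · rw [Subgroup.orderOf_mk]
      exact orderOf_eq_prime hz3 hz1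
    · rw [hcf ⟨z, hzK⟩ ⟨1, z, hz, hz1, by group⟩]
      norm_num
  · obtain ⟨m, hm, h1⟩ := h.card_cls hK
    refine ⟨m, hm, ?_⟩
    rcases h.mod_nine hK with ⟨h2, -⟩ | h2
    · rcases h1 with ⟨h1, h4⟩ | h1
      · rw [h1] at h2
        exact Or.inl ⟨h4, Or.inl h2⟩
      · rw [h1] at h2
        right; left
        omega
    · rcases h1 with ⟨h1, h4⟩ | h1
      · rw [h1] at h2
        exact Or.inl ⟨h4, Or.inr h2⟩
      · rw [h1] at h2
        right; right
        omega
  · intro m hm
    have h1 : ((centralizer (Z : Set G)).subgroupOf K).index = m := by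
      have h2 := card_mul_rel hK
      rw [h.card_C, hm] at h2
      exact Nat.eq_of_mul_eq_mul_left (by norm_num) h2
    rw [← h1]
    apply card_dvd_factorial
    intro htop
    -- then `z` is central
    have h2 : ∀ k ∈ K, k * z = z * k := by
      intro k hk
      have h4 : (⟨k, hk⟩ : K) ∈ (centralizer (Z : Set G)).subgroupOf K := htop ▸ mem_top _
      exact (h.comm_Z hz h4).symm
    have h4 : (center K) = ⊥ ∨ (center K) = ⊤ := (inferInstance : (center K).Normal).eq_bot_or_eq_top
    rcases h4 with h4 | h4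
    · have h5 : (⟨z, hzK⟩ : K) ∈ center K := by
        rw [mem_center_iff]
        intro k
        exact Subtype.ext (h2 k k.2)
      rw [h4, mem_bot] at h5
      exact hz1 (congrArg Subtype.val h5)
    · apply hKc
      refine ⟨⟨fun a b => ?_⟩⟩
      have h5 : b ∈ center K := h4 ▸ mem_top _
      exact mem_center_iff.1 h5 a
  · intro P hP hPc
    have hP' : IsPGroup 3 (P.map K.subtype) := hP.map _
    obtain ⟨P', hPP'⟩ := hP'.exists_le_sylow
    obtain ⟨g, hg⟩ := MulAction.exists_smul_eq G P' S
    have h5 : ∀ t ∈ P.map K.subtype, g * t * g⁻¹ ∈ (S : Subgroup G) := by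
      intro t ht
      rw [← hg]
      exact Subgroup.smul_mem_pointwise_smul t (MulAut.conj g) (P' : Subgroup G) (hPP' ht)
    have h6 : (P.map K.subtype).map (MulAut.conj g).toMonoidHom = (S : Subgroup G) := by
      refine Subgroup.eq_of_le_of_card_ge ?_ ?_
      · rintro _ ⟨t, ht, rfl⟩
        exact h5 t ht
      · rw [Subgroup.card_map_of_injective (MulAut.conj g).injective,
          Subgroup.card_map_of_injective K.subtype_injective, hPc, h.card_S]
        norm_num
    rw [← h.cardZ]
    refine Nat.card_le_card_of_injective (fun c : center P => (⟨g * (((c : P) : K) : G) * g⁻¹, ?_⟩ : Z)) ?_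
    · refine h.ZS' (h5 _ ⟨((c : P) : K), (c : P).2, rfl⟩) ?_
      intro s hs
      rw [← h6] at hs
      obtain ⟨_, ⟨t, ht, rfl⟩, rfl⟩ := hs
      have h7 : (⟨t, ht⟩ : P) * (c : P) = (c : P) * ⟨t, ht⟩ := mem_center_iff.1 c.2 ⟨t, ht⟩
      have h8 : (t : G) * (((c : P) : K) : G) = (((c : P) : K) : G) * t :=
        congrArg (fun a : P => ((a : K) : G)) h7
      change g * (t : G) * g⁻¹ * (g * (((c : P) : K) : G) * g⁻¹) = g * (((c : P) : K) : G) * g⁻¹ * (g * (t : G) * g⁻¹)
      calc g * (t : G) * g⁻¹ * (g * (((c : P) : K) : G) * g⁻¹) = g * ((t : G) * (((c : P) : K) : G)) * g⁻¹ := by group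
        _ = g * ((((c : P) : K) : G) * t) * g⁻¹ := by rw [h8]
        _ = _ := by group
    · intro a b hab
      have h7 : g * (((a : P) : K) : G) * g⁻¹ = g * (((b : P) : K) : G) * g⁻¹ := congrArg Subtype.val hab
      have h8 : (((a : P) : K) : G) = (((b : P) : K) : G) := by
        rw [mul_left_inj, mul_right_inj] at h7
        exact h7
      exact Subtype.ext (Subtype.ext (Subtype.ext h8))
  · intro m hm hm9 f hf
    obtain ⟨m', hm', h1⟩ := h.card_cls hK
    have hmm : m' = m := by
      rw [hm] at hm'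
      exact (Nat.eq_of_mul_eq_mul_left (by norm_num) hm').symm
    rw [hmm] at h1
    rcases h.mod_nine hK with ⟨h2, h4⟩ | h2
    · exact h.no_A12 hKn h4 (K.subtype.comp f) (K.subtype_injective.comp hf) (fun a => (f a).2)
    · rcases h1 with ⟨h1, -⟩ | h1
      · rw [h1] at h2; omega
      · rw [h1] at h2; omega

end GC

end Cfsg.Agent.H342.Co2G
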