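import Mathlib
import Cfsg.Agent.H342.Co2K
import Cfsg.Agent.H815.Six3Minus
import Cfsg.Agent.H815.SixCentral
import Cfsg.Agent.H261.ExcThree
import Cfsg.Agent.H261.ExcThreeTw
import Cfsg.Agent.HN.A12Group
import Cfsg.Agent.ClassicalGeometry.AutPSL.SylowU

/-!
# Groups with `C_G(Z) = 3^{1+4}.2^{1+4}.A₅`: the elimination
-/

set_option autoImplicit false
set_option linter.unusedSectionVars false

namespace Cfsg.Agent.H342.Co2G

open Subgroup Cfsg Cfsg.Agent.H342.A12Three Cfsg.Agent.OrdDiv Cfsg.Agent.H815.Six3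

universe u

theorem card_centralizer_equiv {L M : Type*} [Group L] [Group M] (e : L ≃* M) (y : L) :
    Nat.card (centralizer ({e y} : Set M)) = Nat.card (centralizer ({y} : Set L)) := by
  refine Nat.card_congr
    { toFun := fun c => ⟨e.symm c, ?_⟩
      invFun := fun c => ⟨e c, ?_⟩
      left_inv := fun c => Subtype.ext (e.apply_symm_apply _)
      right_inv := fun c => Subtype.ext (e.symm_apply_apply _) }
  · rw [mem_centralizer_singleton_iff]
    have h1 := mem_centralizer_singleton_iff.1 c.2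
    apply e.injective
    rw [map_mul, map_mul, e.apply_symm_apply]
    exact h1
  · rw [mem_centralizer_singleton_iff, ← map_mul, ← map_mul, mem_centralizer_singleton_iff.1 c.2]

/-- transport -/
theorem EHyp.congr {L M : Type*} [Group L] [Group M] (h : EHyp L) (e : L ≃* M) : EHyp M where
  d6 := by rw [← Nat.card_congr e.toEquiv]; exact h.d6
  n7 := by rw [← Nat.card_congr e.toEquiv]; exact h.n7
  hab := by
    intro A hA hc
    have h1 := h.hab (A.map e.symm.toMonoidHom) (hA.map _) (by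
      rintro _ ⟨a, ha, rfl⟩ _ ⟨b, hb, rfl⟩
      rw [← map_mul, ← map_mul, hc a ha b hb])
    rwa [Subgroup.card_map_of_injective e.symm.injective] at h1
  cent := by
    intro y hy hd
    have h1 := card_centralizer_equiv e (e.symm y)
    rw [e.apply_symm_apply] at h1
    rw [h1] at hd ⊢
    exact h.cent _ (by rw [← hy]; exact MulEquiv.orderOf_eq e.symm y) hd
  ex := by
    obtain ⟨y, hy, hd⟩ := h.ex
    exact ⟨e y, by rw [← hy]; exact MulEquiv.orderOf_eq e y, by rw [card_centralizer_equiv]; exact hd⟩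
  cnt := by rw [← Nat.card_congr e.toEquiv]; exact h.cnt
  fact := by rw [← Nat.card_congr e.toEquiv]; exact h.fact
  cen := by
    intro P hP hc
    have h1 := h.cen (P.map e.symm.toMonoidHom) (hP.map _)
      (by rw [Subgroup.card_map_of_injective e.symm.injective, hc])
    have h2 : P ≃* P.map e.symm.toMonoidHom := P.equivMapOfInjective e.symm.toMonoidHom e.symm.injective
    rwa [← Nat.card_congr (Subgroup.centerCongr h2).toEquiv] at h1
  a12 := by
    intro m hm hm9 f hf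
    rw [← Nat.card_congr e.toEquiv] at hm
    exact h.a12 m hm hm9 (e.symm.toMonoidHom.comp f) (e.symm.injective.comp hf)

theorem EHyp.toHyp {L : Type*} [Group L] (h : EHyp L) : Hyp L := ⟨h.d6, h.n7, h.hab⟩

theorem EHyp.dvd {L : Type*} [Group L] (h : EHyp L) : 466560 ∣ Nat.card L := by
  obtain ⟨m, hm, -⟩ := h.cnt
  exact ⟨m, hm⟩

theorem EHyp.elt {L : Type*} [Group L] (h : EHyp L) : ∃ y : L, orderOf y = 3 ∧
    Nat.card (centralizer ({y} : Set L)) = 466560 := by
  obtain ⟨y, hy, hd⟩ := h.ex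
  exact ⟨y, hy, h.cent y hy hd⟩

theorem EHyp.kill_cnt {L : Type*} [Group L] (h : EHyp L) (m : ℕ) (hm : Nat.card L = 466560 * m)
    (hk : ¬ ((2 ∣ m ∧ (m % 9 = 2 ∨ m % 9 = 8)) ∨ m % 9 = 1 ∨ m % 9 = 4)) : False := by
  obtain ⟨m', hm', h1⟩ := h.cnt
  have : m' = m := by
    rw [hm] at hm'
    exact (Nat.eq_of_mul_eq_mul_left (by norm_num) hm').symm
  rw [this] at h1
  exact hk h1

theorem pow_six {q : ℕ} (hq2 : 2 ≤ q) (h3 : ¬ 3 ∣ q) (hd : q ^ 6 ∣ 466560) : q = 2 := by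
  have h1 : q ^ 6 ∣ 640 := by
    have h2 : Nat.Coprime (q ^ 6) (3 ^ 6) := Nat.Coprime.pow _ _ ((Nat.Prime.coprime_iff_not_dvd Nat.prime_three).2 h3).symm
    have h4 : 466560 = 640 * 3 ^ 6 := by norm_num
    rw [h4] at hd
    exact h2.dvd_of_dvd_mul_right hd
  have h5 := Nat.le_of_dvd (by norm_num) h1
  have h6 : q < 3 := by
    by_contra hcon
    push Not at hcon
    have : 3 ^ 6 ≤ q ^ 6 := Nat.pow_le_pow_left hcon 6
    omega
  omega

theorem pow_nine {q : ℕ} (hq2 : 2 ≤ q) (h3 : ¬ 3 ∣ q) (hd : q ^ 9 ∣ 466560) : False := by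
  have h1 : q ^ 6 ∣ 466560 := (pow_dvd_pow q (by norm_num)).trans hd
  have h2 := pow_six hq2 h3 h1
  rw [h2] at hd
  norm_num at hd

theorem pow_three' {q : ℕ} (hq2 : 2 ≤ q) (h3 : ¬ 3 ∣ q) (hd : q ^ 3 ∣ 466560) : q = 2 ∨ q = 4 := by
  have h1 : q ^ 3 ∣ 640 := by
    have h2 : Nat.Coprime (q ^ 3) (3 ^ 6) := Nat.Coprime.pow _ _ ((Nat.Prime.coprime_iff_not_dvd Nat.prime_three).2 h3).symm
    have h4 : 466560 = 640 * 3 ^ 6 := by norm_num
    rw [h4] at hd
    exact h2.dvd_of_dvd_mul_right hd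
  have h5 := Nat.le_of_dvd (by norm_num) h1
  have h6 : q < 9 := by
    by_contra hcon
    push Not at hcon
    have : 9 ^ 3 ≤ q ^ 3 := Nat.pow_le_pow_left hcon 3
    omega
  interval_cases q
  · left; rfl
  · norm_num at h3
  · right; rfl
  · norm_num at h1
  · norm_num at h1
  · norm_num at h1
  · norm_num at h1

section PSLThree

open Cfsg.Agent.ClassicalGeometry.AutPSL.Root Cfsg.Agent.ClassicalGeometry.AutPSL.SylowU

/-- `L₃(9)` : the centre of a Sylow 3-subgroup has order 9 -/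
theorem psl_three_nine {F : Type} [Field F] [Fintype F] (hF : Fintype.card F = 9)
    (h : EHyp (Matrix.ProjectiveSpecialLinearGroup (Fin 3) F)) : False := by
  have hc : Nat.card ((upper 3 F).map (pr : Matrix.SpecialLinearGroup (Fin 3) F →* _)) = 3 ^ 6 := by
    rw [card_map_upper, hF]
    norm_num
  have hP : IsPGroup 3 ((upper 3 F).map (pr : Matrix.SpecialLinearGroup (Fin 3) F →* _)) :=
    IsPGroup.of_card (n := 6) hc
  have h1 := h.cen _ hP hc
  have h02 : (0 : Fin 3) < 2 := by decide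
  have hF9 : Nat.card F = 9 := by rw [Nat.card_eq_fintype_card, hF]
  have h2 : 9 ≤ Nat.card (center ((upper 3 F).map (pr : Matrix.SpecialLinearGroup (Fin 3) F →* _))) := by
    rw [← hF9]
    have hmem : ∀ c : F, Matrix.SpecialLinearGroup.transvection h02.ne c ∈ upper 3 F :=
      fun c => transvection_mem_upper h02 c
    refine Nat.card_le_card_of_injective (fun c : F => (⟨⟨pr (Matrix.SpecialLinearGroup.transvection h02.ne c),
      ⟨_, hmem c, rfl⟩⟩, ?_⟩ : center ((upper 3 F).map (pr : Matrix.SpecialLinearGroup (Fin 3) F →* _)))) ?_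
    · rw [mem_center_iff]
      rintro ⟨_, ⟨u, hu, rfl⟩⟩
      apply Subtype.ext
      change pr u * pr (Matrix.SpecialLinearGroup.transvection h02.ne c) =
        pr (Matrix.SpecialLinearGroup.transvection h02.ne c) * pr u
      rw [← map_mul, ← map_mul, central_transvection h02 (fun i => Fin.zero_le i) (fun i => by fin_cases i <;> decide) c hu]
    · intro a b hab
      have h3 : pr (Matrix.SpecialLinearGroup.transvection h02.ne a) =
          pr (Matrix.SpecialLinearGroup.transvection h02.ne b) :=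
        congrArg (fun c : center ((upper 3 F).map (pr : Matrix.SpecialLinearGroup (Fin 3) F →* _)) =>
          ((c : ((upper 3 F).map (pr : Matrix.SpecialLinearGroup (Fin 3) F →* _))) :
            Matrix.ProjectiveSpecialLinearGroup (Fin 3) F)) hab
      have h4 := pr_injOn_upper (hmem a) (hmem b) h3
      have h5 := congrArg (fun m : Matrix.SpecialLinearGroup (Fin 3) F => (m : Matrix (Fin 3) (Fin 3) F) 0 2) h4
      have h6 : ∀ c : F, (Matrix.SpecialLinearGroup.transvection h02.ne c : Matrix (Fin 3) (Fin 3) F) 0 2 = c := by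
        intro c
        change (1 + Matrix.single 0 2 c : Matrix (Fin 3) (Fin 3) F) 0 2 = c
        simp
      rw [← h6 a, ← h6 b]
      exact h5
  omega

end PSLThree

theorem charP_ne {F : Type*} [Field F] [Fintype F] (h : ¬ 3 ∣ Fintype.card F) :
    ∃ r : ℕ, ∃ _ : Fact r.Prime, ∃ _ : CharP F r, r ≠ 3 := by
  obtain ⟨p, hp⟩ := CharP.exists F
  have hpp : p.Prime := (CharP.char_is_prime_or_zero F p).resolve_right (by
    intro h0
    subst h0
    have := CharP.charP_to_charZero F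
    exact not_finite F)
  refine ⟨p, ⟨hpp⟩, hp, ?_⟩
  obtain ⟨n, hn⟩ := FiniteField.card F p
  rintro rfl
  rw [hn.2] at h
  exact h (dvd_pow_self 3 n.ne_zero)

/-- the characteristic of a field of order a power of `q` -/
theorem char_pow {F : Type*} [Field F] [Fintype F] {q k : ℕ} (hq : IsPrimePow q) (hk : k ≠ 0)
    (hF : Fintype.card F = q ^ k) {r : ℕ} [Fact r.Prime] [CharP F r] : ∃ n : ℕ, 0 < n ∧ q = r ^ n := by
  obtain ⟨p, n, hp, hn, rfl⟩ := (isPrimePow_nat_iff q).1 hq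
  obtain ⟨m, hm⟩ := FiniteField.card F r
  have h1 : p ∣ Fintype.card F := by
    rw [hF, ← pow_mul]
    exact dvd_pow_self p (Nat.mul_ne_zero hn.ne' hk)
  rw [hm.2] at h1
  have h2 : p = r := (Nat.prime_dvd_prime_iff_eq hp Fact.out).1 (hp.dvd_of_dvd_pow h1)
  exact ⟨n, hn, by rw [h2]⟩

theorem cube_of {M : Type*} [Group M] {y : M} (h : orderOf y = 3) : y ^ 3 = 1 := by
  rw [← h]; exact pow_orderOf_eq_one y

/-- the centralizer of `diag(1,1,1,ω,ω,ω)` : the power of three -/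
theorem three_six {g c x : ℕ} (hg : g ∣ 6) (hc : g * c = x) (hx : 3 ^ 7 ∣ x) : 3 ^ 6 ∣ c := by
  have h1 : g * c ∣ 6 * c := Nat.mul_dvd_mul_right hg c
  have h2 : 3 ^ 7 ∣ 6 * c := by rw [← hc] at hx; exact hx.trans h1
  have h3 : (3 * 3 ^ 6) ∣ 3 * (2 * c) := by
    have : 3 * (2 * c) = 6 * c := by ring
    rw [this]
    exact h2
  have h4 : 3 ^ 6 ∣ 2 * c := Nat.dvd_of_mul_dvd_mul_left (by norm_num) h3
  exact Nat.Coprime.dvd_of_dvd_mul_left (by norm_num) h4

theorem q_six {q g c x : ℕ} (hg : Nat.Coprime q g) (hc : g * c = x) (hx : q ^ 6 ∣ x) : q ^ 6 ∣ c := by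
  rw [← hc] at hx
  exact Nat.Coprime.dvd_of_dvd_mul_left (hg.pow_left 6) hx

theorem mod_cases {q : ℕ} (hq : 2 ≤ q) : (q % 3 = 1 → 3 ∣ q - 1 ∧ 3 ∣ q ^ 2 - 1 ∧ 3 ^ 2 ∣ q ^ 3 - 1) ∧
    (q % 3 = 2 → 3 ∣ q + 1 ∧ 3 ∣ q ^ 2 - 1 ∧ 3 ^ 2 ∣ q ^ 3 + 1) := by
  constructor
  · intro h
    obtain ⟨k, rfl⟩ : ∃ k, q = 3 * k + 1 := ⟨q / 3, by omega⟩
    refine ⟨⟨k, by omega⟩, ⟨3 * k ^ 2 + 2 * k, ?_⟩, ⟨3 * k ^ 3 + 3 * k ^ 2 + k, ?_⟩⟩
    · rw [Nat.sub_eq_iff_eq_add (Nat.one_le_pow _ _ (by omega))]; ring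
    · rw [Nat.sub_eq_iff_eq_add (Nat.one_le_pow _ _ (by omega))]; ring
  · intro h
    obtain ⟨k, rfl⟩ : ∃ k, q = 3 * k + 2 := ⟨q / 3, by omega⟩
    refine ⟨⟨k + 1, by ring⟩, ⟨3 * k ^ 2 + 4 * k + 1, ?_⟩, ⟨3 * k ^ 3 + 6 * k ^ 2 + 4 * k + 1, ?_⟩⟩
    · rw [Nat.sub_eq_iff_eq_add (Nat.one_le_pow _ _ (by omega))]; ring
    · ring

theorem elim_psl {F : Type} [Field F] [Fintype F] {q : ℕ} (hF : Fintype.card F = q) (hq : q % 9 = 4 ∨ q % 9 = 7)
    (h : EHyp (Matrix.ProjectiveSpecialLinearGroup (Fin 6) F)) : False := by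
  have hq2 : 2 ≤ q := by rw [← hF]; exact Fintype.one_lt_card
  have hm := (mod_cases hq2).1 (by omega)
  obtain ⟨z, hz, hc⟩ := H815.SixCentral.exists_psl hF hm.1
  have hd : 3 ^ 6 ∣ Nat.card (centralizer ({z} : Set (Matrix.ProjectiveSpecialLinearGroup (Fin 6) F))) := by
    refine three_six (Nat.gcd_dvd_left _ _) hc ?_
    have h1 : 3 * (1 * 3 * 3 ^ 2) ^ 2 ∣ (q - 1) * (q ^ 3 * (q ^ 2 - 1) * (q ^ 3 - 1)) ^ 2 :=
      Nat.mul_dvd_mul hm.1 (pow_dvd_pow_of_dvd (Nat.mul_dvd_mul (Nat.mul_dvd_mul (one_dvd _) hm.2.1) hm.2.2) 2)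
    exact (by norm_num : 3 ^ 7 ∣ 3 * (1 * 3 * 3 ^ 2) ^ 2).trans h1
  have h1 := h.cent z hz hd
  have h2 : q ^ 6 ∣ 466560 := by
    rw [← h1]
    refine q_six ?_ hc ?_
    · refine Nat.Coprime.coprime_dvd_right (Nat.gcd_dvd_right _ _) ?_
      have h3 : Nat.Coprime q (q - 1) := by
        have h4 := Nat.coprime_self_sub_right (show 1 ≤ q by omega)
        rw [h4]
        exact Nat.coprime_one_right q
      exact h3
    · have h3 : (q ^ 3) ^ 2 ∣ (q ^ 3 * (q ^ 2 - 1) * (q ^ 3 - 1)) ^ 2 :=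
        pow_dvd_pow_of_dvd ((Dvd.intro _ rfl).mul_right _) 2
      rw [← pow_mul] at h3
      exact h3.mul_left _
  have h3 := pow_six hq2 (by omega) h2
  omega

theorem elim_psu {F : Type} [Field F] [Fintype F] {q : ℕ} (hF : Fintype.card F = q ^ 2) (hq : q % 9 = 2 ∨ q % 9 = 5)
    (h : EHyp (PSU 6 F q)) : False := by
  have hq2 : 2 ≤ q := by
    by_contra hcon
    push Not at hcon
    have h1 : 1 < Fintype.card F := Fintype.one_lt_card
    rw [hF] at h1
    interval_cases q <;> omega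
  have hm := (mod_cases hq2).2 (by omega)
  obtain ⟨z, hz, hc⟩ := H815.SixCentral.exists_psu hF hm.1
  have hd : 3 ^ 6 ∣ Nat.card (centralizer ({z} : Set (PSU 6 F q))) := by
    refine three_six (Nat.gcd_dvd_left _ _) hc ?_
    have h1 : 3 * (1 * 3 * 3 ^ 2) ^ 2 ∣ (q + 1) * (q ^ 3 * (q ^ 2 - 1) * (q ^ 3 + 1)) ^ 2 :=
      Nat.mul_dvd_mul hm.1 (pow_dvd_pow_of_dvd (Nat.mul_dvd_mul (Nat.mul_dvd_mul (one_dvd _) hm.2.1) hm.2.2) 2)
    exact (by norm_num : 3 ^ 7 ∣ 3 * (1 * 3 * 3 ^ 2) ^ 2).trans h1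
  have h1 := h.cent z hz hd
  have h2 : q ^ 6 ∣ 466560 := by
    rw [← h1]
    refine q_six ?_ hc ?_
    · refine Nat.Coprime.coprime_dvd_right (Nat.gcd_dvd_right _ _) ?_
      exact (Nat.coprime_self_add_right).2 (Nat.coprime_one_right q)
    · have h3 : (q ^ 3) ^ 2 ∣ (q ^ 3 * (q ^ 2 - 1) * (q ^ 3 + 1)) ^ 2 :=
        pow_dvd_pow_of_dvd ((Dvd.intro _ rfl).mul_right _) 2
      rw [← pow_mul] at h3
      exact h3.mul_left _
  have h3 := pow_six hq2 (by omega) h2
  subst h3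
  rw [h1] at hc
  norm_num at hc

/-- **the elimination** -/
theorem elim (T : OrderTable.{u}) {L : Type u} [Group L] [IsSimpleGroup L] (hK : IsKnownSimple' L) (h : EHyp L) :
    Spor.IsoCo2 L := by
  rcases kind6' T hK h.toHyp with ⟨q, hq, F, _, _, hF, ⟨e⟩⟩ | ⟨q, hq, F, _, _, hF, ⟨e⟩⟩ |
    ⟨q, h3, ⟨F, _, _, hF, ⟨e⟩⟩ | ⟨F, _, _, hF, ⟨e⟩⟩⟩ | ⟨q, hq, h3, ⟨F, _, _, hF, ⟨e⟩⟩ | ⟨F, _, _, hF, ⟨e⟩⟩⟩ | ⟨g, hg, hr⟩
  · exact (elim_psl hF hq (h.congr e)).elim
  · exact (elim_psu hF hq (h.congr e)).elim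
  · -- `F₄`
    exfalso
    obtain ⟨y, hy, hyc⟩ := (h.congr e).elt
    obtain ⟨r, _, _, hr⟩ := charP_ne (F := F) (by rw [hF]; exact h3)
    have h1 := H261.pow_dvd_F4 F hr y (cube_of hy)
    rw [hyc, Nat.card_eq_fintype_card, hF] at h1
    have hq2 : q = 2 := pow_six (by rw [← hF]; exact Fintype.one_lt_card) h3 h1
    subst hq2
    have h2 := T.f4 F 2 hF
    exact (h.congr e).kill_cnt 7096893440 (h2.trans (by norm_num)) (by norm_num)
  · -- `E₆`
    exfalso
    obtain ⟨y, hy, hyc⟩ := (h.congr e).elt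
    obtain ⟨r, _, _, hr⟩ := charP_ne (F := F) (by rw [hF]; exact h3)
    have h1 := H261.pow_dvd_E6 F hr y (cube_of hy)
    rw [hyc, Nat.card_eq_fintype_card, hF] at h1
    exact pow_nine (by rw [← hF]; exact Fintype.one_lt_card) h3 h1
  · -- `²E₆`
    exfalso
    obtain ⟨y, hy, hyc⟩ := (h.congr e).elt
    obtain ⟨r, _, _, hr⟩ := charP_ne (F := F) (by rw [hF]; exact fun h1 => h3 (Nat.prime_three.dvd_of_dvd_pow h1))
    obtain ⟨n, hn0, hn⟩ := char_pow (F := F) hq (by norm_num) hF (r := r)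
    have h1 := H261.Tw.pow_dvd_twE6 F hr hn0 hn hF y (cube_of hy)
    rw [hyc] at h1
    exact pow_nine hq.two_le h3 h1
  · -- `³D₄`
    exfalso
    obtain ⟨y, hy, hyc⟩ := (h.congr e).elt
    obtain ⟨r, _, _, hr⟩ := charP_ne (F := F) (by rw [hF]; exact fun h1 => h3 (Nat.prime_three.dvd_of_dvd_pow h1))
    obtain ⟨n, hn0, hn⟩ := char_pow (F := F) hq (by norm_num) hF (r := r)
    have h1 := H261.Tw.pow_dvd_twD4 F hr hn0 hn hF y (cube_of hy)
    rw [hyc] at h1
    have h2 := (h.congr e).d6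
    rw [T.td4 F q hq hF] at h2
    rcases pow_three' hq.two_le h3 h1 with h5 | h5
    · rw [h5] at h2; norm_num at h2
    · rw [h5] at h2; norm_num at h2
  · simp only [surv, List.mem_cons, List.not_mem_nil, or_false] at hg
    rcases hg with rfl | rfl | rfl | rfl | rfl | rfl | rfl | rfl | rfl
    · -- `L₂(729)`
      exfalso
      obtain ⟨F, _, _, hF, ⟨e⟩⟩ := hr
      have h1 := H343.ord_psl (F := F) (n := 2) hF (by norm_num)
      have h2 := (h.congr e).dvd
      have h3 : fPSL.den 2 729 * 466560 ∣ fPSL.num 2 729 := by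
        rw [← h1]
        exact Nat.mul_dvd_mul_left _ h2
      revert h3
      decide +kernel
    · -- `L₃(9)`
      obtain ⟨F, _, _, hF, ⟨e⟩⟩ := hr
      exact (psl_three_nine hF (h.congr e)).elim
    · -- `L₄(3)`
      exfalso
      obtain ⟨F, _, _, hF, ⟨e⟩⟩ := hr
      have h1 := H343.ord_psl (F := F) (n := 4) hF (by norm_num)
      have h2 : Nat.card (Matrix.ProjectiveSpecialLinearGroup (Fin 4) F) = 466560 * 13 := by
        have h3 : fPSL.den 4 3 = 4 := by decide +kernel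
        have h4 : fPSL.num 4 3 = 24261120 := by decide +kernel
        rw [h3, h4] at h1
        omega
      have h3 := (h.congr e).fact 13 h2
      rw [h2] at h3
      revert h3
      decide +kernel
    · -- `U₃(9)`
      exfalso
      obtain ⟨F, _, _, hF, ⟨e⟩⟩ := hr
      have h1 := H343.ord_psu (F := F) (n := 3) hF (by norm_num)
      have h2 := (h.congr e).dvd
      have h3 : fPSU.den 3 9 * 466560 ∣ fPSU.num 3 9 := by
        rw [← h1]
        exact Nat.mul_dvd_mul_left _ h2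
      revert h3
      decide +kernel
    · -- `U₄(3)`
      exfalso
      obtain ⟨F, _, _, hF, ⟨e⟩⟩ := hr
      have h1 := H343.ord_psu (F := F) (n := 4) hF (by norm_num)
      have h2 : Nat.card (PSU 4 F 3) = 466560 * 7 := by
        have h3 : fPSU.den 4 3 = 16 := by decide +kernel
        have h4 : fPSU.num 4 3 = 52254720 := by decide +kernel
        rw [h3, h4] at h1
        omega
      have h3 := (h.congr e).fact 7 h2
      rw [h2] at h3
      revert h3
      decide +kernel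
    · -- `G₂(3)`
      exfalso
      obtain ⟨F, _, _, hF, ⟨e⟩⟩ := hr
      have h1 := (h.congr e).dvd
      rw [T.g2 F, hF] at h1
      revert h1
      decide +kernel
    · -- `McL`
      exfalso
      have h1 := T.spor L (.mcl, 898128000) (by decide) hr
      exact h.kill_cnt 1925 (by rw [h1]) (by norm_num)
    · exact hr
    · -- `HN`
      exfalso
      have h1 := T.spor L (.hn, 273030912000000) (by decide) hr
      obtain ⟨e⟩ := hr
      have hnt : Nontrivial Cfsg.Spor.HN := e.symm.toEquiv.nontrivial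
      have hs : IsSimpleGroup Cfsg.Spor.HN := IsSimpleGroup.isSimpleGroup_of_surjective e.toMonoidHom e.surjective
      obtain ⟨K, ⟨f⟩⟩ := Cfsg.Agent.HN.A12Group.exists_alternating
      exact h.a12 585200000 (by rw [h1]) (by norm_num) (e.symm.toMonoidHom.comp (K.subtype.comp f.symm.toMonoidHom))
        (e.symm.injective.comp (K.subtype_injective.comp f.symm.injective))

end Cfsg.Agent.H342.Co2G
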