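import Mathlib
import Cfsg.Agent.H342.Co2K
import Cfsg.Agent.H342.Co2Elim
import Cfsg.Agent.KFacts.CoTwo.Main

/-!
# The characterization of `Co₂` by the centralizer `3^{1+4}.2^{1+4}.A₅`
-/

set_option autoImplicit false

namespace Cfsg.Agent.H342.Co2G

open Subgroup Cfsg Cfsg.Agent.H342.Co2X

universe u

theorem gc_of {G : Type*} [Group G] [Finite G]
    (S : Sylow 3 G) (Z : Subgroup G) (hZ : Z = (S : Subgroup G) ⊓ Subgroup.centralizer ((S : Subgroup G) : Set G))
    (hQ : Cfsg.IsExtraspecial 3 (Cfsg.pCore 3 (centralizer (Z : Set G))))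
    (hQcard : Nat.card (Cfsg.pCore 3 (centralizer (Z : Set G))) = 3 ^ 5)
    (hR : Cfsg.IsExtraspecial 2 (Cfsg.pCore 2 (centralizer (Z : Set G) ⧸ Cfsg.pCore 3 (centralizer (Z : Set G)))))
    (hRcard : Nat.card (Cfsg.pCore 2 (centralizer (Z : Set G) ⧸ Cfsg.pCore 3 (centralizer (Z : Set G)))) = 2 ^ 5)
    (e : (centralizer (Z : Set G) ⧸ Cfsg.pCore 3 (centralizer (Z : Set G))) ⧸
      Cfsg.pCore 2 (centralizer (Z : Set G) ⧸ Cfsg.pCore 3 (centralizer (Z : Set G))) ≃* alternatingGroup (Fin 5)) :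
    GC S Z ((pCore 3 (centralizer (Z : Set G))).map (centralizer (Z : Set G)).subtype) := by
  have h3 : Fact (Nat.Prime 3) := ⟨Nat.prime_three⟩
  have hZS : Z ≤ (S : Subgroup G) := by
    rw [hZ]
    exact inf_le_left
  have hSC : (S : Subgroup G) ≤ centralizer (Z : Set G) := by
    intro s hs
    rw [Subgroup.mem_centralizer_iff]
    intro z hz
    have hz' : z ∈ Z := hz
    rw [hZ] at hz'
    exact ((Subgroup.mem_centralizer_iff.1 hz'.2) s hs).symm
  refine ⟨⟨hQ, hQcard, hR, hRcard, ⟨e⟩, ?_, ?_, ?_, ?_⟩, rfl, hZ⟩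
  · intro z hz
    rw [mem_center_iff]
    intro c
    exact Subtype.ext (Subgroup.mem_centralizer_iff.1 c.2 z hz).symm
  · exact ⟨S.subtype hSC, rfl⟩
  · intro z hz
    exact hZS hz
  · intro t ht hc
    have h1 : (t : G) ∈ (S : Subgroup G) ⊓ centralizer ((S : Subgroup G) : Set G) := by
      refine ⟨ht, Subgroup.mem_centralizer_iff.2 fun s hs => ?_⟩
      exact (congrArg Subtype.val (hc ⟨s, hSC hs⟩ hs)).symm
    rw [← hZ] at h1
    exact h1

/-- **the characterization** -/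
theorem main {G : Type u} [Group G] [Finite G] {S : Sylow 3 G} {Z Q : Subgroup G} (h : GC S Z Q)
    (hw : ¬ IsWeaklyClosed Z (S : Subgroup G)) (T : OrdDiv.OrderTable.{u})
    (hsch : ∀ K : Subgroup G, IsSimpleGroup K → ¬ IsMulCommutative K → Schreier.Basic.Sch K)
    (hkn : ∀ K : Subgroup G, IsSimpleGroup K → IsKnownSimple' K) : Spor.IsoCo2 G := by
  obtain ⟨K, hKn, hKs, hKc, hCK, hK⟩ := h.exists_simple hw hsch
  obtain ⟨e⟩ := elim T (hkn K hKs) (h.ehyp hKn hKs hKc hK)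
  have htop : K = ⊤ := by
    rw [eq_top_iff]
    intro g _
    obtain ⟨k, hk⟩ := KFacts.CoTwo.Main.allInner_iso e (MulAut.conjNormal g : MulAut K)
    have h4 : (k : G)⁻¹ * g ∈ centralizer (K : Set G) := by
      rw [Subgroup.mem_centralizer_iff]
      intro y hy
      have h5 := congrArg (fun a : MulAut ↥K => ((a ⟨y, hy⟩ : ↥K) : G)) hk
      have h6 : g * y * g⁻¹ = (k : G) * y * (k : G)⁻¹ := h5
      calc y * ((k : G)⁻¹ * g) = (k : G)⁻¹ * ((k : G) * y * (k : G)⁻¹) * g := by group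
        _ = (k : G)⁻¹ * (g * y * g⁻¹) * g := by rw [h6]
        _ = (k : G)⁻¹ * g * y := by group
    rw [hCK, Subgroup.mem_bot, inv_mul_eq_one] at h4
    rw [← h4]
    exact k.2
  exact ⟨((MulEquiv.subgroupCongr htop).trans Subgroup.topEquiv).symm.trans e⟩

end Cfsg.Agent.H342.Co2G
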