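import Cfsg.Agent.H342.NFTwo

/-!
# Elements of orders `3`, `5`, `7` in groups preserving a nondegenerate form over the field with two elements
(helper342, S5773)
-/

set_option autoImplicit false

namespace Cfsg.Agent.H342.NF

open Module Cfsg.Agent.H518.DghpFix Cfsg.Agent.H518.DghpPrim

variable {F : Type} [Field F] [Fintype F] {V : Type} [AddCommGroup V] [Module F V] [FiniteDimensional F V] [Finite V]
  {G : Type} [Group G] [Finite G] (φ : G →* (V →ₗ[F] V))

theorem orderOf_two_three : orderOf ((2 : ℕ) : ZMod 3) = 2 := by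
  have : Fact (Nat.Prime 2) := ⟨by norm_num⟩
  exact orderOf_eq_prime (by decide) (by decide)

/-- A nondegenerate alternating form with a quadratic form (not necessarily invariant). -/
structure Frm where
  /-- the form -/
  B : V → V → F
  /-- a quadratic form -/
  q : V → F
  add_left : ∀ u v w, B (u + v) w = B u w + B v w
  add_right : ∀ u v w, B u (v + w) = B u v + B u w
  alt : ∀ v, B v v = 0
  inv : ∀ g u v, B (φ g u) (φ g v) = B u v
  nondeg : ∀ v, (∀ w, B v w = 0) → v = 0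
  q_add : ∀ v w, q (v + w) = q v + q w + B v w

variable {φ}

theorem Frm.zero_right (f : Frm φ) (v : V) : f.B v 0 = 0 := by
  have := f.add_right v 0 0
  rw [add_zero] at this
  exact left_eq_add.1 this

theorem Frm.sub_left (f : Frm φ) (u v w : V) : f.B (u - v) w = f.B u w - f.B v w := by
  have h := f.add_left (u - v) v w
  rw [sub_add_cancel] at h
  exact eq_sub_of_add_eq h.symm

/-- `[V, x]` is nondegenerate. -/
theorem Frm.nd_dsp (f : Frm φ) (hF : Fintype.card F = 2) {x : G} {r : ℕ} (hr : r.Prime) (h2 : r ≠ 2)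
    (hx : orderOf x = r) : ∀ v ∈ dsp (φ x), v ≠ 0 → ∃ w ∈ dsp (φ x), f.B v w ≠ 0 := by
  intro v hv hv0
  by_contra hcon
  push Not at hcon
  apply hv0
  apply f.nondeg
  intro w
  have hw : w ∈ fixS (φ x) ⊔ dsp (φ x) := by
    rw [fixS_sup_dsp (odd_ne hF hr h2) (map_pow_one φ hx)]
    trivial
  obtain ⟨c, hc, d, hd, rfl⟩ := Submodule.mem_sup.1 hw
  rw [f.add_right, hcon d hd, add_zero]
  obtain ⟨y, rfl⟩ := hv
  rw [LinearMap.sub_apply, Module.End.one_apply, f.sub_left]
  have h1 : f.B (φ x y) c = f.B y c := by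
    have h2 : φ x c = c := hc
    conv_lhs => rw [← h2]
    exact f.inv x y c
  rw [h1, sub_self]

/-- The dimension of `[V, x]` is even. -/
theorem Frm.even_dsp (f : Frm φ) (hF : Fintype.card F = 2) {x : G} {r : ℕ} (hr : r.Prime) (h2 : r ≠ 2)
    (hx : orderOf x = r) : Even (finrank F (dsp (φ x))) := by
  have hFin : Fintype (dsp (φ x)) := Fintype.ofFinite _
  have h := gauss hF (A := dsp (φ x)) (fun v => f.q v) (fun v w => f.B v w) (fun v w => f.q_add v w)
    (fun v w w' => f.add_right v w w') (fun v hv => by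
      obtain ⟨w, hw, h⟩ := f.nd_dsp hF hr h2 hx v v.2 (fun h => hv (Subtype.ext h))
      exact ⟨⟨w, hw⟩, h⟩)
  have h1 : Nat.card (dsp (φ x)) = Fintype.card F ^ finrank F (dsp (φ x)) := by
    rw [Module.natCard_eq_pow_finrank (K := F) (V := dsp (φ x)), Nat.card_eq_fintype_card]
  rw [← Nat.card_eq_fintype_card, h1, hF] at h
  set s := ∑ v : dsp (φ x), chi (f.q v)
  have h3 : s.natAbs ^ 2 = 2 ^ finrank F (dsp (φ x)) := by
    have h4 := congrArg Int.natAbs h
    rwa [Int.natAbs_pow, Int.natAbs_natCast] at h4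
  obtain ⟨k, -, hk⟩ := (Nat.dvd_prime_pow Nat.prime_two).1 (show s.natAbs ∣ 2 ^ finrank F (dsp (φ x)) from by
    rw [← h3]
    exact dvd_pow_self _ two_ne_zero)
  rw [hk, ← pow_mul] at h3
  have h5 := Nat.pow_right_injective le_rfl h3
  exact ⟨k, by omega⟩

/-- the two ranks -/
theorem rank_add (hF : Fintype.card F = 2) {x : G} {r : ℕ} (hr : r.Prime) (h2 : r ≠ 2) (hx : orderOf x = r) :
    finrank F (fixS (φ x)) + finrank F (dsp (φ x)) = finrank F V :=
  finrank_dsp (odd_ne hF hr h2) (map_pow_one φ hx)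

theorem ne_one_of_order {x : G} {r : ℕ} (hr : r.Prime) (hx : orderOf x = r) : x ≠ 1 := by
  rintro rfl
  rw [orderOf_one] at hx
  exact hr.one_lt.ne hx

/-- Elements of order `7`. -/
theorem Frm.seven_dim (f : Frm φ) (hφ : Function.Injective φ) (hF : Fintype.card F = 2) (hV : finrank F V ≤ 8) {x : G}
    (hx : orderOf x = 7) : finrank F (dsp (φ x)) = 6 := by
  have h7 : Nat.Prime 7 := by norm_num
  have h1 := rank_add (φ := φ) hF h7 (by norm_num) hx
  obtain ⟨k, hk⟩ := dvd_rank_top φ hF h7 (by norm_num) orderOf_two_seven hx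
  obtain ⟨m, hm⟩ := f.even_dsp hF h7 (by norm_num) hx
  have h2 := finrank_ne_top φ hφ (ne_one_of_order h7 hx)
  omega

/-- Commuting elements of orders `7` and `3`. -/
theorem Frm.seven_three (f : Frm φ) (hφ : Function.Injective φ) (hF : Fintype.card F = 2) (hV : finrank F V ≤ 8)
    {x u : G} (hx : orderOf x = 7) (hu : orderOf u = 3) (hxu : x * u = u * x)
    (hle : fixS (φ x) ≤ fixS (φ u)) : False := by
  have h7 : Nat.Prime 7 := by norm_num
  have hD := f.seven_dim hφ hF hV hx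
  have hcomm := map_comm φ hxu
  have hxD : ∀ v ∈ dsp (φ x), φ x v ∈ dsp (φ x) := dsp_invariant rfl
  have huD : ∀ v ∈ dsp (φ x), φ u v ∈ dsp (φ x) := dsp_invariant hcomm.symm
  have hsplit := fixS_sup_dsp (odd_ne hF h7 (by norm_num)) (map_pow_one φ hx)
  have hinf := fixS_inf_dsp (odd_ne hF h7 (by norm_num)) (map_pow_one φ hx)
  have fx : ∀ v ∈ dsp (φ x), φ x v = v → v = 0 := by
    intro v hv h
    have h1 : v ∈ fixS (φ x) ⊓ dsp (φ x) := ⟨h, hv⟩
    rwa [hinf, Submodule.mem_bot] at h1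
  have h3 : ∃ k, finrank F ↥(fixS (φ u) ⊓ dsp (φ x)) = 3 * k :=
    dvd_rank_dsp φ hF h7 (by norm_num) orderOf_two_seven hx _
      (inf_invariant (fixS_invariant hcomm.symm) hxD) inf_le_right
  obtain ⟨k, hk⟩ := h3
  have h4 := Submodule.finrank_mono (inf_le_right : fixS (φ u) ⊓ dsp (φ x) ≤ dsp (φ x))
  have hk3 : k = 0 ∨ k = 1 ∨ k = 2 := by omega
  rcases hk3 with rfl | rfl | rfl
  · -- no fixed vectors
    have h5 : fixS (φ u) ⊓ dsp (φ x) = ⊥ := Submodule.finrank_eq_zero.1 (by omega)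
    obtain ⟨N, s, hs, hN, hN7, hN3⟩ := gs φ hF f.B f.add_left f.add_right f.alt f.inv (dsp (φ x))
      (f.nd_dsp hF h7 (by norm_num) hx) h7 hx hu hxu hxD huD fx (fun v hv h => by
        have h1 : v ∈ fixS (φ u) ⊓ dsp (φ x) := ⟨h, hv⟩
        rwa [h5, Submodule.mem_bot] at h1)
    rw [hD] at hs hN
    have h6 : s = 8 ∨ s = -8 := by
      have : s ^ 2 = 8 ^ 2 := by rw [hs]; norm_num
      exact sq_eq_sq_iff_eq_or_eq_neg.1 this
    rcases h6 with rfl | rfl
    · have : N = 35 := by omega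
      omega
    · have : N = 27 := by omega
      omega
  · -- dimension three
    have h5 : finrank F (fixS (φ u)) = finrank F (fixS (φ x)) + 3 := by
      have h6 : fixS (φ u) = fixS (φ x) ⊔ (fixS (φ u) ⊓ dsp (φ x)) := by
        have h7 := sup_inf_assoc_of_le (dsp (φ x)) hle
        rw [hsplit, top_inf_eq] at h7
        rw [inf_comm (fixS (φ u))]
        exact h7
      have h8 := Submodule.finrank_sup_add_finrank_inf_eq (fixS (φ x)) (fixS (φ u) ⊓ dsp (φ x))
      rw [← h6] at h8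
      have h9 : fixS (φ x) ⊓ (fixS (φ u) ⊓ dsp (φ x)) = ⊥ := by
        rw [eq_bot_iff, ← hinf]
        exact le_inf inf_le_left (inf_le_right.trans inf_le_right)
      rw [h9, finrank_bot] at h8
      omega
    have h6 := rank_add (φ := φ) hF h7 (by norm_num) hx
    have h8 := rank_add (φ := φ) hF Nat.prime_three (by norm_num) hu
    obtain ⟨m, hm⟩ := f.even_dsp hF Nat.prime_three (by norm_num) hu
    omega
  · have h5 := Submodule.eq_of_le_of_finrank_le (inf_le_right : fixS (φ u) ⊓ dsp (φ x) ≤ dsp (φ x)) (by omega)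
    have h6 : dsp (φ x) ≤ fixS (φ u) := by
      rw [← h5]
      exact inf_le_left
    refine ne_one_of_order Nat.prime_three hu (fix_top φ hφ ?_)
    rw [eq_top_iff, ← hsplit]
    exact sup_le hle h6

/-- Commuting elements of orders `5` and `3`. -/
theorem Frm.five_three (f : Frm φ) (hF : Fintype.card F = 2)
    {x u : G} (hx : orderOf x = 5) (hu : orderOf u = 3) (hxu : x * u = u * x) (hD : finrank F (dsp (φ x)) = 4) :
    dsp (φ x) ≤ fixS (φ u) := by
  have h5 : Nat.Prime 5 := by norm_num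
  have hcomm := map_comm φ hxu
  have hxD : ∀ v ∈ dsp (φ x), φ x v ∈ dsp (φ x) := dsp_invariant rfl
  have huD : ∀ v ∈ dsp (φ x), φ u v ∈ dsp (φ x) := dsp_invariant hcomm.symm
  have hinf := fixS_inf_dsp (odd_ne hF h5 (by norm_num)) (map_pow_one φ hx)
  have fx : ∀ v ∈ dsp (φ x), φ x v = v → v = 0 := by
    intro v hv h
    have h1 : v ∈ fixS (φ x) ⊓ dsp (φ x) := ⟨h, hv⟩
    rwa [hinf, Submodule.mem_bot] at h1
  by_cases h6 : ∀ v ∈ dsp (φ x), φ u v = v → v = 0
  · exfalso
    obtain ⟨N, s, hs, hN, hN5, hN3⟩ := gs φ hF f.B f.add_left f.add_right f.alt f.inv (dsp (φ x))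
      (f.nd_dsp hF h5 (by norm_num) hx) h5 hx hu hxu hxD huD fx h6
    rw [hD] at hs hN
    have h6 : s = 4 ∨ s = -4 := by
      have : s ^ 2 = 4 ^ 2 := by rw [hs]; norm_num
      exact sq_eq_sq_iff_eq_or_eq_neg.1 this
    rcases h6 with rfl | rfl
    · have : N = 9 := by omega
      omega
    · have : N = 5 := by omega
      omega
  · push Not at h6
    obtain ⟨v, hv, huv, hv0⟩ := h6
    exact irr_dsp φ hF h5 (by norm_num) orderOf_two_five hx hD (fixS (φ u)) (fixS_invariant hcomm.symm) hv huv hv0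

end Cfsg.Agent.H342.NF
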