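import Cfsg.Agent.H342.NFLin
import Cfsg.Agent.H342.NFCoprime
import Cfsg.Agent.H342.NFIdx
import Cfsg.Agent.S0005
import Cfsg.Agent.S0044
import Cfsg.Agent.Lib.Cores

/-!
# Solvable `{p, r}`-subgroups (helper342, S5773)
-/

set_option autoImplicit false

namespace Cfsg.Agent.H342.NF

open Cfsg.Agent.Lib.Cores Cfsg.Agent.H176.NF

universe u

/-- A Hall `{p, r}`-subgroup of a solvable subgroup. -/
theorem exists_hall {T : Type u} [Group T] [Finite T] {p r : ℕ} (hp : p.Prime) (hr : r.Prime) (hpr : p ≠ r)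
    (M : Subgroup T) (hM : Group.IsSolvable M) : ∃ Y : Subgroup T, Y ≤ M ∧ Group.IsSolvable Y ∧
      Nat.card Y = p ^ (Nat.card M).factorization p * r ^ (Nat.card M).factorization r := by
  have := Fact.mk hp
  have := Fact.mk hr
  set α := (Nat.card M).factorization p with hα
  set β := (Nat.card M).factorization r with hβ
  have hM0 : Nat.card M ≠ 0 := Nat.card_pos.ne'
  have hm : p ^ α * r ^ β ∣ Nat.card M := Nat.Coprime.mul_dvd_of_dvd_of_dvd
    (Nat.Coprime.pow _ _ ((Nat.coprime_primes hp hr).2 hpr)) (Nat.ordProj_dvd _ _) (Nat.ordProj_dvd _ _)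
  obtain ⟨n, hn⟩ := hm
  have hn0 : n ≠ 0 := by rintro rfl; exact hM0 (by rw [hn, mul_zero])
  have hf : ∀ l : ℕ, (Nat.card M).factorization l = α * p.factorization l + β * r.factorization l +
      n.factorization l := fun l => by
    rw [hn, Nat.factorization_mul (mul_ne_zero (pow_ne_zero _ hp.ne_zero) (pow_ne_zero _ hr.ne_zero)) hn0,
      Nat.factorization_mul (pow_ne_zero _ hp.ne_zero) (pow_ne_zero _ hr.ne_zero), Nat.factorization_pow,
      Nat.factorization_pow]
    simp
  have hpn : ¬ p ∣ n := by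
    intro h
    have h1 := hf p
    rw [← hα, hp.factorization, hr.factorization, Finsupp.single_eq_same, Finsupp.single_eq_of_ne hpr] at h1
    have h2 := (hp.dvd_iff_one_le_factorization hn0).1 h
    omega
  have hrn : ¬ r ∣ n := by
    intro h
    have h1 := hf r
    rw [← hβ, hp.factorization, hr.factorization, Finsupp.single_eq_same, Finsupp.single_eq_of_ne hpr.symm] at h1
    have h2 := (hr.dvd_iff_one_le_factorization hn0).1 h
    omega
  have hcop : (p ^ α * r ^ β).Coprime n := Nat.Coprime.mul_left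
    (Nat.Coprime.pow_left _ ((Nat.Prime.coprime_iff_not_dvd hp).2 hpn))
    (Nat.Coprime.pow_left _ ((Nat.Prime.coprime_iff_not_dvd hr).2 hrn))
  obtain ⟨Y, hY, -⟩ := Cfsg.Agent.S0005.result (p ^ α * r ^ β) n hn hcop ⊥ (by simp)
  refine ⟨Y.map M.subtype, Subgroup.map_subtype_le _, isSolvable_map _ inferInstance, ?_⟩
  rw [Subgroup.card_map_of_injective M.subtype_injective, hY]

/-- If an abelian Sylow `r`-subgroup of a solvable `{p, r}`-group centralizes the `p`-core, then it is normal. -/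
theorem sylow_normal {Y : Type u} [Group Y] [Finite Y] [Group.IsSolvable Y] {p r : ℕ} (hp : p.Prime)
    (hr : r.Prime) (hpr : p ≠ r) (hprs : ∀ l : ℕ, l.Prime → l ∣ Nat.card Y → l = p ∨ l = r) [Fact r.Prime]
    (R : Sylow r Y) (hR : ∀ a ∈ R, ∀ b ∈ R, a * b = b * a)
    (hcent : Cfsg.pCore p Y ≤ Subgroup.centralizer (R : Set Y)) : (R : Subgroup Y).Normal := by
  have := Fact.mk hp
  have hF : Cfsg.fittingSubgroup Y ≤ Cfsg.pCore p Y ⊔ Cfsg.pCore r Y := by
    rw [fittingSubgroup_eq_iSup_pCore]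
    refine iSup_le fun t => ?_
    have := Fact.mk t.2
    by_cases htr : (t : ℕ) = r
    · rw [htr]
      exact le_sup_right
    · by_cases htp : (t : ℕ) = p
      · rw [htp]
        exact le_sup_left
      · have h1 := (pCore_isPGroup (G := Y) (t : ℕ)).card_eq_or_dvd
        rcases h1 with h1 | h1
        · rw [Subgroup.card_eq_one.1 h1]; exact bot_le
        · rcases hprs t t.2 (h1.trans (Subgroup.card_subgroup_dvd_card _)) with h | h
          · exact absurd h htp
          · exact absurd h htr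
  have hrR : Cfsg.pCore r Y ≤ (R : Subgroup Y) := pCore_le_sylow R
  have h1 : (R : Subgroup Y) ≤ Subgroup.centralizer (Cfsg.fittingSubgroup Y : Set Y) := by
    have h2 : Cfsg.pCore p Y ⊔ Cfsg.pCore r Y ≤ Subgroup.centralizer (R : Set Y) := by
      refine sup_le hcent fun a ha => ?_
      rw [Subgroup.mem_centralizer_iff]
      intro b hb
      exact hR b hb a (hrR ha)
    intro a ha
    rw [Subgroup.mem_centralizer_iff]
    intro f hf
    exact (Subgroup.mem_centralizer_iff.1 (h2 (hF hf)) a ha).symm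
  have h2 : (R : Subgroup Y) ≤ Cfsg.pCore p Y ⊔ Cfsg.pCore r Y :=
    h1.trans ((Cfsg.Agent.S0044.result (G := Y)).trans hF)
  have h3 : Nat.card (R : Subgroup Y) ∣ Nat.card (Cfsg.pCore p Y) * Nat.card (Cfsg.pCore r Y) :=
    (Subgroup.card_dvd_of_le h2).trans (card_sup_dvd _ _ (Cfsg.Agent.Lib.Cores.pCore_normal p))
  obtain ⟨a, ha⟩ := IsPGroup.iff_card.1 (pCore_isPGroup (G := Y) p)
  obtain ⟨b, hb⟩ := IsPGroup.iff_card.1 R.isPGroup'
  have h4 : Nat.card (R : Subgroup Y) ∣ Nat.card (Cfsg.pCore r Y) := by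
    refine Nat.Coprime.dvd_of_dvd_mul_left ?_ h3
    rw [ha, hb]
    exact Nat.Coprime.pow _ _ ((Nat.coprime_primes hr hp).2 hpr.symm)
  have h5 := Subgroup.eq_of_le_of_card_ge hrR (Nat.le_of_dvd Nat.card_pos h4)
  rw [← h5]
  exact Cfsg.Agent.Lib.Cores.pCore_normal r

/-- conjugation as a function -/
def cj {Y : Type u} [Group Y] (g y : Y) : Y := g * y * g⁻¹

theorem cj_one {Y : Type u} [Group Y] (y : Y) : cj 1 y = y := by simp [cj]

theorem cj_mul {Y : Type u} [Group Y] (g h y : Y) : cj (g * h) y = cj g (cj h y) := by simp [cj, mul_assoc]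

theorem card_compl {Y : Type u} [Group Y] [Finite Y] {R S : Subgroup Y} (h : S ≤ R) :
    Nat.card {y : Y | y ∈ R ∧ y ∉ S} + Nat.card S = Nat.card R := by
  have h1 : ({y : Y | y ∈ R ∧ y ∉ S} : Set Y) = (R : Set Y) \ (S : Set Y) := by
    ext v
    simp
  rw [h1]
  change ((R : Set Y) \ (S : Set Y)).ncard + (S : Set Y).ncard = (R : Set Y).ncard
  exact Set.ncard_sdiff_add_ncard_of_subset h (Set.toFinite _)

/-- A `p`-group `P` acting by conjugation on `R ∖ S`. -/
theorem exists_stab_conj {Y : Type u} [Group Y] [Finite Y] {p k : ℕ} [Fact p.Prime] (P R S : Subgroup Y)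
    (hP : IsPGroup p P) (hSR : S ≤ R) (hR : P ≤ Subgroup.normalizer (R : Set Y))
    (hS : P ≤ Subgroup.normalizer (S : Set Y)) (h : ¬ p ^ (k + 1) ∣ Nat.card R - Nat.card S) :
    ∃ w ∈ R, w ∉ S ∧ ∃ Q : Subgroup Y, Q ≤ P ∧ (∀ g ∈ Q, g * w = w * g) ∧ Nat.card P ≤ p ^ k * Nat.card Q := by
  have hc := card_compl hSR
  obtain ⟨w, hw, Q, hQP, hQ, -, hle⟩ := exists_stab (p := p) (k := k) cj cj_one cj_mul P hP
    {y : Y | y ∈ R ∧ y ∉ S} inferInstance (fun g hg y hy => by
      refine ⟨(Subgroup.mem_normalizer_iff.1 (hR hg) y).1 hy.1, fun h => hy.2 ?_⟩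
      exact (Subgroup.mem_normalizer_iff.1 (hS hg) y).2 h) (by
      rw [← hc, Nat.add_sub_cancel] at h
      exact h)
  exact ⟨w, hw.1, hw.2, Q, hQP, fun g hg => mul_inv_eq_iff_eq_mul.1 (hQ g hg), hle⟩

/-- A `p`-group `P` normalizing the group `R` of order `r ^ 2`. -/
theorem exists_cent {Y : Type u} [Group Y] [Finite Y] {p r k : ℕ} [hp : Fact p.Prime] (hr : r.Prime) (P R : Subgroup Y)
    (hP : IsPGroup p P) (hR : P ≤ Subgroup.normalizer (R : Set Y)) (hcard : Nat.card R = r ^ 2)
    (h1 : ¬ p ^ 2 ∣ r ^ 2 - 1) (h2 : ¬ p ^ (k + 1) ∣ r ^ 2 - r) (hPc : p * p ^ k < Nat.card P) :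
    ∃ u ∈ P, orderOf u = p ∧ ∀ x ∈ R, u * x = x * u := by
  obtain ⟨w, hwR, hw1, Q, hQP, hQw, hle⟩ := exists_stab_conj (k := 1) P R ⊥ hP bot_le hR
    (fun g _ => by rw [Subgroup.mem_normalizer_iff]; intro h; simp) (by
      rw [hcard, Subgroup.card_bot]
      exact h1)
  rw [pow_one] at hle
  have hQ1 : p ^ k < Nat.card Q := by
    by_contra hlt
    have := Nat.mul_le_mul_left p (not_lt.1 hlt)
    omega
  have hwne : w ≠ 1 := fun h => hw1 (by rw [h]; exact Subgroup.one_mem _)
  -- the order of `w`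
  have hd : orderOf w ∣ r ^ 2 := by
    rw [← hcard, ← Subgroup.orderOf_mk w hwR]
    exact orderOf_dvd_natCard _
  obtain ⟨i, hi, hwi⟩ := (Nat.dvd_prime_pow hr).1 hd
  have hi0 : i ≠ 0 := by
    rintro rfl
    rw [pow_zero, orderOf_eq_one_iff] at hwi
    exact hwne hwi
  have hwle : Subgroup.zpowers w ≤ R := Subgroup.zpowers_le.2 hwR
  have fin : ∀ Q' : Subgroup Y, Q' ≤ P → 1 < Nat.card Q' → (∀ g ∈ Q', ∀ x ∈ R, g * x = x * g) →
      ∃ u ∈ P, orderOf u = p ∧ ∀ x ∈ R, u * x = x * u := by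
    intro Q' hQ' hc hcent
    obtain ⟨n, hn⟩ := IsPGroup.iff_card.1 (hP.to_le hQ')
    have h5 : p ∣ Nat.card Q' := by
      rw [hn]
      refine dvd_pow_self p ?_
      rintro rfl
      rw [hn, pow_zero] at hc
      exact lt_irrefl _ hc
    obtain ⟨u, hu⟩ := exists_prime_orderOf_dvd_card' p h5
    exact ⟨u, hQ' u.2, by rw [Subgroup.orderOf_coe, hu], hcent u u.2⟩
  have hi2 : i = 1 ∨ i = 2 := by omega
  rcases hi2 with rfl | rfl
  · rw [pow_one] at hwi
    obtain ⟨w2, hw2R, hw2, Q2, hQ2, hQ2w, hle2⟩ := exists_stab_conj (k := k) Q R (Subgroup.zpowers w) (hP.to_le hQP) hwle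
      (hQP.trans hR) (fun g hg => by
        rw [Subgroup.mem_normalizer_iff]
        intro y
        have hcm : Commute g w := hQw g hg
        constructor
        · rintro ⟨j, rfl⟩
          refine ⟨j, ?_⟩
          change w ^ j = g * w ^ j * g⁻¹
          rw [(hcm.zpow_right j).eq, mul_inv_cancel_right]
        · rintro ⟨j, hj⟩
          refine ⟨j, ?_⟩
          change w ^ j = g * y * g⁻¹ at hj
          change w ^ j = y
          have h6 : y = g⁻¹ * w ^ j * g := by rw [hj]; group
          rw [h6, ((hcm.inv_left).zpow_right j).eq, inv_mul_cancel_right]) (by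
        rw [hcard, Nat.card_zpowers, hwi]
        exact h2)
    have hQ2c : 1 < Nat.card Q2 := by
      by_contra hlt
      have h7 : Nat.card Q2 ≤ 1 := not_lt.1 hlt
      have := Nat.mul_le_mul_left (p ^ k) h7
      omega
    refine fin Q2 (hQ2.trans hQP) hQ2c fun g hg x hx => ?_
    -- the centralizer of `g` in `R`
    have h8 : R ≤ Subgroup.centralizer {g} := by
      have h9 : R ⊓ Subgroup.centralizer {g} = R := by
        refine Subgroup.eq_of_le_of_card_ge inf_le_left ?_
        have h10 : Nat.card ↥(R ⊓ Subgroup.centralizer {g}) ∣ r ^ 2 := by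
          rw [← hcard]
          exact Subgroup.card_dvd_of_le inf_le_left
        have h11 : Subgroup.zpowers w ≤ R ⊓ Subgroup.centralizer {g} := by
          rw [Subgroup.zpowers_le]
          refine ⟨hwR, Subgroup.mem_centralizer_singleton_iff.2 (hQw g (hQ2 hg)).symm⟩
        have h12 : w2 ∈ R ⊓ Subgroup.centralizer {g} :=
          ⟨hw2R, Subgroup.mem_centralizer_singleton_iff.2 (hQ2w g hg).symm⟩
        obtain ⟨j, hj, hjc⟩ := (Nat.dvd_prime_pow hr).1 h10
        have h13 := Subgroup.card_dvd_of_le h11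
        rw [Nat.card_zpowers, hwi, hjc] at h13
        have h14 : j ≠ 0 := by
          rintro rfl
          rw [pow_zero] at h13
          exact hr.one_lt.ne' (Nat.dvd_one.1 h13)
        have h15 : j ≠ 1 := by
          rintro rfl
          rw [pow_one] at hjc
          have h16 := Subgroup.eq_of_le_of_card_ge h11 (by rw [hjc, Nat.card_zpowers, hwi])
          rw [← h16] at h12
          exact hw2 h12
        have h17 : j = 2 := by omega
        rw [hjc, h17, hcard]
      rw [← h9]
      exact inf_le_right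
    exact (Subgroup.mem_centralizer_singleton_iff.1 (h8 hx)).symm
  · have h6 : Subgroup.zpowers w = R := Subgroup.eq_of_le_of_card_ge hwle (by rw [hcard, Nat.card_zpowers, hwi])
    refine fin Q hQP (lt_of_le_of_lt (Nat.one_le_pow _ _ hp.1.pos) hQ1) fun g hg x hx => ?_
    rw [← h6] at hx
    obtain ⟨j, rfl⟩ := Subgroup.mem_zpowers_iff.1 hx
    have hcm : Commute g w := hQw g hg
    exact hcm.zpow_right j

/-- The factorization of the order in a numerical factorization. -/
theorem fac_ge {T : Type u} [Group T] [Finite T] {H K : Subgroup T} {p : ℕ}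
    (h : Nat.card T ∣ Nat.card H * Nat.card K * outN T) :
    (Nat.card T).factorization p ≤ (Nat.card H).factorization p + (Nat.card K).factorization p +
      (outN T).factorization p := by
  have hH0 : Nat.card H ≠ 0 := Nat.card_pos.ne'
  have hK0 : Nat.card K ≠ 0 := Nat.card_pos.ne'
  have hO0 : outN T ≠ 0 := outN_ne_zero
  have := (Nat.factorization_le_iff_dvd Nat.card_pos.ne' (mul_ne_zero (mul_ne_zero hH0 hK0) hO0)).2 h p
  rwa [Nat.factorization_mul (mul_ne_zero hH0 hK0) hO0, Nat.factorization_mul hH0 hK0, Finsupp.add_apply,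
    Finsupp.add_apply] at this

/-- Without loss of generality `r` divides `|H|`. -/
theorem nf0_wlog {T : Type u} [Group T] {r : ℕ} (hr : r.Prime) (hrT : r ∣ Nat.card T) (hro : ¬ r ∣ outN T)
    (h : ∀ H K : Subgroup T, Group.IsSolvable H → Group.IsSolvable K → r ∣ Nat.card H →
      ¬ Nat.card T ∣ Nat.card H * Nat.card K * outN T) : NF0 T := by
  intro H K hH hK hd
  rcases dvd_or hr hrT hro hd with h1 | h1
  · exact h H K hH hK h1 hd
  · exact h K H hK hH h1 (by rwa [mul_comm (Nat.card K)])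

end Cfsg.Agent.H342.NF
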