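import Cfsg.Agent.H342.NFSix
import Cfsg.Agent.H176.NFAbs

/-!
# Solvable groups of order divisible by `7` in dimensions `6` and `8` over the field with two elements
(helper342, S5773)
-/

set_option autoImplicit false

namespace Cfsg.Agent.H342.NF

open Module Cfsg.Agent.H518.DghpFix Cfsg.Agent.H518.DghpPrim Cfsg.Agent.H176.NF

universe u

/-- `7`-subgroups of order at most `7` and their normalizers. -/
theorem bd_seven {T : Type u} [Group T] [Finite T] {b : ℕ} (h7 : (Nat.card T).factorization 7 ≤ 1)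
    (h3 : (Nat.card T).factorization 3 ≤ 5)
    (hb : ∀ x : T, orderOf x = 7 → ∀ U : Subgroup T, IsPGroup 3 U → (∀ u ∈ U, x * u = u * x) →
      (Nat.card U).factorization 3 ≤ b) : Bd T 7 3 (b + 1) := by
  have hp7 : Nat.Prime 7 := by norm_num
  have hp3 := Nat.prime_three
  have := Fact.mk hp7
  have := Fact.mk hp3
  have h6 : (Nat.factorization 6) 3 = 1 := by
    rw [show (6 : ℕ) = 2 * 3 from rfl, Nat.factorization_mul (by norm_num) (by norm_num),
      Nat.prime_two.factorization, Nat.prime_three.factorization]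
    simp
  have hT0 : Nat.card T ≠ 0 := Nat.card_pos.ne'
  have key := bdAbs.{u} T 7 3 6 b hp7 hp3 (by norm_num) (by norm_num) ?_ ?_ ?_
  · rwa [h6] at key
  · intro R hR
    obtain ⟨n, hn⟩ := IsPGroup.iff_card.1 hR
    have h1 : 7 ^ n ∣ Nat.card T := by
      rw [← hn]
      exact Subgroup.card_subgroup_dvd_card R
    have h2 := (hp7.pow_dvd_iff_le_factorization hT0).1 h1
    refine isCyclic_of_card_dvd_prime (p := 7) ?_
    rw [hn]
    have hn1 : n ≤ 1 := h2.trans h7
    exact (pow_dvd_pow 7 hn1).trans (by norm_num)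
  · intro x y hx k j hy hk
    have h1 : (k : ZMod 7) ≠ 0 := by
      intro h0
      rw [ZMod.natCast_eq_zero_iff] at h0
      obtain ⟨m, rfl⟩ := h0
      rw [pow_mul, ← hx, pow_orderOf_eq_one, one_pow, mul_inv_eq_one] at hk
      have h2 : x = 1 := mul_eq_left.1 hk
      rw [h2, orderOf_one] at hx
      norm_num at hx
    exact orderOf_dvd_of_pow_eq_one (ZMod.pow_card_sub_one_eq_one h1)
  · intro x hx U hU hxU
    refine hb x hx U hU ?_
    obtain ⟨n, hn⟩ := IsPGroup.iff_card.1 hU
    have h1 : 3 ^ n ∣ Nat.card T := by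
      rw [← hn]
      exact Subgroup.card_subgroup_dvd_card U
    have h2 := (hp3.pow_dvd_iff_le_factorization hT0).1 h1
    have hn5 : n ≤ 5 := h2.trans h3
    have h4 := centralizes_of_small (a := 5) hp7 hp3 (by norm_num) (Subgroup.zpowers x) U
      (IsPGroup.of_card (n := 1) (by rw [Nat.card_zpowers, hx, pow_one])) (Subgroup.zpowers_le.2 hxU)
      (by rw [hn]; exact pow_dvd_pow 3 hn5) (by
        intro j h1 h2
        interval_cases j <;> norm_num)
    intro u hu
    exact Subgroup.mem_centralizer_iff.1 (h4 hu) x (Subgroup.mem_zpowers x)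

variable {F : Type} [Field F] [Fintype F] {V : Type} [AddCommGroup V] [Module F V] [FiniteDimensional F V] [Finite V]
  {G : Type} [Group G] [Finite G] {φ : G →* (V →ₗ[F] V)}

theorem bd_seven_six (f : Frm φ) (hφ : Function.Injective φ) (hF : Fintype.card F = 2) (hV : finrank F V = 6)
    (h7 : (Nat.card G).factorization 7 ≤ 1) (h3 : (Nat.card G).factorization 3 ≤ 5) : Bd G 7 3 1 := by
  have hp7 : Nat.Prime 7 := by norm_num
  have := Fact.mk Nat.prime_three
  refine bd_seven (b := 0) h7 h3 fun x hx U hU hxU => ?_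
  by_contra hcon
  have h1 : 1 < Nat.card U := by
    by_contra hlt
    have h2 : Nat.card U = 1 := le_antisymm (not_lt.1 hlt) Nat.card_pos
    rw [h2] at hcon
    simp at hcon
  obtain ⟨u, huU, hu⟩ := exists_ord Nat.prime_three hU h1
  have h2 := rank_add (φ := φ) hF hp7 (by norm_num) hx
  rw [f.seven_dim hφ hF (by omega) hx, hV] at h2
  have h4 : fixS (φ x) = ⊥ := Submodule.finrank_eq_zero.1 (by omega)
  exact f.seven_three hφ hF (by omega) hx hu (hxU u huU) (by rw [h4]; exact bot_le)

theorem bd_seven_eight (f : Frm φ) (hφ : Function.Injective φ) (hF : Fintype.card F = 2) (hV : finrank F V = 8)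
    (h7 : (Nat.card G).factorization 7 ≤ 1) (h3 : (Nat.card G).factorization 3 ≤ 5) : Bd G 7 3 2 := by
  have hp7 : Nat.Prime 7 := by norm_num
  have := Fact.mk Nat.prime_three
  refine bd_seven (b := 1) h7 h3 fun x hx U hU hxU => ?_
  by_contra hcon
  obtain ⟨n, hn⟩ := IsPGroup.iff_card.1 hU
  have hn2 : 2 ≤ n := by
    rw [hn, Nat.factorization_pow, Nat.prime_three.factorization] at hcon
    simp at hcon
    omega
  have hU9 : 9 ≤ Nat.card U := by
    rw [hn]
    calc 9 = 3 ^ 2 := by norm_num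
      _ ≤ 3 ^ n := Nat.pow_le_pow_right (by norm_num) hn2
  have h2 := rank_add (φ := φ) hF hp7 (by norm_num) hx
  rw [f.seven_dim hφ hF (by omega) hx, hV] at h2
  have h4 : finrank F (fixS (φ x)) = 2 := by omega
  obtain ⟨w, hw, hw0, Q, hQ, hQw, hle⟩ := fix_step (p := 3) (k := 1) φ hF U hU (fixS (φ x))
    (fun g hg => fixS_inv_comm φ (hxU g hg)) (by rw [h4]; norm_num)
  rw [pow_one] at hle
  obtain ⟨u, huQ, hu⟩ := exists_ord Nat.prime_three (hU.to_le hQ) (Q := Q) (by omega)
  exact f.seven_three hφ hF (by omega) hx hu (hxU u (hQ huQ))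
    (plane_le φ hF hu (fixS (φ x)) (fixS_inv_comm φ (hxU u (hQ huQ))) h4 hw (hQw u huQ) hw0)

end Cfsg.Agent.H342.NF
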