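import Cfsg.Agent.H342.NFSeven
import Cfsg.Agent.H342.NFEight
import Cfsg.Agent.H198.NFPol
import Cfsg.Agent.H518.DghpOEight
import Cfsg.Agent.H484.CritClassical
import Cfsg.Agent.S0813
import Cfsg.Agent.S0814
import Cfsg.Agent.S0817
import Cfsg.Agent.S0270
import Cfsg.Agent.S0296
import Cfsg.Agent.S0249
import Cfsg.Agent.S0245
import Cfsg.Agent.S0246
import Cfsg.Agent.S0293
import Cfsg.Agent.S0243

/-!
# S5773: the rows `L_6(2)`, `Sp_6(2)`, `O_8^+(2)` (helper342)
-/

set_option autoImplicit false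

namespace Cfsg.Agent.H342.NF

open Module Cfsg.Agent.H518.Dghp Cfsg.Agent.H518.DghpSep Cfsg.Agent.H518.DghpPrim Cfsg.Agent.H518.DghpMat
  Cfsg.Agent.H176.NF Cfsg.Agent.H518.DghpFix

universe u

section abs

variable {F : Type} [Field F] [Fintype F] {V : Type} [AddCommGroup V] [Module F V] [FiniteDimensional F V] [Finite V]
  {G : Type} [Group G] [Finite G] {φ : G →* (V →ₗ[F] V)}

/-- restriction -/
def Frm.comp (f : Frm φ) {T : Type} [Group T] (e : T →* G) : Frm (φ.comp e) where
  B := f.B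
  q := f.q
  add_left := f.add_left
  add_right := f.add_right
  alt := f.alt
  inv g u v := f.inv (e g) u v
  nondeg := f.nondeg
  q_add := f.q_add

theorem fac_eq {a b c d n : ℕ} {N : ℕ} (hN : N = 2 ^ a * 3 ^ b * 5 ^ c * 7 ^ d * n) (h2 : ¬ 2 ∣ n) (h3 : ¬ 3 ∣ n)
    (h5 : ¬ 5 ∣ n) (h7 : ¬ 7 ∣ n) : N.factorization 2 = a ∧ N.factorization 3 = b ∧ N.factorization 5 = c ∧
      N.factorization 7 = d := by
  have hn0 : n ≠ 0 := by rintro rfl; exact h2 (dvd_zero 2)
  have p2 : Nat.Prime 2 := by norm_num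
  have p3 : Nat.Prime 3 := by norm_num
  have p5 : Nat.Prime 5 := by norm_num
  have p7 : Nat.Prime 7 := by norm_num
  have hf : ∀ l : ℕ, N.factorization l = a * (Nat.factorization 2) l + b * (Nat.factorization 3) l +
      c * (Nat.factorization 5) l + d * (Nat.factorization 7) l + n.factorization l := by
    intro l
    rw [hN, Nat.factorization_mul (by positivity) hn0, Nat.factorization_mul (by positivity) (by positivity),
      Nat.factorization_mul (by positivity) (by positivity), Nat.factorization_mul (by positivity) (by positivity),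
      Nat.factorization_pow, Nat.factorization_pow, Nat.factorization_pow, Nat.factorization_pow]
    simp
  have e2 := Nat.factorization_eq_zero_of_not_dvd h2
  have e3 := Nat.factorization_eq_zero_of_not_dvd h3
  have e5 := Nat.factorization_eq_zero_of_not_dvd h5
  have e7 := Nat.factorization_eq_zero_of_not_dvd h7
  rw [hf, hf, hf, hf, p2.factorization, p3.factorization, p5.factorization, p7.factorization, e2, e3, e5, e7]
  simp [Finsupp.single_apply]

/-- abstract `L_6(2)` -/
theorem nf0_l62 (φ : G →* (V →ₗ[F] V)) (hF : Fintype.card F = 2) (hφ : Function.Injective φ) (hV : finrank F V = 6)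
    (hcard : Nat.card G = 2 ^ 15 * 3 ^ 4 * 5 ^ 1 * 7 ^ 2 * 31) (hout : outN G = 2) (s7 : Sep G 31 7)
    (s3 : Sep G 31 3) : NF0 G := by
  obtain ⟨-, h3, -, h7⟩ := fac_eq hcard (by norm_num) (by norm_num) (by norm_num) (by norm_num)
  refine nf0_wlog (r := 31) (by norm_num) (by rw [hcard]; norm_num) (by rw [hout]; norm_num) fun H K hH hK h31 hd => ?_
  have h3H : (Nat.card H).factorization 3 = 0 := Nat.factorization_eq_zero_of_not_dvd fun h => s3 H hH h31 h
  have h7H : (Nat.card H).factorization 7 = 0 := Nat.factorization_eq_zero_of_not_dvd fun h => s7 H hH h31 h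
  have f3 := fac_ge (p := 3) hd
  have f7 := fac_ge (p := 7) hd
  rw [hout, Nat.factorization_eq_zero_of_not_dvd (by norm_num : ¬ 3 ∣ 2)] at f3
  rw [hout, Nat.factorization_eq_zero_of_not_dvd (by norm_num : ¬ 7 ∣ 2)] at f7
  have hK0 : Nat.card K ≠ 0 := Nat.card_pos.ne'
  have hle := (Nat.factorization_le_iff_dvd hK0 Nat.card_pos.ne').2 (Subgroup.card_subgroup_dvd_card K)
  have hle3 := hle 3
  have hle7 := hle 7
  obtain ⟨Y, -, hYs, hY⟩ := exists_hall (p := 3) (r := 7) (by norm_num) (by norm_num) (by norm_num) K hK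
  have e3 : (Nat.card K).factorization 3 = 4 := by omega
  have e7 : (Nat.card K).factorization 7 = 2 := by omega
  rw [e3, e7] at hY
  exact no_l62 (φ.comp Y.subtype) hF (hφ.comp Y.subtype_injective) hV hY

/-- abstract `Sp_6(2)` -/
theorem nf0_sp62 (f : Frm φ) (hF : Fintype.card F = 2) (hφ : Function.Injective φ) (hV : finrank F V = 6)
    (hcard : Nat.card G = 2 ^ 9 * 3 ^ 4 * 5 ^ 1 * 7 ^ 1 * 1) (hout : outN G = 1) (s5 : Sep G 7 5) : NF0 G := by
  obtain ⟨-, h3, h5, h7⟩ := fac_eq hcard (by norm_num) (by norm_num) (by norm_num) (by norm_num)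
  refine nf0_wlog (r := 7) (by norm_num) (by rw [hcard]; norm_num) (by rw [hout]; norm_num) fun H K hH hK h7H hd => ?_
  have h5H : (Nat.card H).factorization 5 = 0 := Nat.factorization_eq_zero_of_not_dvd fun h => s5 H hH h7H h
  have h3H := bd_seven_six f hφ hF hV h7.le (by omega) H hH h7H
  have f3 := fac_ge (p := 3) hd
  have f5 := fac_ge (p := 5) hd
  rw [hout, Nat.factorization_eq_zero_of_not_dvd (by norm_num : ¬ 3 ∣ 1)] at f3
  rw [hout, Nat.factorization_eq_zero_of_not_dvd (by norm_num : ¬ 5 ∣ 1)] at f5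
  have hK0 : Nat.card K ≠ 0 := Nat.card_pos.ne'
  have hle := (Nat.factorization_le_iff_dvd hK0 Nat.card_pos.ne').2 (Subgroup.card_subgroup_dvd_card K)
  have hle3 := hle 3
  have hle5 := hle 5
  obtain ⟨Y, -, hYs, hY⟩ := exists_hall (p := 3) (r := 5) (by norm_num) (by norm_num) (by norm_num) K hK
  have e5 : (Nat.card K).factorization 5 = 1 := by omega
  rw [e5] at hY
  exact no_sp62 (φ.comp Y.subtype) hF (hφ.comp Y.subtype_injective) hV (by omega) (by omega) hY

/-- abstract `O_8^+(2)` -/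
theorem nf0_o82 (f : Frm φ) (hF : Fintype.card F = 2) (hφ : Function.Injective φ) (hV : finrank F V = 8)
    (hcard : Nat.card G = 2 ^ 12 * 3 ^ 5 * 5 ^ 2 * 7 ^ 1 * 1) (hout : outN G = 6) (s5 : Sep G 7 5) : NF0 G := by
  obtain ⟨-, h3, h5, h7⟩ := fac_eq hcard (by norm_num) (by norm_num) (by norm_num) (by norm_num)
  refine nf0_wlog (r := 7) (by norm_num) (by rw [hcard]; norm_num) (by rw [hout]; norm_num) fun H K hH hK h7H hd => ?_
  have h5H : (Nat.card H).factorization 5 = 0 := Nat.factorization_eq_zero_of_not_dvd fun h => s5 H hH h7H h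
  have h3H := bd_seven_eight f hφ hF hV h7.le (by omega) H hH h7H
  have f3 := fac_ge (p := 3) hd
  have f5 := fac_ge (p := 5) hd
  have o3 : (Nat.factorization 6) 3 = 1 := by
    rw [show (6 : ℕ) = 2 * 3 from rfl, Nat.factorization_mul (by norm_num) (by norm_num),
      Nat.prime_two.factorization, Nat.prime_three.factorization]
    simp
  rw [hout, o3] at f3
  rw [hout, Nat.factorization_eq_zero_of_not_dvd (by norm_num : ¬ 5 ∣ 6)] at f5
  have hK0 : Nat.card K ≠ 0 := Nat.card_pos.ne'
  have hle := (Nat.factorization_le_iff_dvd hK0 Nat.card_pos.ne').2 (Subgroup.card_subgroup_dvd_card K)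
  have hle3 := hle 3
  have hle5 := hle 5
  obtain ⟨Y, -, hYs, hY⟩ := exists_hall (p := 3) (r := 5) (by norm_num) (by norm_num) (by norm_num) K hK
  have e5 : (Nat.card K).factorization 5 = 2 := by omega
  rw [e5] at hY
  exact no_o82 (f.comp Y.subtype) hF (hφ.comp Y.subtype_injective) hV (by omega) (by omega) hY

end abs

end Cfsg.Agent.H342.NF
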