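import Mathlib
import Cfsg.Agent.H202.T.Enum

/-!
# Root multisets of isometries in even characteristic, at most eight roots (helper342)

`Bad q R μ ν a b` : `R = c • orb μ d + c' • orb ν d'`, `c d = a`, `c' d' = b`, `μ ^ (q ^ a + 1) = 1`, `ν ^ (q ^ b - 1) = 1`
(the root multisets of isometries of the form of minus type).
-/

set_option autoImplicit false
set_option linter.unusedSectionVars false

namespace Cfsg.Agent.H342.O8

open Cfsg.Agent.H160.QRoots Cfsg.Agent.H202.T

variable {K : Type*} [Field K] [DecidableEq K] {q : ℕ}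

/-- the excluded root multisets -/
def Bad (q : ℕ) (R : Multiset K) (μ ν : K) (a b : ℕ) : Prop :=
  (∃ d d' c c' : ℕ, IsMin q μ d ∧ IsMin q ν d' ∧ R = c • (orb q μ d).val + c' • (orb q ν d').val ∧
    c * d = a ∧ c' * d' = b) ∧ μ ^ (q ^ a + 1) = 1 ∧ ν ^ (q ^ b - 1) = 1

theorem sq_sub_dvd (q : ℕ) : q ^ 2 - 1 ∣ q ^ 4 - 1 := by
  have := sub_one_dvd (q ^ 2) 2
  rwa [← pow_mul] at this

theorem sq_add_dvd (q : ℕ) : q ^ 2 + 1 ∣ q ^ 4 - 1 := by
  have := add_one_dvd_sq (q ^ 2)
  rwa [← pow_mul] at this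

variable {R : Multiset K} (hq : Function.Injective (fun x : K => x ^ q)) (hq0 : 0 < q)
include hq

theorem bd_peel {R' : Multiset K} {μ : K} {d M N : ℕ} (h : Inv q R)
    (h5 : ∀ x, x ∈ R' ↔ x ∈ R ∧ x ∉ orb q μ d) (h6 : ∀ x ∈ R', R'.count x = R.count x) (hM : R.count μ ≤ M)
    (hμ : μ ^ N = 1) (hB : Bd R' M N) : Bd R M N := by
  constructor
  · intro x
    by_cases hx : x ∈ R
    · by_cases hxo : x ∈ orb q μ d
      · rw [count_orb h hxo]; exact hM
      · have := (h5 x).2 ⟨hx, hxo⟩
        rw [← h6 x this]; exact hB.cnt x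
    · rw [Multiset.count_eq_zero_of_notMem hx]; omega
  · intro x hx
    by_cases hxo : x ∈ orb q μ d
    · exact ex_orb hxo hμ
    · exact hB.ex x ((h5 x).2 ⟨hx, hxo⟩)

theorem full {μ : K} {d : ℕ} (h : Inv q R) (hd : IsMin q μ d) (hc : R.card = R.count μ * (2 * d)) :
    R = R.count μ • (orb q μ d).val := by
  obtain ⟨R', h3, h4, h5, h6, h7⟩ := peel hq h hd
  have hR' : R'.card = 0 := by omega
  rw [Multiset.card_eq_zero] at hR'
  rw [hR', add_zero] at h3
  exact h3

theorem bd_full {μ : K} {d M N : ℕ} (h : Inv q R) (hd : IsMin q μ d) (hc : R.card = R.count μ * (2 * d))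
    (hM : R.count μ ≤ M) (hμ : μ ^ N = 1) : Bd R M N := by
  obtain ⟨R', h3, h4, h5, h6, h7⟩ := peel hq h hd
  have hR' : R'.card = 0 := by omega
  rw [Multiset.card_eq_zero] at hR'
  refine bd_peel hq h h5 h6 hM hμ ?_
  rw [hR']
  exact ⟨fun x => by simp, fun x hx => absurd hx (Multiset.notMem_zero x)⟩

include hq0

/-- two elements -/
theorem rem2 (h : Inv q R) (hc : R.card = 2) :
    ∃ ν, IsMin q ν 1 ∧ R = 1 • (orb q ν 1).val ∧ R.count ν = 1 ∧
      ((ν ^ (q - 1) = 1 ∧ Bd R 1 (q - 1)) ∨ (ν ^ (q + 1) = 1 ∧ Bd R 1 (q + 1))) := by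
  obtain ⟨μ, hμ⟩ := Multiset.card_pos_iff_exists_mem.1 (by omega : 0 < R.card)
  obtain ⟨d, hd⟩ := exists_isMin hq h hμ
  have h1 := dm_le hq h hd
  have h2 := hd.pos
  have h8 : 1 ≤ R.count μ := Multiset.one_le_count_iff_mem.2 hμ
  have h9 : R.count μ * d ≤ 1 := by nlinarith
  have h10 : R.count μ = 1 := by nlinarith
  have h11 : d = 1 := by rw [h10] at h9; omega
  subst h11
  have hf := full hq h hd (by omega)
  rw [h10] at hf
  refine ⟨μ, hd, hf, h10, ?_⟩
  rcases hd.pow hq0 with h3 | h3 <;> rw [_root_.pow_one] at h3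
  · exact Or.inl ⟨h3, bd_full hq h hd (by omega) (by omega) h3⟩
  · exact Or.inr ⟨h3, bd_full hq h hd (by omega) (by omega) h3⟩

/-- four elements -/
theorem enum4 (h : Inv q R) (hc : R.card = 4) :
    Bd R 1 (q ^ 2 + 1) ∨ Bd R 1 (q ^ 2 - 1) ∨ Bd R 2 (q - 1) ∨ Bd R 2 (q + 1) := by
  rcases two hq hq0 h hc with h1 | h1
  · exact Or.inl h1
  · by_cases hcnt : ∀ x, R.count x ≤ 1
    · exact Or.inr (Or.inl ⟨hcnt, h1.ex⟩)
    · push Not at hcnt
      obtain ⟨μ, hμ1⟩ := hcnt
      have hμ : μ ∈ R := Multiset.one_le_count_iff_mem.1 (by omega)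
      obtain ⟨d, hd⟩ := exists_isMin hq h hμ
      have h2 := dm_le hq h hd
      have h3 := hd.pos
      have h4 : R.count μ * d ≤ 2 := by nlinarith
      have h5 : d = 1 := by nlinarith
      subst h5
      right; right
      have h6 : R.count μ = 2 := by omega
      rcases hd.pow hq0 with h7 | h7 <;> rw [_root_.pow_one] at h7
      · exact Or.inl (bd_full hq h hd (by omega) (by omega) h7)
      · exact Or.inr (bd_full hq h hd (by omega) (by omega) h7)

/-- six elements -/
theorem enum6 (h : Inv q R) (hc : R.card = 6) :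
    Bd R 1 (q ^ 3 - 1) ∨ Bd R 1 (q ^ 3 + 1) ∨ Bd R 1 (q ^ 4 - 1) ∨ Bd R 2 (q ^ 2 - 1) ∨ Bd R 4 (q - 1) ∨
      Bd R 4 (q + 1) := by
  by_cases hbig : ∃ μ ∈ R, ∃ d, IsMin q μ d ∧ 3 ≤ d
  · obtain ⟨μ, hμ, d, hd, h3d⟩ := hbig
    have h1 := d_le hq h hd hμ
    obtain rfl : d = 3 := by omega
    have h2 := dm_le hq h hd
    have h8 : 1 ≤ R.count μ := Multiset.one_le_count_iff_mem.2 hμ
    have h9 : R.count μ = 1 := by omega
    rcases hd.pow hq0 with h7 | h7
    · exact Or.inl (bd_full hq h hd (by omega) (by omega) h7)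
    · exact Or.inr (Or.inl (bd_full hq h hd (by omega) (by omega) h7))
  · push Not at hbig
    have hd2 : ∀ x ∈ R, ∀ d, IsMin q x d → d ≤ 2 := fun x hx d hd => by
      have := hbig x hx d hd; omega
    by_cases hcnt : ∀ x, R.count x ≤ 1
    · right; right; left
      refine ⟨hcnt, fun x hx => ?_⟩
      obtain ⟨d, hd⟩ := exists_isMin hq h hx
      have h1 := hd2 x hx d hd
      have h2 := hd.pos
      rcases (by omega : d = 1 ∨ d = 2) with rfl | rfl
      · exact pow_dvd (hd.pow_one hq0) (sq_sub_dvd q)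
      · rcases hd.pow hq0 with h4 | h4
        · exact pow_dvd h4 (sq_sub_dvd q)
        · exact pow_dvd h4 (sq_add_dvd q)
    · push Not at hcnt
      obtain ⟨μ, hμ1⟩ := hcnt
      have hμ : μ ∈ R := Multiset.one_le_count_iff_mem.1 (by omega)
      obtain ⟨d, hd⟩ := exists_isMin hq h hμ
      have h2 := dm_le hq h hd
      have h3 := hd.pos
      have h4 : R.count μ * d ≤ 3 := by nlinarith
      have h5 : d = 1 := by nlinarith
      subst h5
      right; right; right
      rcases (by omega : R.count μ = 2 ∨ R.count μ = 3) with h6 | h6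
      · left
        obtain ⟨R', g3, g4, g5, g6, g7⟩ := peel hq h hd
        obtain ⟨ν, hν, -, -, h10⟩ := rem2 hq hq0 g4 (by omega)
        refine bd_peel hq h g5 g6 (by omega) (hd.pow_one hq0) ?_
        rcases h10 with ⟨-, h10⟩ | ⟨-, h10⟩
        · exact ⟨fun x => by have := h10.cnt x; omega, fun x hx => pow_dvd (h10.ex x hx) (sub_one_dvd q 2)⟩
        · exact ⟨fun x => by have := h10.cnt x; omega, fun x hx => pow_dvd (h10.ex x hx) (add_one_dvd_sq q)⟩
      · right
        rcases hd.pow hq0 with h7 | h7 <;> rw [_root_.pow_one] at h7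
        · exact Or.inl (bd_full hq h hd (by omega) (by omega) h7)
        · exact Or.inr (bd_full hq h hd (by omega) (by omega) h7)

/-- eight elements -/
theorem enum8 (h : Inv q R) (hc : R.card = 8) :
    Bd R 1 (q ^ 3 - 1) ∨ Bd R 1 (q ^ 3 + 1) ∨ Bd R 1 (q ^ 4 - 1) ∨ Bd R 2 (q ^ 2 + 1) ∨ Bd R 2 (q ^ 2 - 1) ∨
      Bd R 4 (q - 1) ∨ Bd R 4 (q + 1) ∨ (∃ μ, IsMin q μ 4 ∧ R = (orb q μ 4).val ∧ μ ^ (q ^ 4 + 1) = 1) ∨
      ∃ μ ν a b, a + b = 4 ∧ 1 ≤ a ∧ 1 ≤ b ∧ Bad q R μ ν a b := by
  by_cases hbig : ∃ μ ∈ R, ∃ d, IsMin q μ d ∧ 3 ≤ d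
  · obtain ⟨μ, hμ, d, hd, h3d⟩ := hbig
    have h1 := d_le hq h hd hμ
    have h2 := dm_le hq h hd
    have h8 : 1 ≤ R.count μ := Multiset.one_le_count_iff_mem.2 hμ
    rcases (by omega : d = 3 ∨ d = 4) with rfl | rfl
    · have h9 : R.count μ = 1 := by omega
      obtain ⟨R', g3, g4, g5, g6, g7⟩ := peel hq h hd
      obtain ⟨ν, hν, g8, -, h10⟩ := rem2 hq hq0 g4 (by omega)
      rw [h9, g8] at g3
      rcases hd.pow hq0 with h7 | h7
      · rcases h10 with ⟨h11, h10⟩ | ⟨h11, h10⟩
        · left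
          refine bd_peel hq h g5 g6 (by omega) h7 ?_
          exact ⟨h10.cnt, fun x hx => pow_dvd (h10.ex x hx) (sub_one_dvd q 3)⟩
        · right; right; right; right; right; right; right; right
          refine ⟨ν, μ, 1, 3, rfl, le_rfl, by norm_num, ⟨1, 3, 1, 1, hν, hd, ?_, rfl, rfl⟩, ?_, h7⟩
          · rw [add_comm]; exact g3
          · rw [_root_.pow_one]; exact h11
      · rcases h10 with ⟨h11, h10⟩ | ⟨h11, h10⟩
        · right; right; right; right; right; right; right; right
          refine ⟨μ, ν, 3, 1, rfl, by norm_num, le_rfl, ⟨3, 1, 1, 1, hd, hν, ?_, rfl, rfl⟩, h7, ?_⟩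
          · exact g3
          · rw [_root_.pow_one]; exact h11
        · right; left
          refine bd_peel hq h g5 g6 (by omega) h7 ?_
          exact ⟨h10.cnt, fun x hx => pow_dvd (h10.ex x hx) (add_one_dvd_cube q)⟩
    · have h9 : R.count μ = 1 := by omega
      rcases hd.pow hq0 with h7 | h7
      · right; right; left
        exact bd_full hq h hd (by omega) (by omega) h7
      · right; right; right; right; right; right; right; left
        refine ⟨μ, hd, ?_, h7⟩
        have := full hq h hd (by omega)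
        rw [h9, one_smul] at this
        exact this
  · push Not at hbig
    have hd2 : ∀ x ∈ R, ∀ d, IsMin q x d → d ≤ 2 := fun x hx d hd => by
      have := hbig x hx d hd; omega
    by_cases hcnt : ∀ x, R.count x ≤ 1
    · right; right; left
      refine ⟨hcnt, fun x hx => ?_⟩
      obtain ⟨d, hd⟩ := exists_isMin hq h hx
      have h1 := hd2 x hx d hd
      have h2 := hd.pos
      rcases (by omega : d = 1 ∨ d = 2) with rfl | rfl
      · exact pow_dvd (hd.pow_one hq0) (sq_sub_dvd q)
      · rcases hd.pow hq0 with h4 | h4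
        · exact pow_dvd h4 (sq_sub_dvd q)
        · exact pow_dvd h4 (sq_add_dvd q)
    · push Not at hcnt
      obtain ⟨μ, hμ1⟩ := hcnt
      have hμ : μ ∈ R := Multiset.one_le_count_iff_mem.1 (by omega)
      obtain ⟨d, hd⟩ := exists_isMin hq h hμ
      have h2 := dm_le hq h hd
      have h3 := hd2 μ hμ d hd
      have h3' := hd.pos
      right; right; right
      rcases (by omega : d = 1 ∨ d = 2) with rfl | rfl
      · rcases (by omega : R.count μ = 2 ∨ R.count μ = 3 ∨ R.count μ = 4) with h6 | h6 | h6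
        · obtain ⟨R', g3, g4, g5, g6, g7⟩ := peel hq h hd
          by_cases hex : ∃ ν ∈ R', IsMin q ν 2 ∧ ν ^ (q ^ 2 + 1) = 1
          · obtain ⟨ν, hνR, hν, hν1⟩ := hex
            right; right; right; right; right
            have k1 := dm_le hq g4 hν
            have k2 : 1 ≤ R'.count ν := Multiset.one_le_count_iff_mem.2 hνR
            have k3 : R'.count ν = 1 := by omega
            have k4 := full hq g4 hν (by omega)
            rw [k3] at k4
            rw [h6, k4] at g3
            refine ⟨ν, μ, 2, 2, rfl, by norm_num, by norm_num, ⟨2, 1, 1, 2, hν, hd, ?_, rfl, rfl⟩, hν1,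
              hd.pow_one hq0⟩
            rw [add_comm]; exact g3
          · right; left
            refine bd_peel hq h g5 g6 (by omega) (hd.pow_one hq0) ⟨fun x => by have := cnt_le hq g4 x; omega, ?_⟩
            intro x hx
            obtain ⟨d, hdx⟩ := exists_isMin hq g4 hx
            have h1 := hd2 x ((g5 x).1 hx).1 d hdx
            have h2 := hdx.pos
            rcases (by omega : d = 1 ∨ d = 2) with rfl | rfl
            · exact hdx.pow_one hq0
            · rcases hdx.pow hq0 with h4 | h4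
              · exact h4
              · exact absurd ⟨x, hx, hdx, h4⟩ hex
        · obtain ⟨R', g3, g4, g5, g6, g7⟩ := peel hq h hd
          obtain ⟨ν, hν, g8, -, h10⟩ := rem2 hq hq0 g4 (by omega)
          rw [h6, g8] at g3
          rcases hd.pow hq0 with h7 | h7 <;> rw [_root_.pow_one] at h7
          · rcases h10 with ⟨h11, h10⟩ | ⟨h11, h10⟩
            · right; right; left
              exact bd_peel hq h g5 g6 (by omega) h7 ⟨fun x => by have := h10.cnt x; omega, h10.ex⟩
            · right; right; right; right; right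
              refine ⟨ν, μ, 1, 3, rfl, le_rfl, by norm_num, ⟨1, 1, 1, 3, hν, hd, ?_, rfl, rfl⟩, ?_,
                pow_dvd h7 (sub_one_dvd q 3)⟩
              · rw [add_comm]; exact g3
              · rw [_root_.pow_one]; exact h11
          · rcases h10 with ⟨h11, h10⟩ | ⟨h11, h10⟩
            · right; right; right; right; right
              refine ⟨μ, ν, 3, 1, rfl, by norm_num, le_rfl, ⟨1, 1, 3, 1, hd, hν, ?_, rfl, rfl⟩,
                pow_dvd h7 (add_one_dvd_cube q), ?_⟩
              · exact g3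
              · rw [_root_.pow_one]; exact h11
            · right; right; right; left
              exact bd_peel hq h g5 g6 (by omega) h7 ⟨fun x => by have := h10.cnt x; omega, h10.ex⟩
        · rcases hd.pow hq0 with h7 | h7 <;> rw [_root_.pow_one] at h7
          · right; right; left
            exact bd_full hq h hd (by omega) (by omega) h7
          · right; right; right; left
            exact bd_full hq h hd (by omega) (by omega) h7
      · have h6 : R.count μ = 2 := by omega
        rcases hd.pow hq0 with h7 | h7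
        · right; left
          exact bd_full hq h hd (by omega) (by omega) h7
        · left
          exact bd_full hq h hd (by omega) (by omega) h7

end Cfsg.Agent.H342.O8
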