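import Mathlib
import Cfsg.Agent.H342.O8Enum
import Cfsg.Agent.H342.O8Dim
import Cfsg.Agent.H377.RowSplit

/-!
# Excluded root multisets for the form of plus type in dimension eight (helper342)

`no_bad`, `no_bad4` : the root multisets of `O8Enum` which belong to the form of minus type.
-/

set_option autoImplicit false
set_option linter.unusedSectionVars false

namespace Cfsg.Agent.H342.O8

open QuadraticMap Module
open Cfsg.Agent.LieClassical.OrthCore
open Cfsg.Agent.H160.QRoots hiding Inv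
open Cfsg.Agent.H160.QChar
open Cfsg.Agent.H377 Cfsg.Agent.H377.Fpf
open Cfsg.Agent.H182.Cent (Inv SForm perp IsoP NonDeg fixS mem_fixS mem_perp resE resE_pow)

theorem orb_pow_iff {K : Type*} [Field K] [DecidableEq K] {q : ℕ} (hq : Function.Injective (fun x : K => x ^ q))
    {μ x : K} {d : ℕ} (hx : x ∈ orb q μ d) (n : ℕ) : x ^ n = 1 ↔ μ ^ n = 1 := by
  have key : ∀ i, (μ ^ (q ^ i)) ^ n = 1 ↔ μ ^ n = 1 := by
    intro i
    rw [← pow_mul, mul_comm, pow_mul]
    constructor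
    · intro h
      apply inj_pow hq i
      change (μ ^ n) ^ (q ^ i) = 1 ^ (q ^ i)
      rw [h, one_pow]
    · intro h
      rw [h, one_pow]
  obtain ⟨i, _, rfl | rfl⟩ := mem_orb.1 hx
  · exact key i
  · rw [inv_pow, inv_eq_one]
    exact key i

/-- coprimality -/
theorem coprime_aux {q a b : ℕ} (hq : Even q) (hq0 : 0 < q) (hab : a + b = 4) (ha : 1 ≤ a) (hb : 1 ≤ b) :
    Nat.Coprime (q ^ a + 1) (q ^ b - 1) := by
  have hodd : ∀ n, 1 ≤ n → Odd (q ^ n + 1) := fun n hn => Even.add_one (hq.pow_of_ne_zero (by omega))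
  apply Nat.Coprime.symm
  apply Nat.coprime_of_dvd
  intro p hp h1 h2
  have h3 : p ∣ 2 := by
    have h1z : (p : ℤ) ∣ (q : ℤ) ^ b - 1 := by
      have : ((q ^ b - 1 : ℕ) : ℤ) = (q : ℤ) ^ b - 1 := by
        rw [Nat.cast_sub (Nat.one_le_pow _ _ hq0)]; push_cast; ring
      rw [← this]
      exact_mod_cast h1
    have h2z : (p : ℤ) ∣ (q : ℤ) ^ a + 1 := by exact_mod_cast h2
    have h4 : (p : ℤ) ∣ 2 := by
      rcases (by omega : a = 1 ∧ b = 3 ∨ a = 2 ∧ b = 2 ∨ a = 3 ∧ b = 1) with ⟨rfl, rfl⟩ | ⟨rfl, rfl⟩ | ⟨rfl, rfl⟩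
      · have : (2 : ℤ) = ((q : ℤ) ^ 1 + 1) * ((q : ℤ) ^ 2 - q + 1) - ((q : ℤ) ^ 3 - 1) := by ring
        rw [this]
        exact dvd_sub (dvd_mul_of_dvd_left h2z _) h1z
      · have : (2 : ℤ) = ((q : ℤ) ^ 2 + 1) - ((q : ℤ) ^ 2 - 1) := by ring
        rw [this]
        exact dvd_sub h2z h1z
      · have : (2 : ℤ) = ((q : ℤ) ^ 3 + 1) - ((q : ℤ) ^ 1 - 1) * ((q : ℤ) ^ 2 + q + 1) := by ring
        rw [this]
        exact dvd_sub h2z (dvd_mul_of_dvd_left h1z _)
    exact_mod_cast h4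
  have h4 : p = 2 := (Nat.prime_dvd_prime_iff_eq hp Nat.prime_two).1 h3
  subst h4
  exact (Nat.not_even_iff_odd.2 (hodd a ha)) (even_iff_two_dvd.2 h2)

theorem not_dvd_aux {e r f : ℕ} (hr : r.Prime) (hre : r ∣ e) (he : 0 < e) (hr2 : r ≠ 2) (hf : ¬ r ∣ f) :
    ¬ e ∣ 8 * (e / r) * f := by
  obtain ⟨k, rfl⟩ := hre
  rw [Nat.mul_div_cancel_left _ hr.pos]
  intro h
  have hk : 0 < k := Nat.pos_of_mul_pos_left he
  have h1 : r ∣ 8 * f := by
    have : k * r ∣ k * (8 * f) := by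
      rw [mul_comm k r, show k * (8 * f) = 8 * k * f by ring]
      exact h
    exact Nat.dvd_of_mul_dvd_mul_left hk this
  rcases (Nat.Prime.dvd_mul hr).1 h1 with h2 | h2
  · have h3 : r ∣ 2 ^ 3 := by simpa using h2
    exact hr2 ((Nat.prime_dvd_prime_iff_eq hr Nat.prime_two).1 (hr.dvd_of_dvd_pow h3))
  · exact hf h2

section

variable {F : Type*} [Field F] [Fintype F] [CharP F 2] {V : Type*} [AddCommGroup V] [Module F V] [Finite V]
  [FiniteDimensional F V] {Q : QuadraticForm F V} {T : V →ₗ[F] V}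

theorem cast_ne {r : ℕ} (hr : r.Prime) (hr2 : r ≠ 2) : (r : F) ≠ 0 := by
  intro h
  rw [CharP.cast_eq_zero_iff F 2] at h
  exact hr2 ((Nat.prime_dvd_prime_iff_eq Nat.prime_two hr).1 h).symm

open Classical in
theorem card_even : Even (Fintype.card F) := by
  obtain ⟨n, -, hn⟩ := FiniteField.card F 2
  rw [hn]
  exact even_two.pow_of_ne_zero n.ne_zero

theorem pow_fix_gcd {m n : ℕ} {v : V} (h1 : (T ^ m) v = v) (h2 : (T ^ n) v = v) : (T ^ (Nat.gcd m n)) v = v := by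
  have h3 : Function.IsPeriodicPt T m v := by
    rw [Function.IsPeriodicPt, Function.IsFixedPt, iterate_eq]; exact h1
  have h4 : Function.IsPeriodicPt T n v := by
    rw [Function.IsPeriodicPt, Function.IsFixedPt, iterate_eq]; exact h2
  have h5 := h3.gcd h4
  rwa [Function.IsPeriodicPt, Function.IsFixedPt, iterate_eq] at h5

theorem isom_pow (hT : ∀ v, Q (T v) = Q v) (n : ℕ) (v : V) : Q ((T ^ n) v) = Q v := by
  induction n generalizing v with
  | zero => rfl
  | succ n ih => rw [pow_succ, Module.End.mul_apply, ih, hT]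

open Classical in
/-- **The excluded multisets with two kinds of roots.** -/
theorem no_bad (hQ : Nondeg Q) (hs : HasSign (⇑Q) 4 1) (hV : finrank F V = 8) (hT : ∀ v, Q (T v) = Q v)
    {μ ν : AlgebraicClosure F} {a b : ℕ} (hab : a + b = 4) (ha : 1 ≤ a) (hb : 1 ≤ b)
    (hbad : Bad (Fintype.card F) (rts T) μ ν a b) : False := by
  have hp2 : Fact (Nat.Prime 2) := ⟨Nat.prime_two⟩
  set q := Fintype.card F with hqdef
  have hq0 : 0 < q := Fintype.card_pos
  have hqe : Even q := card_even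
  have hq := frob_inj F
  obtain ⟨⟨d, d', c, c', hμ, hν, hR, hca, hcb⟩, hμ1, hν1⟩ := hbad
  set eA := orderOf μ with heA
  set eB := orderOf ν with heB
  have hA1 : eA ∣ q ^ a + 1 := orderOf_dvd_of_pow_eq_one hμ1
  have hB1 : eB ∣ q ^ b - 1 := orderOf_dvd_of_pow_eq_one hν1
  have hqb : 0 < q ^ b - 1 := by
    have h1 : 2 ≤ q := Fintype.one_lt_card
    have h2 : 2 ^ b ≤ q ^ b := Nat.pow_le_pow_left h1 b
    have h3 : 2 ^ 1 ≤ 2 ^ b := Nat.pow_le_pow_right (by norm_num) hb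
    omega
  have hA0 : 0 < eA := Nat.pos_of_dvd_of_pos hA1 (Nat.succ_pos _)
  have hB0 : 0 < eB := Nat.pos_of_dvd_of_pos hB1 hqb
  have hcop : Nat.Coprime eA eB :=
    (coprime_aux hqe hq0 hab ha hb).coprime_dvd_left hA1 |>.coprime_dvd_right hB1
  have hAne : eA ≠ 1 := by
    intro h
    rw [heA, orderOf_eq_one_iff] at h
    exact hμ.ne1 (by rw [h, inv_one])
  have hBne : eB ≠ 1 := by
    intro h
    rw [heB, orderOf_eq_one_iff] at h
    exact hν.ne1 (by rw [h, inv_one])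
  have hAodd : Odd eA := by
    have h1 : Odd (q ^ a + 1) := Even.add_one (hqe.pow_of_ne_zero (by omega))
    exact h1.of_dvd_nat hA1
  have hBodd : Odd eB := by
    have h1 : Odd (q ^ b - 1) := by
      have := hqe.pow_of_ne_zero (n := b) (by omega)
      exact Nat.Even.sub_odd (Nat.one_le_pow _ _ hq0) this odd_one
    exact h1.of_dvd_nat hB1
  set r := eA.minFac with hr
  set s := eB.minFac with hsd
  have hrp : r.Prime := Nat.minFac_prime hAne
  have hsp : s.Prime := Nat.minFac_prime hBne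
  have hrA : r ∣ eA := Nat.minFac_dvd _
  have hsB : s ∣ eB := Nat.minFac_dvd _
  have hr2 : r ≠ 2 := by
    intro h
    rw [h] at hrA
    exact (Nat.not_even_iff_odd.2 hAodd) (even_iff_two_dvd.2 hrA)
  have hs2 : s ≠ 2 := by
    intro h
    rw [h] at hsB
    exact (Nat.not_even_iff_odd.2 hBodd) (even_iff_two_dvd.2 hsB)
  have hrB : ¬ r ∣ eB := fun h => hrp.one_lt.ne' (Nat.eq_one_of_dvd_coprimes hcop hrA h)
  have hsA : ¬ s ∣ eA := fun h => hsp.one_lt.ne' (Nat.eq_one_of_dvd_coprimes hcop h hsB)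
  set M1 := 8 * (eA / r) * eB with hM1
  set M2 := 8 * (eB / s) * eA with hM2
  have hM1r : M1 * r = eA * eB * 2 ^ 3 := by
    obtain ⟨k, hk⟩ := hrA
    rw [hM1, hk, Nat.mul_div_cancel_left _ hrp.pos]
    ring
  have hM2s : M2 * s = eA * eB * 2 ^ 3 := by
    obtain ⟨k, hk⟩ := hsB
    rw [hM2, hk, Nat.mul_div_cancel_left _ hsp.pos]
    ring
  -- the roots
  have hmem : ∀ x ∈ rts T, x ∈ orb q μ d ∨ x ∈ orb q ν d' := by
    intro x hx
    rw [hR, Multiset.mem_add] at hx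
    rcases hx with hx | hx
    · exact Or.inl (Multiset.mem_of_mem_nsmul hx)
    · exact Or.inr (Multiset.mem_of_mem_nsmul hx)
  have hxμ : ∀ x ∈ orb q μ d, ∀ n, x ^ n = 1 ↔ eA ∣ n := fun x hx n => by
    rw [orb_pow_iff hq hx n, heA, orderOf_dvd_iff_pow_eq_one]
  have hxν : ∀ x ∈ orb q ν d', ∀ n, x ^ n = 1 ↔ eB ∣ n := fun x hx n => by
    rw [orb_pow_iff hq hx n, heB, orderOf_dvd_iff_pow_eq_one]
  have hbd : Bd (rts T) 8 (eA * eB) := by
    constructor
    · intro x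
      calc (rts T).count x ≤ (rts T).card := Multiset.count_le_card _ _
        _ = 8 := by rw [card_rts, hV]
    · intro x hx
      rcases hmem x hx with hx | hx
      · exact (hxμ x hx _).2 (dvd_mul_right _ _)
      · exact (hxν x hx _).2 (dvd_mul_left _ _)
  have hT1 : T ^ (eA * eB * 2 ^ 3) = 1 := pow_eq_one_of_bd (p := 2) hbd (by norm_num)
  have hA_M1 : ¬ eA ∣ M1 := not_dvd_aux hrp hrA hA0 hr2 hrB
  have hB_M2 : ¬ eB ∣ M2 := not_dvd_aux hsp hsB hB0 hs2 hsA
  have hB_M1 : eB ∣ M1 := dvd_mul_left _ _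
  -- the dimension of the fixed space of `z = T ^ M1`
  set z := T ^ M1 with hz
  have hzr : z ^ r = 1 := by rw [hz, ← pow_mul, hM1r, hT1]
  have hdim : finrank F (fixS z) = 2 * b := by
    have h1 := finrank_ker_pow (F := F) (g := T) (M := M1) (r := r) (cast_ne hrp hr2) (by rw [hM1r, hT1])
    rw [h1, hR, Multiset.filter_add, Multiset.card_add]
    have h2 : (c • (orb q μ d).val).filter (fun x => x ^ M1 = 1) = 0 := by
      rw [Multiset.filter_eq_nil]
      intro x hx h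
      exact hA_M1 ((hxμ x (Multiset.mem_of_mem_nsmul hx) _).1 h)
    have h3 : (c' • (orb q ν d').val).filter (fun x => x ^ M1 = 1) = c' • (orb q ν d').val := by
      rw [Multiset.filter_eq_self]
      intro x hx
      exact (hxν x (Multiset.mem_of_mem_nsmul hx) _).2 hB_M1
    rw [h2, h3, Multiset.card_zero, zero_add, Multiset.card_nsmul, Finset.card_val, card_orb hq hν]
    rw [← hcb]; ring
  have hz1 : z ≠ 1 := by
    intro h
    have h1 : finrank F (fixS z) = 8 := by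
      rw [h, fixS, sub_self, LinearMap.ker_zero, finrank_top, hV]
    omega
  have hI : IsoQ Q z r := ⟨hQ, isom_pow hT _, hrp, hr2, hzr, cast_ne hrp hr2, hz1⟩
  have hY : finrank F (IsoP.Y (sform Q) z) = 2 * a := by
    have := hI.isoP.finrank_add
    omega
  obtain ⟨εY, hεY, hsY⟩ := exists_sign (Q.comp (IsoP.Y (sform Q) z).subtype) (nondeg_comp hI.isoP.nonDegY) hY
  obtain ⟨εC, hεC, hsC⟩ := exists_sign (Q.comp (fixS z).subtype) (nondeg_comp hI.isoP.compl.1) hdim
  have h1 := hI.dvd_sign hI.isoP.invY (fun z hz => hI.isoP.fixY hz) hsY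
  have hqN : (Nat.card F : ℤ) = (q : ℤ) := by rw [Nat.card_eq_fintype_card]
  have h2 : εY = -1 := by
    refine sign_unique hrp hr2 hεY (Or.inr rfl) h1 ?_
    rw [hqN]
    have h3 : (r : ℤ) ∣ (q : ℤ) ^ a + 1 := by exact_mod_cast hrA.trans hA1
    have h4 : (-1 : ℤ) * (q : ℤ) ^ a - 1 = -((q : ℤ) ^ a + 1) := by ring
    rw [h4]
    exact (dvd_neg).2 h3
  -- `z2 = T ^ M2`
  set z2 := T ^ M2 with hz2
  have hz2s : z2 ^ s = 1 := by rw [hz2, ← pow_mul, hM2s, hT1]
  have hinv : Inv z2 (fixS z) := by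
    intro v hv
    rw [mem_fixS] at hv ⊢
    have h3 : z * z2 = z2 * z := by rw [hz, hz2, ← pow_add, ← pow_add, add_comm]
    have h4 : (z * z2) v = (z2 * z) v := by rw [h3]
    rw [Module.End.mul_apply, Module.End.mul_apply, hv] at h4
    exact h4
  have hfix : ∀ v ∈ fixS z, z2 v = v → v = 0 := by
    intro v hv h3
    rw [mem_fixS] at hv
    have h4 := pow_fix_gcd hv h3
    refine no_fixed (F := F) (g := T) (n := Nat.gcd M1 M2) ?_ h4
    intro x hx h5
    have h6 : x ^ M1 = 1 := pow_dvd h5 (Nat.gcd_dvd_left _ _)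
    have h7 : x ^ M2 = 1 := pow_dvd h5 (Nat.gcd_dvd_right _ _)
    rcases hmem x hx with hx | hx
    · exact hA_M1 ((hxμ x hx _).1 h6)
    · exact hB_M2 ((hxν x hx _).1 h7)
  have hz21 : z2 ≠ 1 := by
    intro h
    have h3 : fixS z = ⊥ := by
      rw [Submodule.eq_bot_iff]
      intro v hv
      exact hfix v hv (by rw [h]; rfl)
    rw [h3, finrank_bot] at hdim
    omega
  have hI2 : IsoQ Q z2 s := ⟨hQ, isom_pow hT _, hsp, hs2, hz2s, cast_ne hsp hs2, hz21⟩
  have h3 := hI2.dvd_sign hinv hfix hsC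
  have h4 : εC = 1 := by
    refine sign_unique hsp hs2 hεC (Or.inl rfl) h3 ?_
    rw [hqN]
    have h5 : (s : ℤ) ∣ ((q ^ b - 1 : ℕ) : ℤ) := by exact_mod_cast hsB.trans hB1
    have h6 : ((q ^ b - 1 : ℕ) : ℤ) = 1 * (q : ℤ) ^ b - 1 := by
      rw [Nat.cast_sub (Nat.one_le_pow _ _ hq0)]; push_cast; ring
    rwa [h6] at h5
  have h5 := (sign_split (Q := Q) hI.isoP.compl.2 (fun c hc y hy => by
    rw [polar_comm]
    exact hy c hc) hs hsC hsY (Or.inl rfl) hεC hεY).1
  rw [h2, h4] at h5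
  norm_num at h5

open Classical in
/-- **The excluded orbit of length eight.** -/
theorem no_bad4 (hQ : Nondeg Q) (hs : HasSign (⇑Q) 4 1) (hV : finrank F V = 8) (hT : ∀ v, Q (T v) = Q v)
    {μ : AlgebraicClosure F} (hμ : IsMin (Fintype.card F) μ 4) (hR : rts T = (orb (Fintype.card F) μ 4).val)
    (hμ1 : μ ^ (Fintype.card F ^ 4 + 1) = 1) : False := by
  have hp2 : Fact (Nat.Prime 2) := ⟨Nat.prime_two⟩
  set q := Fintype.card F with hqdef
  have hq0 : 0 < q := Fintype.card_pos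
  have hqe : Even q := card_even
  have hq := frob_inj F
  set eA := orderOf μ with heA
  have hA1 : eA ∣ q ^ 4 + 1 := orderOf_dvd_of_pow_eq_one hμ1
  have hA0 : 0 < eA := Nat.pos_of_dvd_of_pos hA1 (Nat.succ_pos _)
  have hAne : eA ≠ 1 := by
    intro h
    rw [heA, orderOf_eq_one_iff] at h
    exact hμ.ne1 (by rw [h, inv_one])
  have hAodd : Odd eA := by
    have h1 : Odd (q ^ 4 + 1) := Even.add_one (hqe.pow_of_ne_zero (by omega))
    exact h1.of_dvd_nat hA1
  set r := eA.minFac with hr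
  have hrp : r.Prime := Nat.minFac_prime hAne
  have hrA : r ∣ eA := Nat.minFac_dvd _
  have hr2 : r ≠ 2 := by
    intro h
    rw [h] at hrA
    exact (Nat.not_even_iff_odd.2 hAodd) (even_iff_two_dvd.2 hrA)
  set M1 := 8 * (eA / r) * 1 with hM1
  have hM1r : M1 * r = eA * 2 ^ 3 := by
    obtain ⟨k, hk⟩ := hrA
    rw [hM1, hk, Nat.mul_div_cancel_left _ hrp.pos]
    ring
  have hxμ : ∀ x ∈ orb q μ 4, ∀ n, x ^ n = 1 ↔ eA ∣ n := fun x hx n => by
    rw [orb_pow_iff hq hx n, heA, orderOf_dvd_iff_pow_eq_one]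
  have hbd : Bd (rts T) 8 eA := by
    constructor
    · intro x
      calc (rts T).count x ≤ (rts T).card := Multiset.count_le_card _ _
        _ = 8 := by rw [card_rts, hV]
    · intro x hx
      rw [hR] at hx
      exact (hxμ x hx _).2 dvd_rfl
  have hT1 : T ^ (eA * 2 ^ 3) = 1 := pow_eq_one_of_bd (p := 2) hbd (by norm_num)
  have hA_M1 : ¬ eA ∣ M1 := not_dvd_aux hrp hrA hA0 hr2 (fun h => hrp.one_lt.ne' (Nat.dvd_one.1 h))
  set z := T ^ M1 with hz
  have hzr : z ^ r = 1 := by rw [hz, ← pow_mul, hM1r, hT1]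
  have h1 := dvd_sub_one hs hrp z (fun v => by rw [iterate_eq, hzr]; rfl) (fun v => isom_pow hT _ v) 0
    (QuadraticMap.map_zero _) (map_zero _) (by
      intro v hv
      refine no_fixed (F := F) (g := T) (n := M1) ?_ hv
      intro x hx h5
      rw [hR] at hx
      exact hA_M1 ((hxμ x hx _).1 h5))
  have h3 : (r : ℤ) ∣ (q : ℤ) ^ 4 + 1 := by exact_mod_cast hrA.trans hA1
  have hqN : (Nat.card F : ℤ) = (q : ℤ) := by rw [Nat.card_eq_fintype_card]
  rw [hqN] at h1
  have h4 : (1 : ℤ) = -1 := by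
    refine sign_unique hrp hr2 (Or.inl rfl) (Or.inr rfl) h1 ?_
    have h4 : (-1 : ℤ) * (q : ℤ) ^ 4 - 1 = -((q : ℤ) ^ 4 + 1) := by ring
    rw [h4]
    exact (dvd_neg).2 h3
  norm_num at h4

end

end Cfsg.Agent.H342.O8
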