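import Mathlib
import Cfsg.Agent.H342.O8Dim

/-!
# The unipotent part of an element of `Ω` in characteristic two (helper342)

`uni` : all roots different from one simple, all fixed spaces of powers of even dimension (Dickson): bounds for the
order of the unipotent part.
-/

set_option autoImplicit false
set_option linter.unusedSectionVars false

namespace Cfsg.Agent.H342.O8

open Module Polynomial
open Cfsg.Agent.H160.QRoots Cfsg.Agent.H160.QChar

variable {F : Type*} [Field F] {V : Type*} [AddCommGroup V] [Module F V] [FiniteDimensional F V]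

theorem drop {w : V →ₗ[F] V} (hw : IsNilpotent w) {S : Submodule F V} (hS : S.map w ≤ S) :
    finrank F (S.map w) ≤ finrank F S - 1 := by
  by_contra hcon
  push Not at hcon
  have h1 := Submodule.finrank_mono hS
  have h2 : finrank F (S.map w) = finrank F S := by omega
  have h3 : S.map w = S := Submodule.eq_of_le_of_finrank_eq hS h2
  obtain ⟨n, hn⟩ := hw
  have h4 : ∀ i : ℕ, S.map (w ^ i) = S := by
    intro i
    induction i with
    | zero => rw [pow_zero]; exact Submodule.map_id S
    | succ i ih =>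
      rw [pow_succ', Module.End.mul_eq_comp, Submodule.map_comp, ih, h3]
  have h5 := h4 n
  rw [hn, Submodule.map_zero] at h5
  rw [← h5, Submodule.map_bot, finrank_bot] at hcon
  omega

variable [CharP F 2]

theorem sub_pow_two_pow (T : V →ₗ[F] V) (n : ℕ) : (T - 1) ^ 2 ^ n = T ^ 2 ^ n - 1 := by
  by_cases hV : Nontrivial V
  · have : CharP (Module.End F V) 2 := charP_of_injective_algebraMap
      (FaithfulSMul.algebraMap_injective F (Module.End F V)) 2
    have : Fact (Nat.Prime 2) := ⟨Nat.prime_two⟩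
    have h1 := sub_pow_char_pow_of_commute 2 n (Commute.one_right T)
    rw [h1, one_pow]
  · have := not_nontrivial_iff_subsingleton.1 hV
    ext v
    exact Subsingleton.elim _ _

theorem odd_cast_ne {N : ℕ} (hN : Odd N) : (N : F) ≠ 0 := by
  intro h
  rw [CharP.cast_eq_zero_iff F 2] at h
  exact (Nat.not_even_iff_odd.2 hN) (even_iff_two_dvd.2 h)

open Classical in
theorem mul_eq_zero_of {T : V →ₗ[F] V} (hV : finrank F V = 8) {N : ℕ} (hN : 0 < N)
    (h : ∀ x ∈ rts T, x ≠ 1 → x ^ N = 1 ∧ (rts T).count x ≤ 1) : (T ^ 8 - 1) * (T ^ N - 1) = 0 := by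
  have h1 : T.charpoly ∣ (X - 1) ^ 8 * (X ^ N - 1) := by
    rw [← Polynomial.map_dvd_map' (algebraMap F (AlgebraicClosure F)), eq_prod, Polynomial.map_mul,
      Polynomial.map_pow, Polynomial.map_sub, Polynomial.map_sub, Polynomial.map_pow, Polynomial.map_X,
      Polynomial.map_one]
    have hN1 : (X ^ N - 1 : (AlgebraicClosure F)[X]) ≠ 0 := by
      have := (Polynomial.monic_X_pow_sub_C (1 : AlgebraicClosure F) hN.ne').ne_zero
      rwa [C_1] at this
    have hX : (X - 1 : (AlgebraicClosure F)[X]) ≠ 0 := by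
      have := Polynomial.X_sub_C_ne_zero (1 : AlgebraicClosure F)
      rwa [C_1] at this
    have hne : ((X - 1 : (AlgebraicClosure F)[X]) ^ 8 * (X ^ N - 1)) ≠ 0 := mul_ne_zero (pow_ne_zero _ hX) hN1
    rw [Multiset.prod_X_sub_C_dvd_iff_le_roots hne, roots_mul hne, roots_pow, Multiset.le_iff_count]
    intro x
    rw [Multiset.count_add, Multiset.count_nsmul]
    by_cases hx : x ∈ rts T
    · by_cases hx1 : x = 1
      · have h3 : (X - 1 : (AlgebraicClosure F)[X]).roots.count x = 1 := by
          rw [← C_1, roots_X_sub_C, hx1, Multiset.count_singleton_self]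
        rw [h3]
        have h4 : (rts T).count x ≤ 8 := by
          calc (rts T).count x ≤ (rts T).card := Multiset.count_le_card _ _
            _ = 8 := by rw [card_rts, hV]
        omega
      · have h3 : 1 ≤ (X ^ N - 1 : (AlgebraicClosure F)[X]).roots.count x := by
          rw [Multiset.one_le_count_iff_mem, mem_roots hN1, IsRoot.def]
          simp [(h x hx hx1).1]
        have := (h x hx hx1).2
        omega
    · rw [Multiset.count_eq_zero_of_notMem hx]
      exact Nat.zero_le _
  obtain ⟨f, hf⟩ := h1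
  have h2 := congrArg (aeval T) hf
  rw [map_mul, map_mul, LinearMap.aeval_self_charpoly, zero_mul, map_pow, map_sub, map_sub, map_pow, aeval_X,
    map_one] at h2
  have h3 := sub_pow_two_pow T 3
  norm_num at h3
  rw [← h3]
  exact h2

open Classical in
/-- **The unipotent part.** -/
theorem uni {T : V →ₗ[F] V} (hV : finrank F V = 8) {N : ℕ} (hN : Odd N)
    (h : ∀ x ∈ rts T, x ≠ 1 → x ^ N = 1 ∧ (rts T).count x ≤ 1)
    (hD : ∀ M : ℕ, Even (finrank F (LinearMap.ker (T ^ M - 1)))) :
    ((rts T).count 1 ≤ 6 → T ^ (4 * N) = 1) ∧ ((rts T).count 1 ≤ 4 → T ^ (2 * N) = 1) ∧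
      ((rts T).count 1 ≤ 2 → T ^ N = 1) := by
  have hp2 : Fact (Nat.Prime 2) := ⟨Nat.prime_two⟩
  have hN0 : 0 < N := hN.pos
  have hbd : Bd (rts T) 8 N := by
    constructor
    · intro x
      calc (rts T).count x ≤ (rts T).card := Multiset.count_le_card _ _
        _ = 8 := by rw [card_rts, hV]
    · intro x hx
      by_cases hx1 : x = 1
      · rw [hx1, one_pow]
      · exact (h x hx hx1).1
  have hT8 : T ^ (N * 2 ^ 3) = 1 := pow_eq_one_of_bd (p := 2) hbd (by norm_num)
  have hT8' : T ^ (8 * N) = 1 := by rw [mul_comm]; exact hT8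
  set w := T ^ N - 1 with hw
  have hw2 : ∀ n : ℕ, w ^ 2 ^ n = T ^ (2 ^ n * N) - 1 := by
    intro n
    rw [hw, sub_pow_two_pow, ← pow_mul, mul_comm]
  have hwn : IsNilpotent w := ⟨2 ^ 3, by rw [hw2, mul_comm, hT8, sub_self]⟩
  set E := LinearMap.ker (T ^ 8 - 1) with hE
  have hcompl := Cfsg.Agent.H150.isCompl_fix (odd_cast_ne (F := F) hN) (T ^ 8) (by rw [← pow_mul]; exact hT8')
  have hdE : finrank F E = (rts T).count 1 := by
    rw [hE, finrank_ker_pow (F := F) (g := T) (M := 8) (r := N) (odd_cast_ne hN) hT8',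
      Multiset.count_eq_card_filter_eq]
    congr 1
    apply Multiset.filter_congr
    intro x _
    have : CharP (AlgebraicClosure F) 2 :=
      charP_of_injective_algebraMap (algebraMap F (AlgebraicClosure F)).injective 2
    constructor
    · intro h1
      have h2 : (x - 1) ^ 2 ^ 3 = 0 := by
        rw [sub_pow_char_pow, one_pow]
        norm_num
        rw [h1, sub_self]
      have h3 := pow_eq_zero_iff (n := 2 ^ 3) (by norm_num) |>.1 h2
      exact (sub_eq_zero.1 h3).symm
    · rintro rfl
      exact one_pow 8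
  have hz := mul_eq_zero_of hV hN0 h
  have hcomm : (T ^ N - 1) * (T ^ 8 - 1) = (T ^ 8 - 1) * (T ^ N - 1) := by
    have h1 : Commute (T ^ N) (T ^ 8) := (Commute.refl T).pow_pow _ _
    exact ((h1.sub_left (Commute.one_left _)).sub_right
      ((Commute.one_right _)))
  have hrange : LinearMap.range w = E.map w := by
    rw [← Submodule.map_top, ← hcompl.sup_eq_top, Submodule.map_sup]
    have h1 : (LinearMap.range (T ^ 8 - 1)).map w = ⊥ := by
      rw [Submodule.eq_bot_iff]
      rintro _ ⟨_, ⟨v, rfl⟩, rfl⟩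
      have h2 : ((T ^ N - 1) * (T ^ 8 - 1) : Module.End F V) v = 0 := by rw [hcomm, hz]; rfl
      exact h2
    rw [h1, sup_bot_eq]
  have hEw : E.map w ≤ E := by
    rintro _ ⟨v, hv, rfl⟩
    rw [hE, LinearMap.mem_ker]
    have h1 : ((T ^ 8 - 1) * (T ^ N - 1) : Module.End F V) v = 0 := by
      rw [hz]; rfl
    exact h1
  have hr : ∀ i : ℕ, LinearMap.range (w ^ (i + 1)) = (LinearMap.range (w ^ i)).map w := by
    intro i
    rw [pow_succ', Module.End.mul_eq_comp, LinearMap.range_comp]
  have hrle : ∀ i : ℕ, (LinearMap.range (w ^ i)).map w ≤ LinearMap.range (w ^ i) := by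
    intro i
    rw [← hr, pow_succ, Module.End.mul_eq_comp]
    exact LinearMap.range_comp_le_range _ _
  have e1 : finrank F (LinearMap.range (w ^ 1)) ≤ finrank F E - 1 := by
    rw [pow_one, hrange]
    exact drop hwn hEw
  have e2 : ∀ i : ℕ, finrank F (LinearMap.range (w ^ (i + 1))) ≤ finrank F (LinearMap.range (w ^ i)) - 1 := by
    intro i
    rw [hr]
    exact drop hwn (hrle i)
  have hev : ∀ n : ℕ, Even (finrank F (LinearMap.range (w ^ 2 ^ n))) := by
    intro n
    have h1 := LinearMap.finrank_range_add_finrank_ker (w ^ 2 ^ n)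
    have h2 := hD (2 ^ n * N)
    rw [← hw2] at h2
    rw [hV] at h1
    have h3 : Even (finrank F (LinearMap.range (w ^ 2 ^ n)) + finrank F (LinearMap.ker (w ^ 2 ^ n))) := by
      rw [h1]; decide
    exact (Nat.even_add.1 h3).2 h2
  have hzero : ∀ n : ℕ, finrank F (LinearMap.range (w ^ 2 ^ n)) = 0 → T ^ (2 ^ n * N) = 1 := by
    intro n hn
    have h1 := Submodule.finrank_eq_zero.1 hn
    rw [LinearMap.range_eq_bot, hw2, sub_eq_zero] at h1
    exact h1
  have f1 : Even (finrank F (LinearMap.range (w ^ 1))) := hev 0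
  have f2 : Even (finrank F (LinearMap.range (w ^ 2))) := hev 1
  have f4 : Even (finrank F (LinearMap.range (w ^ 4))) := hev 2
  have g2 : finrank F (LinearMap.range (w ^ 2)) ≤ finrank F (LinearMap.range (w ^ 1)) - 1 := e2 1
  have g3 : finrank F (LinearMap.range (w ^ 3)) ≤ finrank F (LinearMap.range (w ^ 2)) - 1 := e2 2
  have g4 : finrank F (LinearMap.range (w ^ 4)) ≤ finrank F (LinearMap.range (w ^ 3)) - 1 := e2 3
  obtain ⟨i, hi⟩ := f1
  obtain ⟨j, hj⟩ := f2
  rw [hdE] at e1
  refine ⟨fun hk => ?_, fun hk => ?_, fun hk => ?_⟩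
  · have h0 : finrank F (LinearMap.range (w ^ 4)) = 0 := by omega
    exact hzero 2 h0
  · have h0 : finrank F (LinearMap.range (w ^ 2)) = 0 := by omega
    exact hzero 1 h0
  · have h0 : finrank F (LinearMap.range (w ^ 1)) = 0 := by omega
    have h1 := hzero 0 h0
    rwa [pow_zero, one_mul] at h1

end Cfsg.Agent.H342.O8
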