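import Mathlib
import Cfsg.Agent.H342.S6Red
import Cfsg.Agent.LFourA.AltPsiAut

/-!
# The simple normal subgroup in the `3`-local characterization of `Sym(6)` (S3333)

`KHyp K`: what is known about the simple normal subgroup. `kHyp_of`: it holds. `sym6_of_alt6`: if the simple normal
subgroup is `Alt(6)` then `G ≅ Sym(6)`.
-/

set_option autoImplicit false

namespace Cfsg.Agent.H342.S6K

open Subgroup Cfsg.Agent.H342.S6Loc Cfsg.Agent.H342.S6Red

/-- the properties of the simple normal subgroup -/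
structure KHyp (K : Type*) [Group K] : Prop where
  nine_dvd : 9 ∣ Nat.card K
  not_dvd : ¬ 27 ∣ Nat.card K
  cent : ∀ x : K, orderOf x = 3 → Nat.card (centralizer ({x} : Set K)) ∣ 18
  not_conj : ∃ x y : K, orderOf x = 3 ∧ orderOf y = 3 ∧ ∀ g : K, g * x * g⁻¹ ≠ y
  count : ∃ m s : ℕ, m ∣ 8 ∧ s % 9 = 1 ∧ Nat.card K = 9 * m * s
  no9 : ∀ x : K, orderOf x ≠ 9
  no_fuse : ∀ a b g k : K, orderOf a = 3 → orderOf b = 3 → a * b = b * a → b ∉ zpowers a → g * a * g⁻¹ = b →
    k * a * k⁻¹ = a * b → False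

/-- a free action of a finite group: the order of the group divides the number of points -/
theorem card_dvd_of_free {S X : Type*} [Group S] [Finite S] [MulAction S X] [Finite X]
    (hf : ∀ (x : X) (s : S), s • x = x → s = 1) : Nat.card S ∣ Nat.card X := by
  classical
  cases nonempty_fintype S
  cases nonempty_fintype X
  rw [Nat.card_eq_fintype_card, Nat.card_eq_fintype_card]
  have h1 := MulAction.card_eq_sum_card_group_div_card_stabilizer S X
  rw [h1]
  refine Finset.dvd_sum fun ω _ => ?_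
  have h2 : Fintype.card (MulAction.stabilizer S ω.out) = 1 := by
    rw [Fintype.card_eq_one_iff]
    exact ⟨1, fun s => Subtype.ext (hf _ _ s.2)⟩
  rw [h2, Nat.div_one]

variable {G : Type*} [Group G] {S : Subgroup G} {τ : DihedralGroup 4 →* G}
  {π : normalizer (S : Set G) →* DihedralGroup 4}

/-- the number of conjugates of `S` is one modulo nine -/
theorem index_mod [Finite G] (h : Ctx S τ π) : (normalizer (S : Set G)).index % 9 = 1 := by
  classical
  set N := normalizer (S : Set G) with hN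
  -- the action of `S` on the cosets other than `N`
  let X := {q : G ⧸ N // q ≠ ((1 : G) : G ⧸ N)}
  have hinv : ∀ (s : S) (q : G ⧸ N), q ≠ ((1 : G) : G ⧸ N) → (s : G) • q ≠ ((1 : G) : G ⧸ N) := by
    intro s q hq h1
    apply hq
    have h2 : q = (s : G)⁻¹ • ((1 : G) : G ⧸ N) := by rw [← h1, inv_smul_smul]
    rw [h2]
    change (((s : G)⁻¹ * 1 : G) : G ⧸ N) = ((1 : G) : G ⧸ N)
    rw [QuotientGroup.eq, mul_one, mul_one, inv_inv]
    exact le_normalizer s.2
  let act : MulAction S X :=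
    { smul := fun s q => ⟨(s : G) • q.1, hinv s q.1 q.2⟩
      one_smul := fun q => Subtype.ext (one_smul G q.1)
      mul_smul := fun s t q => Subtype.ext (mul_smul (s : G) (t : G) q.1) }
  have hfree : ∀ (x : X) (s : S), s • x = x → s = 1 := by
    rintro ⟨q, hq⟩ s hs
    have h1 : (s : G) • q = q := congrArg Subtype.val hs
    obtain ⟨g, rfl⟩ := QuotientGroup.mk_surjective q
    have h2 : (((s : G) * g : G) : G ⧸ N) = ((g : G) : G ⧸ N) := h1
    rw [QuotientGroup.eq] at h2
    have h3 : g⁻¹ * (s : G)⁻¹ * g ∈ N := by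
      have : ((s : G) * g)⁻¹ * g = g⁻¹ * (s : G)⁻¹ * g := by group
      rwa [this] at h2
    by_contra hs1
    apply hq
    have hs1' : (s : G)⁻¹ ≠ 1 := fun h4 => hs1 (Subtype.ext (inv_eq_one.1 h4))
    have h4 : g⁻¹ * (s : G)⁻¹ * (g⁻¹)⁻¹ ∈ S := by
      rw [inv_inv]
      refine h.mem_of_pow h3 (k := 1) ?_
      have h5 : g⁻¹ * (s : G)⁻¹ * g = g⁻¹ * (s : G)⁻¹ * (g⁻¹)⁻¹ := by rw [inv_inv]
      rw [h5, conj_pow, pow_one, h.cube (inv_mem s.2), mul_one, mul_inv_cancel]
    have h5 := h.mem_normalizer_of_conj (inv_mem s.2) hs1' h4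
    rw [QuotientGroup.eq, mul_one]
    exact h5
  have := h.finiteS
  have hdvd : Nat.card S ∣ Nat.card X := card_dvd_of_free (S := S) (X := X) hfree
  have hX : Nat.card X + 1 = N.index := by
    have h1 : N.index = Nat.card (G ⧸ N) := rfl
    rw [h1]
    cases nonempty_fintype (G ⧸ N)
    rw [Nat.card_eq_fintype_card, Nat.card_eq_fintype_card, Fintype.card_subtype_compl,
      Fintype.card_subtype_eq]
    have : 0 < Fintype.card (G ⧸ N) := Fintype.card_pos
    omega
  rw [h.card] at hdvd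
  omega

/-- conjugation invariance of the centralizer order -/
theorem card_centralizer_conj (x g : G) :
    Nat.card (centralizer ({g * x * g⁻¹} : Set G)) = Nat.card (centralizer ({x} : Set G)) := by
  refine Nat.card_congr
    { toFun := fun y => ⟨g⁻¹ * y * g, mem_centralizer_singleton_iff.2 ?_⟩
      invFun := fun y => ⟨g * y * g⁻¹, mem_centralizer_singleton_iff.2 ?_⟩
      left_inv := fun y => Subtype.ext (by simp [mul_assoc])
      right_inv := fun y => Subtype.ext (by simp [mul_assoc]) }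
  · have h1 := mem_centralizer_singleton_iff.1 y.2
    calc g⁻¹ * (y : G) * g * x = g⁻¹ * ((y : G) * (g * x * g⁻¹)) * g := by group
      _ = x * (g⁻¹ * y * g) := by rw [h1]; group
  · have h1 := mem_centralizer_singleton_iff.1 y.2
    calc g * (y : G) * g⁻¹ * (g * x * g⁻¹) = g * ((y : G) * x) * g⁻¹ := by group
      _ = g * x * g⁻¹ * (g * y * g⁻¹) := by rw [h1]; group

theorem card_centralizer_of_order [Finite G] (h : Ctx S τ π) (P : Sylow 3 G) (hSP : S = P) {x : G}
    (hx : orderOf x = 3) : Nat.card (centralizer ({x} : Set G)) = 18 := by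
  obtain ⟨g, hg⟩ := exists_conj_mem P hSP hx
  have hg1 : g * (x : G) * g⁻¹ ≠ 1 := by
    intro h1
    rw [mul_inv_eq_one, mul_eq_left] at h1
    rw [h1, orderOf_one] at hx
    omega
  rw [← card_centralizer_conj x g, h.card_centralizer hg hg1]

theorem card_centralizer_dvd [Finite G] (K : Subgroup G) (x : K) :
    Nat.card (centralizer ({x} : Set K)) ∣ Nat.card (centralizer ({(x : G)} : Set G)) := by
  let f : centralizer ({x} : Set K) →* centralizer ({(x : G)} : Set G) :=
    { toFun := fun y => ⟨((y : K) : G), mem_centralizer_singleton_iff.2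
        (congrArg Subtype.val (mem_centralizer_singleton_iff.1 y.2))⟩
      map_one' := rfl
      map_mul' := fun _ _ => rfl }
  refine Subgroup.card_dvd_of_injective f ?_
  intro a b hab
  exact Subtype.ext (Subtype.ext (congrArg (fun z : centralizer ({(x : G)} : Set G) => (z : G)) hab))

theorem card_facts [Finite G] (h : Ctx S τ π) (K : Subgroup G) [K.Normal] (hSK : S ≤ K)
    (P : Sylow 3 G) (hSP : S = P) :
    ∃ m s : ℕ, m ∣ 8 ∧ s % 9 = 1 ∧ Nat.card K = 9 * m * s ∧ Nat.card G = 72 * s := by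
  have : Fact (Nat.Prime 3) := ⟨Nat.prime_three⟩
  set N := normalizer (S : Set G) with hN
  -- the Frattini argument
  have htop : N ⊔ K = ⊤ := by
    have hSyl : ∃ Q : Sylow 3 K, (Q : Subgroup K) = S.subgroupOf K := by
      have h1 : (P : Subgroup G) ≤ K := hSP ▸ hSK
      exact ⟨P.subtype h1, by rw [hSP]; rfl⟩
    obtain ⟨Q, hQ⟩ := hSyl
    have h1 := Sylow.normalizer_sup_eq_top Q
    have h2 : (Q : Subgroup K).map K.subtype = S := by
      rw [hQ, subgroupOf_map_subtype, inf_eq_left]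
      exact hSK
    rw [h2] at h1
    exact h1
  have h1 : K.index = K.relIndex N := by
    have h2 := Subgroup.relIndex_sup_right N K
    rw [htop, relIndex_top_right] at h2
    exact h2
  have h2 : Nat.card (K ⊓ N : Subgroup G) * K.relIndex N = 72 := by
    have h3 := Subgroup.card_mul_index (K.subgroupOf N)
    rw [h.card_normalizer] at h3
    have h4 : Nat.card (K.subgroupOf N) = Nat.card (K ⊓ N : Subgroup G) := by
      rw [← Subgroup.inf_subgroupOf_right]
      exact Nat.card_congr (subgroupOfEquivOfLe inf_le_right).toEquiv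
    rw [h4] at h3
    exact h3
  have h3 : 9 ∣ Nat.card (K ⊓ N : Subgroup G) := by
    rw [← h.card]
    exact Subgroup.card_dvd_of_le (le_inf hSK le_normalizer)
  obtain ⟨m, hm⟩ := h3
  have h4 : Nat.card G = 72 * N.index := by
    rw [← h.card_normalizer]
    exact (Subgroup.card_mul_index N).symm
  refine ⟨m, N.index, ⟨K.relIndex N, ?_⟩, index_mod h, ?_, h4⟩
  · rw [hm] at h2
    have : 9 * (m * K.relIndex N) = 9 * 8 := by rw [← mul_assoc, h2]
    omega
  · have h5 := Subgroup.card_mul_index K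
    rw [h1, h4, ← h2, hm] at h5
    have h6 : 0 < K.relIndex N := by
      rw [Nat.pos_iff_ne_zero]
      intro h7
      rw [h7, mul_zero] at h2
      omega
    refine Nat.eq_of_mul_eq_mul_right h6 ?_
    rw [h5]; ring

theorem kHyp_of [Finite G] (h : Ctx S τ π) (K : Subgroup G) [K.Normal] (hSK : S ≤ K)
    (P : Sylow 3 G) (hSP : S = P) : KHyp K := by
  have : Fact (Nat.Prime 3) := ⟨Nat.prime_three⟩
  obtain ⟨m, s, hm, hs, hK, hG⟩ := card_facts h K hSK P hSP
  refine ⟨⟨m * s, by rw [hK]; ring⟩, ?_, ?_, ?_, ⟨m, s, hm, hs, hK⟩, ?_, ?_⟩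
  · rw [hK]
    rintro ⟨c, hc⟩
    have h1 : m * s = 3 * c := by
      have : 9 * (m * s) = 9 * (3 * c) := by linarith
      omega
    have h2 : 3 ∣ m * s := ⟨c, h1⟩
    rcases (Nat.Prime.dvd_mul Nat.prime_three).1 h2 with h3 | h3
    · have h4 := Nat.dvd_trans h3 hm
      omega
    · omega
  · intro x hx
    have hx' : orderOf (x : G) = 3 := by rw [← hx]; exact orderOf_coe x
    rw [← card_centralizer_of_order h P hSP hx']
    exact card_centralizer_dvd K x
  · -- a nonidentity element of `S`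
    obtain ⟨x, hx, hx1⟩ : ∃ x ∈ S, x ≠ 1 := by
      by_contra hcon
      push Not at hcon
      have h2 : S = ⊥ := (eq_bot_iff_forall S).2 hcon
      have h3 := h.card
      rw [h2, Subgroup.card_bot] at h3
      omega
    obtain ⟨y, hy, hy1, hxy⟩ := h.exists_not_conj hx hx1
    refine ⟨⟨x, hSK hx⟩, ⟨y, hSK hy⟩, ?_, ?_, fun g hg => hxy g (congrArg Subtype.val hg)⟩
    · rw [Subgroup.orderOf_mk]; exact orderOf_eq_prime (h.cube hx) hx1
    · rw [Subgroup.orderOf_mk]; exact orderOf_eq_prime (h.cube hy) hy1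
  · -- no elements of order nine
    intro x hx
    have hx' : orderOf (x : G) = 9 := by rw [← hx]; exact orderOf_coe x
    have hx3 : orderOf ((x : G) ^ 3) = 3 := by
      rw [orderOf_pow_of_dvd (by norm_num) (by rw [hx']; norm_num), hx']
    obtain ⟨g, hg⟩ := exists_conj_mem P hSP hx3
    have hg1 : g * (x : G) ^ 3 * g⁻¹ ≠ 1 := by
      intro h1
      rw [mul_inv_eq_one, mul_eq_left] at h1
      rw [h1, orderOf_one] at hx3
      omega
    have h1 : g * (x : G) * g⁻¹ ∈ normalizer (S : Set G) := by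
      apply h.cle _ hg hg1
      rw [mem_centralizer_singleton_iff, ← conj_pow]
      exact ((Commute.refl (g * (x : G) * g⁻¹)).pow_right 3)
    have h2 : g * (x : G) * g⁻¹ ∈ S := h.mem_of_pow h1 (k := 2) (by
      rw [conj_pow, show 3 ^ 2 = orderOf (x : G) by rw [hx']; norm_num, pow_orderOf_eq_one, mul_one, mul_inv_cancel])
    have h3 := h.cube h2
    rw [conj_pow] at h3
    exact hg1 h3
  · -- fusion
    intro a b g k ha hb hab hba hg hk
    have ha' : orderOf (a : G) = 3 := by rw [← ha]; exact orderOf_coe a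
    have hb' : orderOf (b : G) = 3 := by rw [← hb]; exact orderOf_coe b
    obtain ⟨t, ht⟩ := exists_conj_mem P hSP ha'
    have ht1 : t * (a : G) * t⁻¹ ≠ 1 := by
      intro h1
      rw [mul_inv_eq_one, mul_eq_left] at h1
      rw [h1, orderOf_one] at ha'
      omega
    have hab' : (a : G) * b = b * a := congrArg Subtype.val hab
    have h1 : t * (b : G) * t⁻¹ ∈ normalizer (S : Set G) := by
      apply h.cle _ ht ht1
      rw [mem_centralizer_singleton_iff]
      calc t * (b : G) * t⁻¹ * (t * a * t⁻¹) = t * (b * a) * t⁻¹ := by group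
        _ = t * a * t⁻¹ * (t * b * t⁻¹) := by rw [← hab']; group
    have h2 : t * (b : G) * t⁻¹ ∈ S := h.mem_of_pow h1 (k := 1) (by
      rw [conj_pow, show 3 ^ 1 = orderOf (b : G) by rw [hb']; norm_num, pow_orderOf_eq_one, mul_one, mul_inv_cancel])
    refine h.no_fuse (g := t * g * t⁻¹) (k := t * k * t⁻¹) ht ht1 h2 ?_ ?_ ?_
    · intro hmem
      apply hba
      obtain ⟨n, hn⟩ := mem_zpowers_iff.1 hmem
      rw [conj_zpow] at hn
      have hn' : (a : G) ^ n = b := by
        have := congrArg (fun y => t⁻¹ * y * t) hn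
        simpa [mul_assoc] using this
      exact mem_zpowers_iff.2 ⟨n, Subtype.ext (by rw [Subgroup.coe_zpow]; exact hn')⟩
    · have hg' : (g : G) * a * (g : G)⁻¹ = b := congrArg Subtype.val hg
      rw [← hg']
      group
    · have hk' : (k : G) * a * (k : G)⁻¹ = a * b := congrArg Subtype.val hk
      calc t * (k : G) * t⁻¹ * (t * a * t⁻¹) * (t * k * t⁻¹)⁻¹ = t * (k * a * (k : G)⁻¹) * t⁻¹ := by group
        _ = t * a * t⁻¹ * (t * b * t⁻¹) := by rw [hk']; group

section six

open Equiv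

/-- the alternating group of degree six -/
abbrev A6 := alternatingGroup (Fin 6)

/-- a `3`-cycle -/
def c3 : Perm (Fin 6) := swap 0 1 * swap 1 2

/-- a `5`-cycle -/
def c5 : Perm (Fin 6) := swap 1 2 * swap 2 3 * swap 3 4 * swap 4 5

theorem c3_mem : c3 ∈ alternatingGroup (Fin 6) := Perm.mem_alternatingGroup.2 (by decide)
theorem c5_mem : c5 ∈ alternatingGroup (Fin 6) := Perm.mem_alternatingGroup.2 (by decide)

theorem cent_c3 : ∀ g : Perm (Fin 6), Perm.sign g = 1 → g * c3 = c3 * g → g ^ 3 = 1 := by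
  decide +kernel

theorem cent_two : ∀ g : Perm (Fin 6), g * c3 = c3 * g → g * c5 = c5 * g → g = 1 := by
  decide +kernel

theorem c3_three : c3.IsThreeCycle := by
  rw [← card_support_eq_three_iff]
  decide

/-- conjugation by a permutation on the alternating group -/
noncomputable def ψ : Perm (Fin 6) →* MulAut A6 := MulAut.conjNormal

theorem ψ_apply (σ : Perm (Fin 6)) (x : A6) : ((ψ σ x : A6) : Perm (Fin 6)) = σ * x * σ⁻¹ :=
  MulAut.conjNormal_apply σ x

theorem ψ_injective : Function.Injective ψ := by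
  rw [injective_iff_map_eq_one]
  intro σ hσ
  have h1 : ∀ x : A6, σ * (x : Perm (Fin 6)) = x * σ := by
    intro x
    have h2 := ψ_apply σ x
    rw [hσ] at h2
    have h3 : (x : Perm (Fin 6)) = σ * x * σ⁻¹ := h2
    exact (eq_mul_inv_iff_mul_eq.1 h3).symm
  exact cent_two σ (h1 ⟨c3, c3_mem⟩) (h1 ⟨c5, c5_mem⟩)

open Cfsg.Agent.Lib.AltCarmichael Cfsg.Agent.SporadicRecognition.AltCover in
/-- the Carmichael generators are three-cycles -/
theorem cy_three : ∀ i (hi : i < 4), ((cy 4 i hi : alternatingGroup (Fin 6)) : Perm (Fin 6)).IsThreeCycle := by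
  intro i hi
  rw [← card_support_eq_three_iff]
  have h1 : ((cy 4 i hi : alternatingGroup (Fin 6)) : Perm (Fin 6)) = cyc 4 i := rfl
  rw [h1]
  interval_cases i <;> decide +kernel

/-- all three-cycles are conjugate in the alternating group of degree six -/
theorem exists_conj_three {x y : A6} (hx : (x : Perm (Fin 6)).IsThreeCycle) (hy : (y : Perm (Fin 6)).IsThreeCycle) :
    ∃ k : A6, k * x * k⁻¹ = y := by
  have h1 := alternatingGroup.isThreeCycle_isConj (by simp) hx hy
  obtain ⟨k, hk⟩ := isConj_iff.1 h1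
  exact ⟨k, hk⟩

/-- **if the simple normal subgroup is `Alt(6)` then `G ≅ Sym(6)`** -/
theorem sym6_of_alt6 [Finite G] (h : Ctx S τ π) (K : Subgroup G) [hK : K.Normal] (hSK : S ≤ K)
    (P : Sylow 3 G) (hSP : S = P) (hCK : centralizer (K : Set G) = ⊥) (e : K ≃* A6) :
    Nonempty (G ≃* Perm (Fin 6)) := by
  obtain ⟨m, s, hm, hs, hcK, hcG⟩ := card_facts h K hSK P hSP
  have hcA : Nat.card A6 = 360 := by
    have h1 := two_mul_nat_card_alternatingGroup (α := Fin 6)
    rw [Nat.card_perm, Nat.card_fin] at h1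
    have h2 : (6 : ℕ).factorial = 720 := rfl
    have h3 : Nat.card A6 = Nat.card (alternatingGroup (Fin 6)) := rfl
    omega
  rw [Nat.card_congr e.toEquiv, hcA] at hcK
  have hs10 : s = 10 := by
    have hm' : m = 1 ∨ m = 2 ∨ m = 4 ∨ m = 8 := by
      have := Nat.le_of_dvd (by norm_num) hm
      interval_cases m <;> omega
    rcases hm' with rfl | rfl | rfl | rfl <;> omega
  have hcG' : Nat.card G = 720 := by rw [hcG, hs10]
  have hidx : K.index = 2 := by
    have h1 := K.card_mul_index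
    rw [hcG', Nat.card_congr e.toEquiv, hcA] at h1
    omega
  -- the action on `A6`
  let Φ : G →* MulAut A6 := (MulAut.congr e).toMonoidHom.comp MulAut.conjNormal
  have hΦ : ∀ (g : G) (x : A6), Φ g x = e ⟨g * (e.symm x : K) * g⁻¹, hK.conj_mem _ (e.symm x).2 g⟩ := by
    intro g x
    have h1 : (MulAut.conjNormal g (e.symm x) : K) = ⟨g * (e.symm x : K) * g⁻¹, hK.conj_mem _ (e.symm x).2 g⟩ :=
      Subtype.ext (MulAut.conjNormal_apply g (e.symm x))
    change e (MulAut.conjNormal g (e.symm x)) = _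
    rw [h1]
  have hΦinj : Function.Injective Φ := by
    rw [injective_iff_map_eq_one]
    intro g hg
    have h1 : g ∈ centralizer (K : Set G) := by
      rw [mem_centralizer_iff]
      intro k hk
      have h2 := hΦ g (e ⟨k, hk⟩)
      rw [hg] at h2
      have h3 : e ⟨k, hk⟩ = e ⟨g * (e.symm (e ⟨k, hk⟩) : K) * g⁻¹, hK.conj_mem _ (e.symm (e ⟨k, hk⟩)).2 g⟩ := h2
      have h4 := congrArg Subtype.val (e.injective h3)
      rw [e.symm_apply_apply] at h4
      have h5 : k = g * k * g⁻¹ := h4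
      exact eq_mul_inv_iff_mul_eq.1 h5
    rw [hCK] at h1
    exact mem_bot.1 h1
  -- an element outside `K` centralizing a three-cycle
  set x0 : A6 := ⟨c3, c3_mem⟩ with hx0
  set x : K := e.symm x0 with hx
  have hox : orderOf (x : G) = 3 := by
    have h1 : orderOf (x : G) = orderOf x := orderOf_coe x
    have h2 : orderOf x = orderOf x0 := by rw [hx]; exact MulEquiv.orderOf_eq e.symm x0
    have h3 : orderOf x0 = orderOf c3 := by rw [hx0]; exact Subgroup.orderOf_mk c3 c3_mem
    rw [h1, h2, h3, c3_three.orderOf]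
  have hcx := card_centralizer_of_order h P hSP hox
  obtain ⟨u, huK, hux⟩ : ∃ u : G, u ∉ K ∧ u * x = x * u := by
    by_contra hcon
    push Not at hcon
    have : Fact (Nat.Prime 2) := ⟨Nat.prime_two⟩
    obtain ⟨v, hv⟩ := exists_prime_orderOf_dvd_card' (G := centralizer ({(x : G)} : Set G)) 2
      (by rw [hcx]; norm_num)
    have hvx : (v : G) * x = x * v := mem_centralizer_singleton_iff.1 v.2
    have hvK : (v : G) ∈ K := by
      by_contra hvK
      exact hcon v hvK hvx
    have h1 : e ⟨v, hvK⟩ * x0 = x0 * e ⟨v, hvK⟩ := by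
      have h2 : (⟨v, hvK⟩ : K) * x = x * ⟨v, hvK⟩ := Subtype.ext hvx
      have h3 := congrArg e h2
      have h4 : e x = x0 := e.apply_symm_apply x0
      rw [map_mul, map_mul, h4] at h3
      exact h3
    have h2 := cent_c3 (e ⟨v, hvK⟩ : A6) (Perm.mem_alternatingGroup.1 (e ⟨v, hvK⟩).2)
      (congrArg Subtype.val h1)
    have h3 : (e ⟨v, hvK⟩) ^ 3 = 1 := Subtype.ext h2
    rw [← map_pow, e.map_eq_one_iff] at h3
    have h4 : (v : G) ^ 3 = 1 := congrArg Subtype.val h3
    have h5 : orderOf (v : G) ∣ 3 := orderOf_dvd_of_pow_eq_one h4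
    rw [orderOf_coe, hv] at h5
    omega
  -- all elements of `G` preserve the three-cycles
  have hone : ∀ g : G, (∃ z : A6, (z : Perm (Fin 6)).IsThreeCycle ∧ (Φ g z : Perm (Fin 6)).IsThreeCycle) →
      ∀ y : A6, (y : Perm (Fin 6)).IsThreeCycle → (Φ g y : Perm (Fin 6)).IsThreeCycle := by
    rintro g ⟨z, hz, hgz⟩ y hy
    obtain ⟨k, rfl⟩ := exists_conj_three hz hy
    rw [map_mul, map_mul, map_inv]
    have h1 : ((Φ g k * Φ g z * (Φ g k)⁻¹ : A6) : Perm (Fin 6)) =
        (Φ g k : Perm (Fin 6)) * (Φ g z : Perm (Fin 6)) * (Φ g k : Perm (Fin 6))⁻¹ := rfl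
    rw [h1, Perm.IsThreeCycle, Perm.cycleType_conj]
    exact hgz
  have hK1 : ∀ (k : K) (z : A6), (Φ k z : Perm (Fin 6)) = (e k : Perm (Fin 6)) * z * (e k : Perm (Fin 6))⁻¹ := by
    intro k z
    rw [hΦ]
    have h1 : (⟨(k : G) * (e.symm z : K) * (k : G)⁻¹, hK.conj_mem _ (e.symm z).2 k⟩ : K) = k * e.symm z * k⁻¹ := rfl
    rw [h1, map_mul, map_mul, map_inv, e.apply_symm_apply]
    rfl
  have hallK : ∀ k : K, ∀ y : A6, (y : Perm (Fin 6)).IsThreeCycle → (Φ k y : Perm (Fin 6)).IsThreeCycle := by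
    intro k
    apply hone
    refine ⟨x0, c3_three, ?_⟩
    rw [hK1 k, Perm.IsThreeCycle, Perm.cycleType_conj]
    exact c3_three
  have hallu : ∀ y : A6, (y : Perm (Fin 6)).IsThreeCycle → (Φ u y : Perm (Fin 6)).IsThreeCycle := by
    apply hone
    refine ⟨x0, c3_three, ?_⟩
    have h1 : Φ u x0 = x0 := by
      rw [hΦ]
      have h2 : (⟨u * (e.symm x0 : K) * u⁻¹, hK.conj_mem _ (e.symm x0).2 u⟩ : K) = x :=
        Subtype.ext (mul_inv_eq_iff_eq_mul.2 hux)
      rw [h2]
      exact e.apply_symm_apply x0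
    rw [h1]
    exact c3_three
  have hall : ∀ g : G, ∀ y : A6, (y : Perm (Fin 6)).IsThreeCycle → (Φ g y : Perm (Fin 6)).IsThreeCycle := by
    intro g y hy
    by_cases hg : g ∈ K
    · exact hallK ⟨g, hg⟩ y hy
    · have hgu : u⁻¹ * g ∈ K := (Subgroup.mul_mem_iff_of_index_two hidx).2 (by simp [huK, hg])
      have h1 : Φ g y = Φ u (Φ (u⁻¹ * g) y) := by
        rw [← MulAut.mul_apply, ← map_mul, mul_inv_cancel_left]
      rw [h1]
      exact hallu _ (hallK ⟨_, hgu⟩ y hy)
  -- hence they are induced by permutations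
  have hrange : Φ.range ≤ ψ.range := by
    rintro _ ⟨g, rfl⟩
    obtain ⟨σ, hσ⟩ := Cfsg.Agent.LFourA.AltPsiAut.exists_conj_of_three (m := 4) (by norm_num) (Φ g)
      (fun i hi => hall g _ (cy_three i hi))
    refine ⟨σ, ?_⟩
    apply MulEquiv.ext
    intro y
    apply Subtype.ext
    rw [ψ_apply]
    exact (hσ y).symm
  have hcS : Nat.card (Perm (Fin 6)) = 720 := by
    rw [Nat.card_perm, Nat.card_fin]
    rfl
  have heq : Φ.range = ψ.range := by
    refine Subgroup.eq_of_le_of_card_ge hrange ?_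
    rw [← Nat.card_congr (MonoidHom.ofInjective hΦinj).toEquiv, ← Nat.card_congr (MonoidHom.ofInjective ψ_injective).toEquiv,
      hcG', hcS]
  exact ⟨(MonoidHom.ofInjective hΦinj).trans ((MulEquiv.subgroupCongr heq).trans (MonoidHom.ofInjective ψ_injective).symm)⟩

end six

end Cfsg.Agent.H342.S6K
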