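import Mathlib
import Cfsg.Agent.H342.S6K
import Cfsg.Agent.H341.ThreeFin

/-!
# Elimination for the `3`-local characterization of `Sym(6)` (S3333): from the list of `H341.ThreeFin`
-/

set_option autoImplicit false

namespace Cfsg.Agent.H342.S6Elim

open Subgroup Equiv Cfsg.Agent.H342.S6K Cfsg.Agent

universe u

/-! ### transport -/

theorem card_centralizer_equiv {K L : Type*} [Group K] [Group L] (e : K ≃* L) (x : K) :
    Nat.card (centralizer ({e x} : Set L)) = Nat.card (centralizer ({x} : Set K)) := by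
  refine Nat.card_congr
    { toFun := fun y => ⟨e.symm y, mem_centralizer_singleton_iff.2 ?_⟩
      invFun := fun y => ⟨e y, mem_centralizer_singleton_iff.2 ?_⟩
      left_inv := fun y => Subtype.ext (by simp)
      right_inv := fun y => Subtype.ext (by simp) }
  · have h1 := mem_centralizer_singleton_iff.1 y.2
    apply e.injective
    rw [map_mul, map_mul, e.apply_symm_apply, h1]
  · have h1 := mem_centralizer_singleton_iff.1 y.2
    rw [← map_mul, h1, map_mul]

theorem _root_.Cfsg.Agent.H342.S6K.KHyp.equiv {K L : Type*} [Group K] [Group L] (h : KHyp K) (e : K ≃* L) : KHyp L := by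
  have hc : Nat.card L = Nat.card K := (Nat.card_congr e.toEquiv).symm
  refine ⟨hc ▸ h.nine_dvd, hc ▸ h.not_dvd, ?_, ?_, ?_, ?_, ?_⟩
  · intro x hx
    rw [← card_centralizer_equiv e.symm x]
    exact h.cent _ (by rw [MulEquiv.orderOf_eq]; exact hx)
  · obtain ⟨x, y, hx, hy, hxy⟩ := h.not_conj
    refine ⟨e x, e y, by rw [MulEquiv.orderOf_eq]; exact hx, by rw [MulEquiv.orderOf_eq]; exact hy, ?_⟩
    intro g hg
    apply hxy (e.symm g)
    apply e.injective
    rw [map_mul, map_mul, map_inv, e.apply_symm_apply]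
    exact hg
  · rw [hc]
    exact h.count
  · intro x hx
    exact h.no9 (e.symm x) (by rw [MulEquiv.orderOf_eq]; exact hx)
  · intro a b g k ha hb hab hba hg hk
    refine h.no_fuse (e.symm a) (e.symm b) (e.symm g) (e.symm k) (by rw [MulEquiv.orderOf_eq]; exact ha)
      (by rw [MulEquiv.orderOf_eq]; exact hb) (by rw [← map_mul, hab, map_mul]) ?_ (by rw [← hg]; simp)
      (by rw [← map_mul e.symm a b, ← hk]; simp)
    intro hmem
    apply hba
    obtain ⟨n, hn⟩ := mem_zpowers_iff.1 hmem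
    refine mem_zpowers_iff.2 ⟨n, ?_⟩
    apply e.symm.injective
    rw [map_zpow, hn]

/-- the hypothesis of `H341.ThreeElts` -/
theorem _root_.Cfsg.Agent.H342.S6K.KHyp.hyp {K : Type*} [Group K] [Finite K] (h : KHyp K) :
    Cfsg.Agent.H341.ThreeElts.Hyp K := by
  refine ⟨fun g hg => (h.cent g hg).trans (by norm_num), fun g k hg hk => ?_⟩
  left
  have h1 : orderOf k ∣ 18 := by
    refine dvd_trans ?_ (h.cent g hg)
    have h2 : k ∈ centralizer ({g} : Set K) := mem_centralizer_singleton_iff.2 hk.symm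
    have h3 : orderOf (⟨k, h2⟩ : centralizer ({g} : Set K)) = orderOf k := Subgroup.orderOf_mk k h2
    rw [← h3]
    exact orderOf_dvd_natCard _
  have h2 : orderOf k ∣ 6 := by
    have h3 := Nat.le_of_dvd (by norm_num) h1
    have h4 := h.no9 k
    have h5 : orderOf k ≠ 18 := by
      intro h5
      apply h.no9 (k ^ 2)
      rw [orderOf_pow_of_dvd (by norm_num) (by rw [h5]; norm_num), h5]
    generalize orderOf k = n at *
    interval_cases n <;> omega
  exact orderOf_dvd_iff_pow_eq_one.1 (h2.trans (by norm_num))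

/-- a commuting subgroup bounds the order -/
theorem _root_.Cfsg.Agent.H342.S6K.KHyp.dvd {K : Type*} [Group K] [Finite K] (h : KHyp K) {x : K} (hx : orderOf x = 3) (U : Subgroup K)
    (hU : ∀ u ∈ U, u * x = x * u) : Nat.card U ∣ 18 := by
  refine dvd_trans ?_ (h.cent x hx)
  exact Subgroup.card_dvd_of_le fun u hu => mem_centralizer_singleton_iff.2 (hU u hu)

/-! ### arithmetic -/

theorem _root_.Cfsg.Agent.H342.S6K.KHyp.count_false {K : Type*} [Group K] (h : KHyp K) {n : ℕ} (hn : Nat.card K = n)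
    (h2 : ∀ m ∈ [1, 2, 4, 8], (n / 9 / m) % 9 ≠ 1) : False := by
  obtain ⟨m, s, hm, hs, hc⟩ := h.count
  have hm' : m ∈ [1, 2, 4, 8] := by
    have := Nat.le_of_dvd (by norm_num) hm
    interval_cases m <;> first | (exfalso; omega) | simp
  apply h2 m hm'
  have hm0 : 0 < m := Nat.pos_of_dvd_of_pos hm (by norm_num)
  rw [← hn, hc, mul_assoc, Nat.mul_div_cancel_left _ (by norm_num), Nat.mul_div_cancel_left _ hm0]
  exact hs

/-! ### alternating groups -/

theorem alt5 (h : KHyp (alternatingGroup (Fin 5))) : False := by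
  have h1 := two_mul_nat_card_alternatingGroup (α := Fin 5)
  rw [Nat.card_perm, Nat.card_fin] at h1
  have h2 : (5 : ℕ).factorial = 120 := rfl
  have h3 := h.nine_dvd
  omega

/-- the three-cycle in degree seven -/
def t7 : Perm (Fin 7) := swap 0 1 * swap 1 2
def a7 : Perm (Fin 7) := swap 3 4 * swap 5 6
def b7 : Perm (Fin 7) := swap 3 5 * swap 4 6

theorem t7_mem : t7 ∈ alternatingGroup (Fin 7) := Perm.mem_alternatingGroup.2 (by decide)
theorem a7_mem : a7 ∈ alternatingGroup (Fin 7) := Perm.mem_alternatingGroup.2 (by decide)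
theorem b7_mem : b7 ∈ alternatingGroup (Fin 7) := Perm.mem_alternatingGroup.2 (by decide)

theorem ab7 : a7 * a7 = 1 ∧ b7 * b7 = 1 ∧ a7 * b7 = b7 * a7 ∧ a7 * t7 = t7 * a7 ∧ b7 * t7 = t7 * b7 ∧
    a7 ≠ 1 ∧ b7 ≠ 1 ∧ a7 ≠ b7 ∧ t7 * t7 * t7 = 1 ∧ t7 ≠ 1 := by decide

/-- the four-group -/
def v7 : Subgroup (alternatingGroup (Fin 7)) where
  carrier := {1, ⟨a7, a7_mem⟩, ⟨b7, b7_mem⟩, ⟨a7 * b7, mul_mem a7_mem b7_mem⟩}
  one_mem' := by simp
  mul_mem' := by
    obtain ⟨h1, h2, h3, -⟩ := ab7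
    intro x y hx hy
    simp only [Set.mem_insert_iff, Set.mem_singleton_iff] at hx hy ⊢
    rcases hx with rfl | rfl | rfl | rfl <;> rcases hy with rfl | rfl | rfl | rfl <;>
      simp only [Subtype.ext_iff, Subgroup.coe_mul, Subgroup.coe_one] <;> decide
  inv_mem' := by
    intro x hx
    simp only [Set.mem_insert_iff, Set.mem_singleton_iff] at hx ⊢
    rcases hx with rfl | rfl | rfl | rfl <;>
      simp only [Subtype.ext_iff, Subgroup.coe_inv, Subgroup.coe_one] <;> decide

theorem card_v7 : Nat.card v7 = 4 := by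
  have h1 : Nat.card v7 = ({1, ⟨a7, a7_mem⟩, ⟨b7, b7_mem⟩, ⟨a7 * b7, mul_mem a7_mem b7_mem⟩} :
      Set (alternatingGroup (Fin 7))).ncard := Nat.card_coe_set_eq _
  rw [h1]
  have h2 : ({1, ⟨a7, a7_mem⟩, ⟨b7, b7_mem⟩, ⟨a7 * b7, mul_mem a7_mem b7_mem⟩} : Set (alternatingGroup (Fin 7))) =
      (({1, ⟨a7, a7_mem⟩, ⟨b7, b7_mem⟩, ⟨a7 * b7, mul_mem a7_mem b7_mem⟩} : Finset (alternatingGroup (Fin 7))) :
        Set (alternatingGroup (Fin 7))) := by
    simp
  rw [h2, Set.ncard_coe_finset]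
  decide

theorem alt7 (h : KHyp (alternatingGroup (Fin 7))) : False := by
  obtain ⟨h1, h2, h3, h4, h5, -, -, -, h6, h7⟩ := ab7
  have ho : orderOf (⟨t7, t7_mem⟩ : alternatingGroup (Fin 7)) = 3 := by
    have : Fact (Nat.Prime 3) := ⟨Nat.prime_three⟩
    refine orderOf_eq_prime ?_ fun h => h7 (congrArg Subtype.val h)
    rw [pow_succ, pow_two]
    exact Subtype.ext h6
  have h8 := h.dvd ho v7 (by
    intro u hu
    change u ∈ ({1, ⟨a7, a7_mem⟩, ⟨b7, b7_mem⟩, ⟨a7 * b7, mul_mem a7_mem b7_mem⟩} :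
      Set (alternatingGroup (Fin 7))) at hu
    simp only [Set.mem_insert_iff, Set.mem_singleton_iff] at hu
    rcases hu with rfl | rfl | rfl | rfl
    · rw [one_mul, mul_one]
    · exact Subtype.ext h4
    · exact Subtype.ext h5
    · apply Subtype.ext
      change a7 * b7 * t7 = t7 * (a7 * b7)
      rw [mul_assoc, h5, ← mul_assoc, h4, mul_assoc])
  rw [card_v7] at h8
  omega

/-- the three-cycle in degree eight -/
def t8 : Perm (Fin 8) := swap 0 1 * swap 1 2
def c8 : Perm (Fin 8) := swap 3 4 * swap 4 5 * swap 5 6 * swap 6 7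

theorem tc8 : t8 * t8 * t8 = 1 ∧ t8 ≠ 1 ∧ c8 * t8 = t8 * c8 ∧ c8 ^ 5 = 1 ∧ c8 ≠ 1 ∧ Perm.sign t8 = 1 ∧
    Perm.sign c8 = 1 := by decide

theorem alt8 (h : KHyp (alternatingGroup (Fin 8))) : False := by
  obtain ⟨h1, h2, h3, h4, h5, h6, h7⟩ := tc8
  have ho : orderOf (⟨t8, Perm.mem_alternatingGroup.2 h6⟩ : alternatingGroup (Fin 8)) = 3 := by
    have : Fact (Nat.Prime 3) := ⟨Nat.prime_three⟩
    refine orderOf_eq_prime ?_ fun h => h2 (congrArg Subtype.val h)
    rw [pow_succ, pow_two]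
    exact Subtype.ext h1
  have ho5 : orderOf (⟨c8, Perm.mem_alternatingGroup.2 h7⟩ : alternatingGroup (Fin 8)) = 5 := by
    have : Fact (Nat.Prime 5) := ⟨Nat.prime_five⟩
    refine orderOf_eq_prime (Subtype.ext ?_) fun h => h5 (congrArg Subtype.val h)
    exact h4
  have h8 := h.dvd ho (zpowers (⟨c8, Perm.mem_alternatingGroup.2 h7⟩ : alternatingGroup (Fin 8))) (by
    intro u hu
    obtain ⟨k, rfl⟩ := mem_zpowers_iff.1 hu
    have h9 : Commute (⟨c8, Perm.mem_alternatingGroup.2 h7⟩ : alternatingGroup (Fin 8))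
        ⟨t8, Perm.mem_alternatingGroup.2 h6⟩ := Subtype.ext h3
    exact (h9.zpow_left k))
  rw [Nat.card_zpowers, ho5] at h8
  omega

/-! ### the list -/

open Cfsg.Agent.H341 in
/-- **the only known simple group with the properties `KHyp` is `Alt(6)`** -/
theorem elim (T : OrdDiv.OrderTable.{u}) {K : Type u} [Group K] [Finite K] (hk : IsKnownSimple' K)
    (hna : ¬ ∀ a b : K, a * b = b * a) (h : KHyp K) : Nonempty (K ≃* alternatingGroup (Fin 6)) := by
  have hsp : ∀ x ∈ OrdDiv.spor, OrdDiv.Real x.1 K → Nat.card K = x.2 := T.spor K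
  have hkind := ThreeFin.nine T hk hna h.nine_dvd h.not_dvd h.no9 h.hyp
  have hfin : ∀ {L : Type} [Group L], (K ≃* L) → Finite L := fun e => Finite.of_equiv K e.toEquiv
  rcases hkind with ⟨⟨e⟩⟩ | ⟨⟨e⟩⟩ | ⟨⟨e⟩⟩ | ht | ⟨F, _, _, hq, ⟨e⟩⟩ | hm | hm | hm | hm
  · exact ⟨e⟩
  · exact (alt7 (h.equiv e)).elim
  · exact (alt8 (h.equiv e)).elim
  · obtain ⟨a, b, ha, hb, hab, hba, ⟨g, hg⟩, k, hk⟩ := ht
    exact (h.no_fuse a b g k ha hb hab hba hg hk).elim
  · exfalso
    have := hfin e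
    have h' := h.equiv e
    have : Fact (Nat.Prime 3) := ⟨Nat.prime_three⟩
    obtain ⟨y, hy⟩ := exists_prime_orderOf_dvd_card' (G := PSp 2 F) 3 ((by norm_num : 3 ∣ 9).trans h'.nine_dvd)
    obtain ⟨v, hv, hvy⟩ := ThreeElts.psp4_five hq y hy
    have h5 := h'.dvd hy (zpowers v) (by
      intro u hu
      obtain ⟨k, rfl⟩ := mem_zpowers_iff.1 hu
      exact ((show Commute v y from hvy.symm).zpow_left k))
    rw [Nat.card_zpowers, hv] at h5
    omega
  · exact (h.count_false (hsp (.m11, 7920) (by decide) hm) (by decide)).elim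
  · exact (h.count_false (hsp (.m22, 443520) (by decide) hm) (by decide)).elim
  · exact (h.count_false (hsp (.m23, 10200960) (by decide) hm) (by decide)).elim
  · exact (h.count_false (hsp (.hs, 44352000) (by decide) hm) (by decide)).elim

end Cfsg.Agent.H342.S6Elim
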