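import Mathlib
import Cfsg.Agent.Lib.CoprimeHyperplane
import Cfsg.Agent.Lib.MinNormalNonabelian

/-!
# Local analysis for the `3`-local characterization of `Sym(6)` (S3333)

`Ctx S τ π`: `S` is a self-centralizing subgroup of order `9` with `N_G(S) / S ≅ D_8` (through `π`, split by `τ`)
and `C_G(x) ≤ N_G(S)` for `1 ≠ x ∈ S`.

* `Ctx.card_centralizer`: `|C_G(x)| = 18`;
* `Ctx.irred`: no subgroup of order three of `S` is normal in `N_G(S)`;
* `Ctx.mem_normalizer_of_conj`: `S` is a TI-subgroup;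
* `Ctx.eq_bot_of_coprime`: `S` normalizes no nontrivial `3'`-subgroup;
* `Ctx.exists_not_conj`: two classes of elements of order three.
-/

set_option autoImplicit false

namespace Cfsg.Agent.H342.S6Loc

open Subgroup

theorem card_ne_one {T : Type*} [Group T] [Finite T] : Nat.card {y : T // y ≠ 1} + 1 = Nat.card T := by
  classical
  cases nonempty_fintype T
  rw [Nat.card_eq_fintype_card, Nat.card_eq_fintype_card, Fintype.card_subtype_compl,
    Fintype.card_subtype_eq]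
  have : 0 < Fintype.card T := Fintype.card_pos
  omega

variable {G : Type*} [Group G]

/-- the set-up -/
structure Ctx (S : Subgroup G) (τ : DihedralGroup 4 →* G) (π : normalizer (S : Set G) →* DihedralGroup 4) :
    Prop where
  card : Nat.card S = 9
  cent : centralizer (S : Set G) = S
  cle : ∀ x ∈ S, x ≠ 1 → centralizer ({x} : Set G) ≤ normalizer (S : Set G)
  τN : ∀ d, τ d ∈ normalizer (S : Set G)
  πτ : ∀ d, π ⟨τ d, τN d⟩ = d
  ker : ∀ n, π n = 1 ↔ (n : G) ∈ S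

namespace Ctx

variable {S : Subgroup G} {τ : DihedralGroup 4 →* G} {π : normalizer (S : Set G) →* DihedralGroup 4}

theorem comm (h : Ctx S τ π) {a b : G} (ha : a ∈ S) (hb : b ∈ S) : a * b = b * a := by
  have h1 : a ∈ centralizer (S : Set G) := by rw [h.cent]; exact ha
  exact (mem_centralizer_iff.1 h1 b hb).symm

theorem finiteS (h : Ctx S τ π) : Finite S := Nat.finite_of_card_ne_zero (by rw [h.card]; norm_num)

theorem τ_mem (h : Ctx S τ π) {d : DihedralGroup 4} (hd : τ d ∈ S) : d = 1 := by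
  rw [← h.πτ d]
  exact (h.ker _).2 hd

theorem τ_inj (h : Ctx S τ π) : Function.Injective τ := by
  rw [injective_iff_map_eq_one]
  intro d hd
  exact h.τ_mem (by rw [hd]; exact one_mem _)

theorem conj_mem {n : G} (hn : n ∈ normalizer (S : Set G)) {s : G} (hs : s ∈ S) : n * s * n⁻¹ ∈ S :=
  (mem_normalizer_iff.1 hn s).1 hs

theorem decomp (h : Ctx S τ π) {n : G} (hn : n ∈ normalizer (S : Set G)) :
    ∃ s ∈ S, ∃ d, n = s * τ d := by
  refine ⟨n * (τ (π ⟨n, hn⟩))⁻¹, ?_, π ⟨n, hn⟩, by group⟩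
  have h1 := (h.ker (⟨n, hn⟩ * (⟨τ (π ⟨n, hn⟩), h.τN _⟩ : normalizer (S : Set G))⁻¹)).1 (by
    rw [map_mul, map_inv, h.πτ, mul_inv_cancel])
  exact h1

/-- an element of the complement centralizing `S` is trivial -/
theorem eq_one_of_cent (h : Ctx S τ π) {d : DihedralGroup 4} (hd : ∀ s ∈ S, τ d * s = s * τ d) : d = 1 := by
  apply h.τ_mem
  rw [← h.cent, mem_centralizer_iff]
  intro s hs
  exact (hd s hs).symm

/-- `S` has exponent three -/
theorem cube (h : Ctx S τ π) {s : G} (hs : s ∈ S) : s ^ 3 = 1 := by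
  have := h.finiteS
  by_contra hne
  -- otherwise `S` is cyclic
  have h1 : orderOf (⟨s, hs⟩ : S) ∣ 9 := by rw [← h.card]; exact orderOf_dvd_natCard _
  have h2 : orderOf (⟨s, hs⟩ : S) = 9 := by
    have h3 : ∀ n, n ∣ 9 → n = 1 ∨ n = 3 ∨ n = 9 := by
      intro n hn
      have := Nat.le_of_dvd (by norm_num) hn
      interval_cases n <;> omega
    rcases h3 _ h1 with h4 | h4 | h4
    · exfalso; apply hne
      rw [orderOf_eq_one_iff] at h4
      have : s = 1 := congrArg Subtype.val h4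
      rw [this, one_pow]
    · exfalso; apply hne
      have := pow_orderOf_eq_one (⟨s, hs⟩ : S)
      rw [h4] at this
      exact congrArg Subtype.val this
    · exact h4
  have h3 : ∀ y ∈ S, ∃ k : ℤ, s ^ k = y := by
    intro y hy
    have h4 : zpowers (⟨s, hs⟩ : S) = ⊤ := by
      apply eq_top_of_card_eq
      rw [Nat.card_zpowers, h2, h.card]
    have h5 : (⟨y, hy⟩ : S) ∈ zpowers (⟨s, hs⟩ : S) := by rw [h4]; trivial
    obtain ⟨k, hk⟩ := h5
    exact ⟨k, congrArg Subtype.val hk⟩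
  -- automorphisms of a cyclic group commute
  have h4 : ∀ d, ∃ k : ℤ, ∀ y ∈ S, τ d * y * (τ d)⁻¹ = y ^ k := by
    intro d
    obtain ⟨k, hk⟩ := h3 _ (conj_mem (h.τN d) hs)
    refine ⟨k, fun y hy => ?_⟩
    obtain ⟨l, rfl⟩ := h3 y hy
    rw [← conj_zpow, ← hk, ← zpow_mul, ← zpow_mul, mul_comm]
  have h5 : ∀ d e, ∀ y ∈ S, τ (d * e) * y * (τ (d * e))⁻¹ = τ (e * d) * y * (τ (e * d))⁻¹ := by
    intro d e y hy
    obtain ⟨k, hk⟩ := h4 d
    obtain ⟨l, hl⟩ := h4 e
    have e1 : τ (d * e) * y * (τ (d * e))⁻¹ = τ d * (τ e * y * (τ e)⁻¹) * (τ d)⁻¹ := by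
      rw [map_mul]; group
    have e2 : τ (e * d) * y * (τ (e * d))⁻¹ = τ e * (τ d * y * (τ d)⁻¹) * (τ e)⁻¹ := by
      rw [map_mul]; group
    rw [e1, e2, hl y hy, hk y hy, hk _ (zpow_mem hy _), hl _ (zpow_mem hy _), ← zpow_mul, ← zpow_mul, mul_comm]
  have h6 : (DihedralGroup.sr (0 : ZMod 4) * DihedralGroup.r 1)⁻¹ * (DihedralGroup.r 1 * DihedralGroup.sr 0) = 1 := by
    apply h.eq_one_of_cent
    intro y hy
    have h7 := h5 (DihedralGroup.r 1) (DihedralGroup.sr 0) y hy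
    rw [map_mul, map_inv, ← mul_inv_eq_iff_eq_mul]
    generalize τ (DihedralGroup.r 1 * DihedralGroup.sr 0) = u at *
    generalize τ (DihedralGroup.sr 0 * DihedralGroup.r 1) = v at *
    have h8 : v⁻¹ * u * y * (v⁻¹ * u)⁻¹ = v⁻¹ * (u * y * u⁻¹) * v := by group
    rw [h8, h7]; group
  revert h6
  decide

/-- coordinates with respect to two generators -/
theorem coords (h : Ctx S τ π) {x y : G} (hx : x ∈ S) (hx1 : x ≠ 1) (hy : y ∈ S)
    (hyx : y ∉ zpowers x) {s : G} (hs : s ∈ S) :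
    ∃ i < 3, ∃ j < 3, s = x ^ i * y ^ j := by
  have := h.finiteS
  have hx3 := h.cube hx
  have hy3 := h.cube hy
  have hox : orderOf x = 3 := orderOf_eq_prime hx3 hx1
  let f : Fin 3 × Fin 3 → S := fun p => ⟨x ^ (p.1 : ℕ) * y ^ (p.2 : ℕ), mul_mem (pow_mem hx _) (pow_mem hy _)⟩
  have key : ∀ a b : ℕ, a < 3 → b < 3 → y ^ a * (y ^ b)⁻¹ ∈ zpowers x → a = b := by
    intro a b ha hb hab
    by_contra hne
    apply hyx
    have h1 : ∀ k : ℕ, y ^ k ∈ zpowers x → ¬ 3 ∣ k → y ∈ zpowers x := by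
      intro k hk h3
      have h4 : k % 3 = 1 ∨ k % 3 = 2 := by omega
      have h5 : y ^ k = y ^ (k % 3) := by
        conv_lhs => rw [← Nat.div_add_mod k 3, pow_add, pow_mul, hy3, one_pow, one_mul]
      rcases h4 with h6 | h6
      · rw [h5, h6, pow_one] at hk
        exact hk
      · have h7 : y = (y ^ k) ^ 2 := by
          rw [h5, h6, ← pow_mul]
          have : y ^ (2 * 2) = y ^ 3 * y := by rw [← pow_succ]
          rw [this, hy3, one_mul]
        rw [h7]
        exact pow_mem hk 2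
    rcases Nat.lt_or_ge a b with h2 | h2
    · have h3 : y ^ (b - a) ∈ zpowers x := by
        have h4 := inv_mem hab
        rw [mul_inv_rev, inv_inv] at h4
        rw [pow_sub y h2.le]
        exact h4
      exact h1 _ h3 (by omega)
    · have h3 : y ^ (a - b) ∈ zpowers x := by
        rw [pow_sub y h2]
        exact hab
      exact h1 _ h3 (by omega)
  have hinj : Function.Injective f := by
    rintro ⟨a, b⟩ ⟨c, d⟩ hab
    have h1 : x ^ (a : ℕ) * y ^ (b : ℕ) = x ^ (c : ℕ) * y ^ (d : ℕ) := congrArg Subtype.val hab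
    have h2 : y ^ (b : ℕ) * (y ^ (d : ℕ))⁻¹ = (x ^ (a : ℕ))⁻¹ * x ^ (c : ℕ) := by
      rw [eq_inv_mul_iff_mul_eq, ← mul_assoc, h1, mul_inv_cancel_right]
    have h3 : (b : ℕ) = d := key b d b.2 d.2 (by
      rw [h2]
      exact mul_mem (inv_mem (pow_mem (mem_zpowers x) _)) (pow_mem (mem_zpowers x) _))
    rw [h3, mul_left_inj] at h1
    have h4 : (a : ℕ) = c := pow_injOn_Iio_orderOf (by rw [hox]; exact a.2) (by rw [hox]; exact c.2) h1
    exact Prod.ext (Fin.ext h4) (Fin.ext h3)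
  have hcard : Nat.card (Fin 3 × Fin 3) = Nat.card S := by rw [h.card]; simp
  have hbij : Function.Bijective f := (Nat.bijective_iff_injective_and_card f).2 ⟨hinj, hcard⟩
  obtain ⟨⟨i, j⟩, hij⟩ := hbij.2 ⟨s, hs⟩
  exact ⟨i, i.2, j, j.2, (congrArg Subtype.val hij).symm⟩

theorem exists_not_mem (h : Ctx S τ π) {x : G} (hx : x ∈ S) : ∃ y ∈ S, y ∉ zpowers x := by
  have := h.finiteS
  by_contra hne
  push Not at hne
  have h1 : S ≤ zpowers x := hne
  have h2 : Nat.card S ≤ Nat.card (zpowers x) := by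
    have : Finite (zpowers x) := Finite.of_injective (fun z : zpowers x => (⟨z, (zpowers_le.2 hx) z.2⟩ : S))
      (fun a b hab => Subtype.ext (congrArg (fun z : S => (z : G)) hab))
    exact Nat.card_le_card_of_injective (inclusion h1) (inclusion_injective h1)
  have h3 : Nat.card (zpowers x) ≤ 3 := by
    rw [Nat.card_zpowers]
    exact orderOf_le_of_pow_eq_one (by norm_num) (h.cube hx)
  rw [h.card] at h2
  omega

/-- `D_8` has exponent four -/
theorem pow_four (d : DihedralGroup 4) : d ^ 4 = 1 := by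
  revert d; decide

/-- the coprime action lemma -/
theorem eq_one_of_shift (h : Ctx S τ π) {x y : G} (hx : x ∈ S) (hx1 : x ≠ 1) (hy : y ∈ S)
    (hyx : y ∉ zpowers x) {d : DihedralGroup 4} (hdx : τ d * x = x * τ d) {i : ℕ}
    (hdy : τ d * y * (τ d)⁻¹ = x ^ i * y) : d = 1 := by
  have h1 : ∀ n : ℕ, (τ d) ^ n * y * ((τ d) ^ n)⁻¹ = x ^ (i * n) * y := by
    intro n
    induction n with
    | zero => simp
    | succ n ih =>
      have h2 : (τ d) ^ (n + 1) * y * ((τ d) ^ (n + 1))⁻¹ = τ d * ((τ d) ^ n * y * ((τ d) ^ n)⁻¹) * (τ d)⁻¹ := by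
        rw [pow_succ']; group
      have h3 : τ d * x ^ (i * n) * (τ d)⁻¹ = x ^ (i * n) := by
        rw [← conj_pow, hdx, mul_inv_cancel_right]
      rw [h2, ih]
      calc τ d * (x ^ (i * n) * y) * (τ d)⁻¹ = (τ d * x ^ (i * n) * (τ d)⁻¹) * (τ d * y * (τ d)⁻¹) := by group
        _ = x ^ (i * (n + 1)) * y := by rw [h3, hdy, ← mul_assoc, ← pow_add, mul_add, mul_one]
  have h2 := h1 4
  rw [← map_pow, pow_four, map_one, one_mul, inv_one, mul_one] at h2
  have h3 : x ^ (i * 4) = 1 := by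
    have := h2.symm
    rwa [mul_eq_right] at this
  have h4 : x ^ i = 1 := by
    have h5 : x ^ (i * 4) = x ^ i := by
      have : i * 4 = 3 * i + i := by ring
      rw [this, pow_add, pow_mul, h.cube hx, one_pow, one_mul]
    rw [← h5, h3]
  rw [h4, one_mul] at hdy
  apply h.eq_one_of_cent
  intro s hs
  obtain ⟨a, -, b, -, rfl⟩ := h.coords hx hx1 hy hyx hs
  have e1 : τ d * x ^ a = x ^ a * τ d := ((show Commute (τ d) x from hdx).pow_right a)
  have e2 : τ d * y ^ b = y ^ b * τ d :=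
    ((show Commute (τ d) y from (mul_inv_eq_iff_eq_mul.1 hdy)).pow_right b)
  rw [← mul_assoc, e1, mul_assoc, e2, mul_assoc]

/-- an element normalizing `⟨x⟩`: the action on the second generator -/
theorem act (h : Ctx S τ π) {x y : G} (hx : x ∈ S) (hx1 : x ≠ 1) (hy : y ∈ S)
    (hyx : y ∉ zpowers x) {d : DihedralGroup 4}
    (hdx : ∃ k : ℕ, τ d * x * (τ d)⁻¹ = x ^ k) :
    ∃ i j : ℕ, (j = 1 ∨ j = 2) ∧ τ d * y * (τ d)⁻¹ = x ^ i * y ^ j := by
  obtain ⟨i, -, j, hj, hij⟩ := h.coords hx hx1 hy hyx (conj_mem (h.τN d) hy)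
  refine ⟨i, j, ?_, hij⟩
  by_contra hne
  obtain rfl : j = 0 := by omega
  rw [pow_zero, mul_one] at hij
  obtain ⟨k, hk⟩ := hdx
  -- `x` is a power of its conjugate
  have h1 : ∃ l : ℕ, τ d * x ^ l * (τ d)⁻¹ = x := by
    have h2 : ¬ 3 ∣ k := by
      rintro ⟨m, rfl⟩
      rw [pow_mul, h.cube hx, one_pow] at hk
      apply hx1
      have := congrArg (fun g => (τ d)⁻¹ * g * τ d) hk
      simpa [mul_assoc] using this
    have h3 : k % 3 = 1 ∨ k % 3 = 2 := by omega
    have h5 : x ^ k = x ^ (k % 3) := by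
      conv_lhs => rw [← Nat.div_add_mod k 3, pow_add, pow_mul, h.cube hx, one_pow, one_mul]
    rcases h3 with h6 | h6
    · exact ⟨1, by rw [pow_one, hk, h5, h6, pow_one]⟩
    · refine ⟨2, ?_⟩
      rw [← conj_pow, hk, h5, h6, ← pow_mul]
      have : x ^ (2 * 2) = x ^ 3 * x := by rw [← pow_succ]
      rw [this, h.cube hx, one_mul]
  obtain ⟨l, hl⟩ := h1
  apply hyx
  have h2 : τ d * y * (τ d)⁻¹ = τ d * (x ^ l) ^ i * (τ d)⁻¹ := by
    rw [hij, ← conj_pow, hl]
  have h3 : y = (x ^ l) ^ i := by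
    have := congrArg (fun g => (τ d)⁻¹ * g * τ d) h2
    simpa [mul_assoc] using this
  rw [h3]
  exact pow_mem (pow_mem (mem_zpowers x) _) _

/-- the square of an element normalizing `⟨x⟩` is trivial -/
theorem sq_eq_one (h : Ctx S τ π) {x : G} (hx : x ∈ S) (hx1 : x ≠ 1) {d : DihedralGroup 4}
    (hdx : ∃ k : ℕ, τ d * x * (τ d)⁻¹ = x ^ k) : d ^ 2 = 1 := by
  obtain ⟨y, hy, hyx⟩ := h.exists_not_mem hx
  obtain ⟨i, j, hj, hij⟩ := h.act hx hx1 hy hyx hdx
  obtain ⟨k, hk⟩ := hdx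
  have hx3 := h.cube hx
  have hy3 := h.cube hy
  have hpow : ∀ m : ℕ, τ d * x ^ m * (τ d)⁻¹ = x ^ (k * m) := by
    intro m; rw [← conj_pow, hk, ← pow_mul]
  -- the square centralizes `x`
  have h1 : τ (d ^ 2) * x = x * τ (d ^ 2) := by
    have h2 : τ (d ^ 2) * x * (τ (d ^ 2))⁻¹ = x ^ (k * k) := by
      rw [pow_two, map_mul]
      calc τ d * τ d * x * (τ d * τ d)⁻¹ = τ d * (τ d * x * (τ d)⁻¹) * (τ d)⁻¹ := by group
        _ = x ^ (k * k) := by rw [hk, hpow]
    have h3 : x ^ (k * k) = x := by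
      have h4 : ¬ 3 ∣ k := by
        rintro ⟨m, rfl⟩
        rw [pow_mul, hx3, one_pow] at hk
        apply hx1
        have := congrArg (fun g => (τ d)⁻¹ * g * τ d) hk
        simpa [mul_assoc] using this
      have h5 : (k * k) % 3 = 1 := by
        have h6 : k % 3 = 1 ∨ k % 3 = 2 := by omega
        rcases h6 with h6 | h6 <;> simp [Nat.mul_mod, h6]
      conv_lhs => rw [← Nat.div_add_mod (k * k) 3, pow_add, pow_mul, hx3, one_pow, one_mul, h5, pow_one]
    rw [h3] at h2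
    exact mul_inv_eq_iff_eq_mul.1 h2
  -- and shifts `y`
  have h2 : ∃ m, τ (d ^ 2) * y * (τ (d ^ 2))⁻¹ = x ^ m * y := by
    refine ⟨k * i + i * j, ?_⟩
    have hc : ∀ a b : ℕ, y ^ a * x ^ b = x ^ b * y ^ a := fun a b =>
      h.comm (pow_mem hy _) (pow_mem hx _)
    have h3 : (x ^ i * y ^ j) ^ j = x ^ (i * j) * y ^ (j * j) := by
      rw [(show Commute (x ^ i) (y ^ j) from (hc j i).symm).mul_pow, ← pow_mul, ← pow_mul]
    have h4 : y ^ (j * j) = y := by
      rcases hj with rfl | rfl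
      · rw [one_mul, pow_one]
      · have : y ^ (2 * 2) = y ^ 3 * y := by rw [← pow_succ]
        rw [this, hy3, one_mul]
    have h5 : τ d * (x ^ i * y ^ j) * (τ d)⁻¹ = (τ d * x ^ i * (τ d)⁻¹) * (τ d * y * (τ d)⁻¹) ^ j := by
      rw [conj_pow]; group
    rw [pow_two, map_mul]
    calc τ d * τ d * y * (τ d * τ d)⁻¹ = τ d * (τ d * y * (τ d)⁻¹) * (τ d)⁻¹ := by group
      _ = (τ d * x ^ i * (τ d)⁻¹) * (τ d * y * (τ d)⁻¹) ^ j := by rw [← h5, hij]
      _ = x ^ (k * i + i * j) * y := by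
        rw [hpow, hij, h3, h4, ← mul_assoc, ← pow_add]
  obtain ⟨m, hm⟩ := h2
  exact h.eq_one_of_shift hx hx1 hy hyx h1 hm

/-- no subgroup of order three of `S` is normal in `N_G(S)` -/
theorem irred (h : Ctx S τ π) {x : G} (hx : x ∈ S) (hx1 : x ≠ 1)
    (hn : ∀ d, τ d * x * (τ d)⁻¹ ∈ zpowers x) : False := by
  have h1 := h.sq_eq_one hx hx1 (d := DihedralGroup.r 1) (by
    obtain ⟨k, hk⟩ := hn (DihedralGroup.r 1)
    have h3 : IsOfFinOrder x := isOfFinOrder_iff_pow_eq_one.2 ⟨3, by norm_num, h.cube hx⟩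
    obtain ⟨m, hm⟩ := (h3.mem_powers_iff_mem_zpowers).2 ⟨k, hk⟩
    exact ⟨m, hm.symm⟩)
  revert h1
  decide

/-- at most one nontrivial element of the complement centralizes a given element of `S` -/
theorem eq_of_comm (h : Ctx S τ π) {x : G} (hx : x ∈ S) (hx1 : x ≠ 1) {d e : DihedralGroup 4}
    (hd : τ d * x = x * τ d) (he : τ e * x = x * τ e) (hd1 : d ≠ 1) (he1 : e ≠ 1) : d = e := by
  have hd' : τ d * x * (τ d)⁻¹ = x ^ 1 := by rw [hd, mul_inv_cancel_right, pow_one]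
  have he' : τ e * x * (τ e)⁻¹ = x ^ 1 := by rw [he, mul_inv_cancel_right, pow_one]
  obtain ⟨y, hy, hyx⟩ := h.exists_not_mem hx
  obtain ⟨i, j, hj, hij⟩ := h.act hx hx1 hy hyx ⟨1, hd'⟩
  obtain ⟨k, l, hl, hkl⟩ := h.act hx hx1 hy hyx ⟨1, he'⟩
  have hj2 : j = 2 := by
    rcases hj with rfl | rfl
    · exact absurd (h.eq_one_of_shift hx hx1 hy hyx hd (i := i) (by rw [hij, pow_one])) hd1
    · rfl
  have hl2 : l = 2 := by
    rcases hl with rfl | rfl
    · exact absurd (h.eq_one_of_shift hx hx1 hy hyx he (i := k) (by rw [hkl, pow_one])) he1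
    · rfl
  subst hj2 hl2
  have hde : τ (d * e) * x = x * τ (d * e) := by
    rw [map_mul, mul_assoc, he, ← mul_assoc, hd, mul_assoc]
  have h1 : ∃ m, τ (d * e) * y * (τ (d * e))⁻¹ = x ^ m * y := by
    refine ⟨k + i * 2, ?_⟩
    have hc : ∀ a b : ℕ, y ^ a * x ^ b = x ^ b * y ^ a := fun a b =>
      h.comm (pow_mem hy _) (pow_mem hx _)
    have hp : τ d * x ^ k * (τ d)⁻¹ = x ^ k := by rw [← conj_pow, hd', pow_one]
    rw [map_mul]
    calc τ d * τ e * y * (τ d * τ e)⁻¹ = τ d * (τ e * y * (τ e)⁻¹) * (τ d)⁻¹ := by group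
      _ = (τ d * x ^ k * (τ d)⁻¹) * (τ d * y * (τ d)⁻¹) ^ 2 := by rw [hkl, conj_pow]; group
      _ = x ^ k * (x ^ i * y ^ 2) ^ 2 := by rw [hp, hij]
      _ = x ^ k * (x ^ (i * 2) * y ^ (2 * 2)) := by
        rw [(show Commute (x ^ i) (y ^ 2) from (hc 2 i).symm).mul_pow, ← pow_mul, ← pow_mul]
      _ = x ^ (k + i * 2) * y := by
        have : y ^ (2 * 2) = y ^ 3 * y := by rw [← pow_succ]
        rw [this, h.cube hy, one_mul, ← mul_assoc, ← pow_add]
  obtain ⟨m, hm⟩ := h1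
  have h2 := h.eq_one_of_shift hx hx1 hy hyx hde hm
  have h3 := h.sq_eq_one hx hx1 ⟨1, he'⟩
  have h4 : e * e = 1 := by rw [← pow_two, h3]
  calc d = d * (e * e) := by rw [h4, mul_one]
    _ = e := by rw [← mul_assoc, h2, one_mul]

/-- some nontrivial element of the complement centralizes a given element of `S` -/
theorem exists_comm (h : Ctx S τ π) {x : G} (hx : x ∈ S) (hx1 : x ≠ 1) :
    ∃ d : DihedralGroup 4, d ≠ 1 ∧ τ d * x = x * τ d := by
  by_contra hne
  push Not at hne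
  have := h.finiteS
  -- `D_8` is regular on the nonidentity elements
  have hreg : ∀ y ∈ S, y ≠ 1 → ∃ d, y = τ d * x * (τ d)⁻¹ := by
    let T := {y : S // y ≠ 1}
    have hT : Nat.card T = 8 := by
      have h1 : Nat.card T + 1 = Nat.card S := card_ne_one
      rw [h.card] at h1
      omega
    let f : DihedralGroup 4 → T := fun d => ⟨⟨τ d * x * (τ d)⁻¹, conj_mem (h.τN d) hx⟩, fun h1 => by
      apply hx1
      have h2 : τ d * x * (τ d)⁻¹ = 1 := congrArg Subtype.val h1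
      rwa [mul_inv_eq_one, mul_eq_left] at h2⟩
    have hinj : Function.Injective f := by
      intro d e hde
      have h2 : τ d * x * (τ d)⁻¹ = τ e * x * (τ e)⁻¹ := congrArg (fun z : T => ((z : S) : G)) hde
      by_contra hne'
      refine hne (e⁻¹ * d) (fun h3 => hne' (inv_mul_eq_one.1 h3).symm) ?_
      rw [map_mul, map_inv]
      calc (τ e)⁻¹ * τ d * x = (τ e)⁻¹ * (τ d * x * (τ d)⁻¹) * τ d := by group
        _ = x * ((τ e)⁻¹ * τ d) := by rw [h2]; group
    have hbij : Function.Bijective f := (Nat.bijective_iff_injective_and_card f).2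
      ⟨hinj, by rw [hT, DihedralGroup.nat_card]⟩
    intro y hy hy1
    obtain ⟨d, hd⟩ := hbij.2 ⟨⟨y, hy⟩, fun h1 => hy1 (congrArg Subtype.val h1)⟩
    exact ⟨d, (congrArg (fun z : T => ((z : S) : G)) hd).symm⟩
  have hfree : ∀ y ∈ S, y ≠ 1 → ∀ e : DihedralGroup 4, τ e * y = y * τ e → e = 1 := by
    intro y hy hy1 e he
    obtain ⟨d, rfl⟩ := hreg y hy hy1
    by_contra he1
    refine hne (d⁻¹ * e * d) (fun h3 => he1 ?_) ?_
    · have := congrArg (fun g => d * g * d⁻¹) h3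
      simpa [mul_assoc] using this
    · rw [map_mul, map_mul, map_inv]
      calc (τ d)⁻¹ * τ e * τ d * x = (τ d)⁻¹ * (τ e * (τ d * x * (τ d)⁻¹)) * τ d := by group
        _ = x * ((τ d)⁻¹ * τ e * τ d) := by rw [he]; group
  -- involutions invert `S`
  have hinv : ∀ e : DihedralGroup 4, e * e = 1 → e ≠ 1 → ∀ y ∈ S, τ e * y * (τ e)⁻¹ = y⁻¹ := by
    intro e hee he1 y hy
    have h1 : (τ e)⁻¹ = τ e := by
      rw [← map_inv, inv_eq_of_mul_eq_one_left hee]
    have h2 : y * (τ e * y * (τ e)⁻¹) = 1 := by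
      by_contra h3
      refine he1 (hfree _ (mul_mem hy (conj_mem (h.τN e) hy)) h3 e ?_)
      have h4 : τ e * τ e = 1 := by rw [← map_mul, hee, map_one]
      have h5 := h.comm hy (conj_mem (h.τN e) hy)
      rw [h5]
      calc τ e * (τ e * y * (τ e)⁻¹ * y) = (τ e * τ e) * y * (τ e)⁻¹ * y := by group
        _ = y * (τ e)⁻¹ * y := by rw [h4, one_mul]
        _ = y * (τ e * y * (τ e)⁻¹) * τ e := by rw [h1]; simp only [mul_assoc, h4, mul_one]
        _ = (τ e * y * (τ e)⁻¹ * y) * τ e := by rw [h5]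
    exact eq_inv_of_mul_eq_one_right h2
  have h1 : (DihedralGroup.sr (0 : ZMod 4) * DihedralGroup.sr 1) = 1 := by
    apply h.eq_one_of_cent
    intro y hy
    rw [map_mul, ← mul_inv_eq_iff_eq_mul]
    have h2 := hinv (DihedralGroup.sr 1) (by decide) (by decide) y hy
    have h3 := hinv (DihedralGroup.sr 0) (by decide) (by decide) y⁻¹ (inv_mem hy)
    calc τ (DihedralGroup.sr 0) * τ (DihedralGroup.sr 1) * y * (τ (DihedralGroup.sr 0) * τ (DihedralGroup.sr 1))⁻¹
        = τ (DihedralGroup.sr 0) * (τ (DihedralGroup.sr 1) * y * (τ (DihedralGroup.sr 1))⁻¹) *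
          (τ (DihedralGroup.sr 0))⁻¹ := by group
      _ = y := by rw [h2, h3, inv_inv]
  revert h1
  decide

/-- **the centralizers of the nonidentity elements of `S` have order `18`** -/
theorem card_centralizer (h : Ctx S τ π) {x : G} (hx : x ∈ S) (hx1 : x ≠ 1) :
    Nat.card (centralizer ({x} : Set G)) = 18 := by
  have := h.finiteS
  obtain ⟨d, hd1, hd⟩ := h.exists_comm hx hx1
  have hS : (S : Set G).ncard = 9 := by rw [← h.card]; rfl
  have h1 : ((centralizer ({x} : Set G) : Subgroup G) : Set G) = (S : Set G) ∪ (fun s => s * τ d) '' (S : Set G) := by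
    ext g
    constructor
    · intro hg
      obtain ⟨s, hs, e, rfl⟩ := h.decomp (h.cle x hx hx1 hg)
      have hg' : s * τ e * x = x * (s * τ e) := mem_centralizer_singleton_iff.1 hg
      have h2 : τ e * x = x * τ e := by
        rw [← mul_assoc, h.comm hx hs, mul_assoc, mul_assoc, mul_right_inj] at hg'
        exact hg'
      by_cases he : e = 1
      · left
        rw [he, map_one, mul_one]
        exact hs
      · right
        exact ⟨s, hs, by rw [h.eq_of_comm hx hx1 hd h2 hd1 he]⟩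
    · rintro (hg | ⟨s, hs, rfl⟩)
      · exact mem_centralizer_singleton_iff.2 (h.comm hg hx)
      · refine mem_centralizer_singleton_iff.2 ?_
        change s * τ d * x = x * (s * τ d)
        rw [mul_assoc, hd, ← mul_assoc, h.comm hs hx, mul_assoc]
  have h2 : Disjoint (S : Set G) ((fun s => s * τ d) '' (S : Set G)) := by
    rw [Set.disjoint_left]
    rintro _ hg ⟨s, hs, rfl⟩
    apply hd1
    apply h.τ_mem
    have : τ d = s⁻¹ * (s * τ d) := by group
    rw [this]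
    exact mul_mem (inv_mem hs) hg
  have hf : (S : Set G).Finite := Set.toFinite _
  have h3 : ((centralizer ({x} : Set G) : Subgroup G) : Set G).ncard = 18 := by
    rw [h1, Set.ncard_union_eq h2 hf (hf.image _), Set.ncard_image_of_injective _ (mul_left_injective _), hS]
  rw [← h3]
  rfl

theorem card_normalizer (h : Ctx S τ π) : Nat.card (normalizer (S : Set G)) = 72 := by
  have := h.finiteS
  let f : S × DihedralGroup 4 → normalizer (S : Set G) := fun p => ⟨p.1 * τ p.2, mul_mem (le_normalizer p.1.2) (h.τN _)⟩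
  have hf : Function.Bijective f := by
    constructor
    · rintro ⟨a, d⟩ ⟨b, e⟩ hab
      have h1 : (a : G) * τ d = b * τ e := congrArg Subtype.val hab
      have h2 : τ (d * e⁻¹) ∈ S := by
        have : τ (d * e⁻¹) = (a : G)⁻¹ * b := by
          rw [map_mul, map_inv, mul_inv_eq_iff_eq_mul, mul_assoc, ← h1, inv_mul_cancel_left]
        rw [this]
        exact mul_mem (inv_mem a.2) b.2
      have h3 : d = e := mul_inv_eq_one.1 (h.τ_mem h2)
      subst h3
      rw [mul_left_inj] at h1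
      exact Prod.ext (Subtype.ext h1) rfl
    · rintro ⟨n, hn⟩
      obtain ⟨s, hs, d, hd⟩ := h.decomp hn
      exact ⟨(⟨s, hs⟩, d), Subtype.ext hd.symm⟩
  rw [← Nat.card_congr (Equiv.ofBijective f hf), Nat.card_prod, h.card, DihedralGroup.nat_card]

/-- elements of three-power order of the normalizer lie in `S` -/
theorem mem_of_pow (h : Ctx S τ π) {n : G} (hn : n ∈ normalizer (S : Set G)) {k : ℕ} (hk : n ^ 3 ^ k = 1) :
    n ∈ S := by
  have h1 : π ⟨n, hn⟩ ^ 3 ^ k = 1 := by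
    rw [← map_pow]
    have : (⟨n, hn⟩ : normalizer (S : Set G)) ^ 3 ^ k = 1 := Subtype.ext hk
    rw [this, map_one]
  have h2 : orderOf (π ⟨n, hn⟩) ∣ 3 ^ k := orderOf_dvd_of_pow_eq_one h1
  have h3 : orderOf (π ⟨n, hn⟩) ∣ 4 := orderOf_dvd_of_pow_eq_one (pow_four _)
  have h4 : orderOf (π ⟨n, hn⟩) = 1 := by
    have hc : Nat.Coprime (3 ^ k) 4 := Nat.Coprime.pow_left k (by norm_num)
    exact Nat.eq_one_of_dvd_coprimes hc h2 h3
  exact (h.ker ⟨n, hn⟩).1 (orderOf_eq_one_iff.1 h4)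

/-- **`S` is a TI-subgroup** -/
theorem mem_normalizer_of_conj (h : Ctx S τ π) {x g : G} (hx : x ∈ S) (hx1 : x ≠ 1)
    (hg : g * x * g⁻¹ ∈ S) : g ∈ normalizer (S : Set G) := by
  have := h.finiteS
  have hg1 : g * x * g⁻¹ ≠ 1 := fun h1 => hx1 (by rwa [mul_inv_eq_one, mul_eq_left] at h1)
  have h1 : ∀ s ∈ S, g * s * g⁻¹ ∈ S := by
    intro s hs
    have h2 : g * s * g⁻¹ ∈ normalizer (S : Set G) := by
      apply h.cle _ hg hg1
      rw [mem_centralizer_singleton_iff]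
      calc g * s * g⁻¹ * (g * x * g⁻¹) = g * (s * x) * g⁻¹ := by group
        _ = g * x * g⁻¹ * (g * s * g⁻¹) := by rw [h.comm hs hx]; group
    exact h.mem_of_pow h2 (k := 1) (by rw [conj_pow, pow_one, h.cube hs, mul_one, mul_inv_cancel])
  have h2 : S.map (MulAut.conj g).toMonoidHom = S := by
    have h3 : S.map (MulAut.conj g).toMonoidHom ≤ S := by
      rintro _ ⟨s, hs, rfl⟩
      exact h1 s hs
    refine Subgroup.eq_of_le_of_card_ge h3 ?_
    rw [Subgroup.card_map_of_injective (MulAut.conj g).injective]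
  rw [mem_normalizer_iff]
  intro s
  refine ⟨h1 s, fun hs => ?_⟩
  rw [← h2] at hs
  obtain ⟨s', hs', hs''⟩ := hs
  have h3 : g * s' * g⁻¹ = g * s * g⁻¹ := hs''
  have h4 : s' = s := by
    rwa [mul_left_inj, mul_right_inj] at h3
  rw [← h4]
  exact hs'

/-- `S` normalizes no nontrivial `3'`-subgroup -/
theorem eq_bot_of_coprime [Finite G] (h : Ctx S τ π) {M : Subgroup G} (hM : ¬ 3 ∣ Nat.card M)
    (hSM : S ≤ normalizer (M : Set G)) : M = ⊥ := by
  have : Fact (Nat.Prime 3) := ⟨Nat.prime_three⟩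
  have hne : S ≠ ⊥ := by
    intro h1
    have h2 := h.card
    rw [h1, Subgroup.card_bot] at h2
    omega
  have hA : Cfsg.IsElementaryAbelian 3 S :=
    ⟨⟨⟨fun a b => Subtype.ext (h.comm a.2 b.2)⟩⟩, fun a ha => h.cube ha⟩
  have hdis : ∀ m ∈ M, m ∈ S → m = 1 := by
    intro m hm hmS
    have h1 : orderOf m ∣ 3 := orderOf_dvd_of_pow_eq_one (h.cube hmS)
    rcases (Nat.dvd_prime Nat.prime_three).1 h1 with h2 | h2
    · exact orderOf_eq_one_iff.1 h2
    · exfalso
      apply hM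
      rw [← h2, ← Subgroup.orderOf_mk m hm]
      exact orderOf_dvd_natCard _
  have h1 := Cfsg.Agent.Lib.CoprimeHyperplane.iSup_centralizer_hyperplane hA hne hM hSM
  rw [← h1, iSup_eq_bot]
  rintro ⟨B, hBS, hB⟩
  rw [eq_bot_iff]
  intro m hm
  obtain ⟨hmM, hmB⟩ := mem_inf.1 hm
  -- `B` is not trivial
  obtain ⟨b, hb, hb1⟩ : ∃ b ∈ B, b ≠ 1 := by
    by_contra hcon
    push Not at hcon
    have h2 : B = ⊥ := (eq_bot_iff_forall B).2 hcon
    rw [h2, relIndex_bot_left, h.card] at hB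
    omega
  have h2 : m ∈ normalizer (S : Set G) := by
    apply h.cle b (hBS hb) hb1
    rw [mem_centralizer_singleton_iff]
    exact (mem_centralizer_iff.1 hmB b hb).symm
  have h3 : m ∈ centralizer (S : Set G) := by
    rw [mem_centralizer_iff]
    intro s hs
    have h4 : m * s * m⁻¹ * s⁻¹ ∈ S := mul_mem (conj_mem h2 hs) (inv_mem hs)
    have h5 : m * s * m⁻¹ * s⁻¹ ∈ M := by
      have h6 : s * m⁻¹ * s⁻¹ ∈ M := (mem_normalizer_iff.1 (hSM hs) _).1 (inv_mem hmM)
      have h7 : m * s * m⁻¹ * s⁻¹ = m * (s * m⁻¹ * s⁻¹) := by group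
      rw [h7]
      exact mul_mem hmM h6
    have h6 := hdis _ h5 h4
    rw [mul_inv_eq_one, mul_inv_eq_iff_eq_mul] at h6
    exact h6.symm
  rw [h.cent] at h3
  exact mem_bot.2 (hdis m hmM h3)

/-- two elements of `S` that are not conjugate in `G` -/
theorem exists_not_conj (h : Ctx S τ π) {x : G} (hx : x ∈ S) (hx1 : x ≠ 1) :
    ∃ y ∈ S, y ≠ 1 ∧ ∀ g : G, g * x * g⁻¹ ≠ y := by
  have := h.finiteS
  by_contra hne
  push Not at hne
  obtain ⟨d, hd1, hd⟩ := h.exists_comm hx hx1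
  -- the conjugates of `x` are given by the complement
  have h1 : ∀ y ∈ S, y ≠ 1 → ∃ e, y = τ e * x * (τ e)⁻¹ := by
    intro y hy hy1
    obtain ⟨g, rfl⟩ := hne y hy hy1
    obtain ⟨s, hs, e, rfl⟩ := h.decomp (h.mem_normalizer_of_conj hx hx1 hy)
    refine ⟨e, ?_⟩
    have h2 : s * τ e * x * (s * τ e)⁻¹ = s * (τ e * x * (τ e)⁻¹) * s⁻¹ := by group
    rw [h2, h.comm hs (conj_mem (h.τN e) hx), mul_inv_cancel_right]
  let T := {y : S // y ≠ 1}
  have hT : Nat.card T = 8 := by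
    have h1 : Nat.card T + 1 = Nat.card S := card_ne_one
    rw [h.card] at h1
    omega
  let f : DihedralGroup 4 → T := fun d => ⟨⟨τ d * x * (τ d)⁻¹, conj_mem (h.τN d) hx⟩, fun h1 => by
    apply hx1
    have h2 : τ d * x * (τ d)⁻¹ = 1 := congrArg Subtype.val h1
    rwa [mul_inv_eq_one, mul_eq_left] at h2⟩
  have hsurj : Function.Surjective f := by
    rintro ⟨⟨y, hy⟩, hy1⟩
    obtain ⟨e, he⟩ := h1 y hy (fun h2 => hy1 (Subtype.ext h2))
    exact ⟨e, Subtype.ext (Subtype.ext he.symm)⟩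
  have hbij : Function.Bijective f := (Nat.bijective_iff_surjective_and_card f).2
    ⟨hsurj, by rw [hT, DihedralGroup.nat_card]⟩
  apply hd1
  apply hbij.1
  refine Subtype.ext (Subtype.ext ?_)
  change τ d * x * (τ d)⁻¹ = τ 1 * x * (τ 1)⁻¹
  rw [hd, map_one, mul_inv_cancel_right, one_mul, inv_one, mul_one]

/-- the centre of the complement inverts `S` -/
theorem inv_of_center (h : Ctx S τ π) {s : G} (hs : s ∈ S) :
    τ (DihedralGroup.r 2) * s * (τ (DihedralGroup.r 2))⁻¹ = s⁻¹ := by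
  set z : DihedralGroup 4 := DihedralGroup.r 2 with hz
  have hzz : z * z = 1 := by decide
  have hzc : ∀ d : DihedralGroup 4, z * d = d * z := by decide
  have hz1 : z ≠ 1 := by decide
  have hτ : τ z * τ z = 1 := by rw [← map_mul, hzz, map_one]
  have h1 : (τ z)⁻¹ = τ z := inv_eq_of_mul_eq_one_left hτ
  -- no fixed points
  have hfree : ∀ y ∈ S, τ z * y = y * τ z → y = 1 := by
    intro y hy hyz
    by_contra hy1
    -- the fixed points are normalized by the complement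
    have hall : ∀ d, τ z * (τ d * y * (τ d)⁻¹) = (τ d * y * (τ d)⁻¹) * τ z := by
      intro d
      have h2 : τ z * τ d = τ d * τ z := by rw [← map_mul, hzc, map_mul]
      have h3 : τ z * (τ d)⁻¹ = (τ d)⁻¹ * τ z := by
        rw [← map_inv, ← map_mul, hzc, map_mul]
      calc τ z * (τ d * y * (τ d)⁻¹) = (τ z * τ d) * y * (τ d)⁻¹ := by group
        _ = τ d * (τ z * y) * (τ d)⁻¹ := by rw [h2]; group
        _ = τ d * y * (τ z * (τ d)⁻¹) := by rw [hyz]; group
        _ = (τ d * y * (τ d)⁻¹) * τ z := by rw [h3]; group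
    -- a conjugate outside `⟨y⟩`
    obtain ⟨d, hd⟩ : ∃ d, τ d * y * (τ d)⁻¹ ∉ zpowers y := by
      by_contra hcon
      push Not at hcon
      exact h.irred hy hy1 hcon
    apply hz1
    apply h.eq_one_of_cent
    intro s hs
    obtain ⟨i, -, j, -, rfl⟩ := h.coords hy hy1 (conj_mem (h.τN d) hy) hd hs
    have h2 : Commute (τ z) y := hyz
    have h3 : Commute (τ z) (τ d * y * (τ d)⁻¹) := hall d
    exact (h2.pow_right i).mul_right (h3.pow_right j)
  have h2 : s * (τ z * s * (τ z)⁻¹) = 1 := by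
    apply hfree _ (mul_mem hs (conj_mem (h.τN z) hs))
    have h5 := h.comm hs (conj_mem (h.τN z) hs)
    rw [h5]
    calc τ z * (τ z * s * (τ z)⁻¹ * s) = (τ z * τ z) * s * (τ z)⁻¹ * s := by group
      _ = s * (τ z)⁻¹ * s := by rw [hτ, one_mul]
      _ = s * (τ z * s * (τ z)⁻¹) * τ z := by rw [h1]; simp only [mul_assoc, hτ, mul_one]
      _ = (τ z * s * (τ z)⁻¹ * s) * τ z := by rw [h5]
  exact eq_inv_of_mul_eq_one_right h2

theorem dec_fuse : ∀ d e f : DihedralGroup 4, d ≠ 1 → d ≠ DihedralGroup.r 2 →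
    (e = 1 ∨ e = DihedralGroup.r 2 ∨ e = d ∨ e = DihedralGroup.r 2 * d) ∨
    (f = 1 ∨ f = DihedralGroup.r 2 ∨ f = d ∨ f = DihedralGroup.r 2 * d) ∨
    (f = e ∨ f = DihedralGroup.r 2 * e ∨ f = e * d ∨ f = DihedralGroup.r 2 * e * d) := by
  decide

/-- `a`, `b`, `ab` are not all conjugate -/
theorem no_fuse (h : Ctx S τ π) {a b g k : G} (ha : a ∈ S) (ha1 : a ≠ 1) (hb : b ∈ S) (hba : b ∉ zpowers a)
    (hg : g * a * g⁻¹ = b) (hk : k * a * k⁻¹ = a * b) : False := by
  obtain ⟨d, hd1, hd⟩ := h.exists_comm ha ha1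
  have hconj : ∀ {c m : G}, c ∈ S → m * a * m⁻¹ = c → ∃ e, τ e * a * (τ e)⁻¹ = c := by
    intro c m hc hm
    obtain ⟨s, hs, e, rfl⟩ := h.decomp (h.mem_normalizer_of_conj ha ha1 (hm.symm ▸ hc))
    refine ⟨e, ?_⟩
    have h2 : s * τ e * a * (s * τ e)⁻¹ = s * (τ e * a * (τ e)⁻¹) * s⁻¹ := by group
    rw [h2, h.comm hs (conj_mem (h.τN e) ha), mul_inv_cancel_right] at hm
    exact hm
  obtain ⟨e, he⟩ := hconj hb hg
  obtain ⟨f, hf⟩ := hconj (mul_mem ha hb) hk
  have hz : ∀ {x : DihedralGroup 4} {c : G}, c ∈ S → τ x * a * (τ x)⁻¹ = c →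
      τ (DihedralGroup.r 2 * x) * a * (τ (DihedralGroup.r 2 * x))⁻¹ = c⁻¹ := by
    intro x c hc hx
    rw [map_mul]
    calc τ (DihedralGroup.r 2) * τ x * a * (τ (DihedralGroup.r 2) * τ x)⁻¹ =
        τ (DihedralGroup.r 2) * (τ x * a * (τ x)⁻¹) * (τ (DihedralGroup.r 2))⁻¹ := by group
      _ = c⁻¹ := by rw [hx, h.inv_of_center hc]
  have hdd : ∀ {x : DihedralGroup 4} {c : G}, τ x * a * (τ x)⁻¹ = c → τ (x * d) * a * (τ (x * d))⁻¹ = c := by
    intro x c hx
    rw [map_mul]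
    calc τ x * τ d * a * (τ x * τ d)⁻¹ = τ x * (τ d * a) * (τ d)⁻¹ * (τ x)⁻¹ := by group
      _ = τ x * a * (τ x)⁻¹ := by rw [hd]; group
      _ = c := hx
  have h1 : τ 1 * a * (τ 1)⁻¹ = a := by rw [map_one, one_mul, inv_one, mul_one]
  have hdz : d ≠ DihedralGroup.r 2 := by
    rintro rfl
    have h2 := h.inv_of_center ha
    rw [hd, mul_inv_cancel_right] at h2
    apply ha1
    have h3 := h.cube ha
    have h4 : a * a = 1 := by nth_rewrite 2 [h2]; exact mul_inv_cancel a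
    rw [pow_succ, pow_two, h4, one_mul] at h3
    exact h3
  have key : ∀ {x : DihedralGroup 4} {c : G}, c ∈ S → τ x * a * (τ x)⁻¹ = c →
      (x = 1 ∨ x = DihedralGroup.r 2 ∨ x = d ∨ x = DihedralGroup.r 2 * d) → c = a ∨ c = a⁻¹ := by
    rintro x c hc hx (rfl | rfl | rfl | rfl)
    · left; rw [← hx, h1]
    · right; rw [← hx, h.inv_of_center ha]
    · left
      have := hdd h1
      rw [one_mul] at this
      rw [← hx, this]
    · right
      have h2 := hdd h1
      rw [one_mul] at h2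
      rw [← hx, hz ha h2]
  rcases dec_fuse d e f hd1 hdz with h2 | h2 | h2
  · rcases key hb he h2 with h3 | h3
    · exact hba (h3 ▸ mem_zpowers a)
    · exact hba (h3 ▸ inv_mem (mem_zpowers a))
  · rcases key (mul_mem ha hb) hf h2 with h3 | h3
    · rw [mul_eq_left] at h3
      exact hba (h3 ▸ one_mem _)
    · have h4 : b = a⁻¹ * a⁻¹ := eq_inv_mul_of_mul_eq h3
      exact hba (h4 ▸ mul_mem (inv_mem (mem_zpowers a)) (inv_mem (mem_zpowers a)))
  · have h3 : a * b = b ∨ a * b = b⁻¹ := by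
      rcases h2 with rfl | rfl | rfl | rfl
      · left; rw [← hf, he]
      · right; rw [← hf, hz hb he]
      · left; rw [← hf, hdd he]
      · right; rw [← hf, hdd (hz hb he)]
    rcases h3 with h3 | h3
    · exact ha1 (mul_eq_right.1 h3)
    · -- `a = b⁻² = b`
      have h4 : a = b⁻¹ * b⁻¹ := eq_mul_inv_of_mul_eq h3
      have h5 : b⁻¹ * b⁻¹ = b := by
        have h6 := h.cube hb
        rw [pow_succ, pow_two] at h6
        have h7 : b * b = b⁻¹ := eq_inv_of_mul_eq_one_left h6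
        have h8 : b⁻¹ * b⁻¹ = (b * b)⁻¹ := (mul_inv_rev b b).symm
        rw [h8, h7, inv_inv]
      rw [h5] at h4
      exact hba (h4 ▸ mem_zpowers a)

end Ctx

end Cfsg.Agent.H342.S6Loc
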