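import Mathlib

/-!
# The elements of order 3 of `PSL₂(q)`, `3 ∤ q`, are conjugate
-/

set_option autoImplicit false

namespace Cfsg.Agent.H342.SLTwoThree

open Matrix

variable {F : Type*} [Field F]

/-- the form `s² - s t + t²` is universal over a finite field of characteristic not `3` -/
theorem universal [Finite F] (h3 : (3 : F) ≠ 0) (d : F) : ∃ s t : F, s ^ 2 - s * t + t ^ 2 = d := by
  classical
  cases nonempty_fintype F
  by_cases h2 : ringChar F = 2
  · obtain ⟨a, ha⟩ := FiniteField.isSquare_of_char_two h2 d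
    exact ⟨a, 0, by rw [ha]; ring⟩
  · have hodd : Fintype.card F % 2 = 1 := FiniteField.odd_card_of_char_ne_two h2
    have h2' : (2 : F) ≠ 0 := Ring.two_ne_zero h2
    have hf : (Polynomial.X ^ 2 : Polynomial F).degree = 2 := Polynomial.degree_X_pow 2
    have hc : (3 / 4 : F) ≠ 0 := by
      have h4 : (4 : F) ≠ 0 := by
        have : (4 : F) = 2 * 2 := by norm_num
        rw [this]
        exact mul_ne_zero h2' h2'
      exact div_ne_zero h3 h4
    have hg : (Polynomial.C (3 / 4 : F) * Polynomial.X ^ 2 + Polynomial.C 0 * Polynomial.X + Polynomial.C (-d)).degree = 2 :=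
      Polynomial.degree_quadratic hc
    obtain ⟨a, b, hab⟩ := FiniteField.exists_root_sum_quadratic hf hg hodd
    simp only [Polynomial.eval_pow, Polynomial.eval_X, Polynomial.eval_add, Polynomial.eval_mul, Polynomial.eval_C,
      zero_mul, add_zero] at hab
    refine ⟨a + b / 2, b, ?_⟩
    have h4 : (2 : F) * 2 ≠ 0 := mul_ne_zero h2' h2'
    have : (a + b / 2) ^ 2 - (a + b / 2) * b + b ^ 2 = a ^ 2 + 3 / 4 * b ^ 2 := by
      have h4' : (4 : F) ≠ 0 := by
        have : (4 : F) = 2 * 2 := by norm_num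
        rw [this]; exact h4
      field_simp
      ring
    rw [this]
    linear_combination hab

/-- the companion matrix -/
def comp (F : Type*) [Field F] : SpecialLinearGroup (Fin 2) F := ⟨!![0, -1; 1, -1], by simp [Matrix.det_fin_two]⟩

theorem isConj_comp [Finite F] (h3 : (3 : F) ≠ 0) (x : SpecialLinearGroup (Fin 2) F) (hx : x ^ 3 = 1) (hx1 : x ≠ 1) :
    ∃ g : SpecialLinearGroup (Fin 2) F, x * g = g * comp F := by
  obtain ⟨M, hM, hxM⟩ : ∃ M : Matrix (Fin 2) (Fin 2) F, M.det = 1 ∧ (x : Matrix (Fin 2) (Fin 2) F) = M :=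
    ⟨x, x.2, rfl⟩
  set a := M 0 0 with ha
  set b := M 0 1 with hb
  set c := M 1 0 with hc
  set d := M 1 1 with hd
  have hMe : M = !![a, b; c, d] := by
    ext i j
    fin_cases i <;> fin_cases j <;> simp [ha, hb, hc, hd]
  have hdet : a * d - b * c = 1 := by
    rw [← hM, hMe, Matrix.det_fin_two_of]
  have hcube : M * M * M = 1 := by
    have h1 : ((x ^ 3 : Matrix.SpecialLinearGroup (Fin 2) F) : Matrix (Fin 2) (Fin 2) F) = 1 := by rw [hx]; rfl
    rw [Matrix.SpecialLinearGroup.coe_pow, pow_succ, pow_two, hxM] at h1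
    exact h1
  have hCH : M * M = (a + d) • M - 1 := by
    rw [hMe]
    ext i j
    fin_cases i <;> fin_cases j <;> simp [Matrix.mul_apply, Fin.sum_univ_two] <;>
      first | ring1 | linear_combination (-1 : F) * hdet
  have htr : a + d = -1 := by
    by_contra hne
    have h1 : ((a + d) ^ 2 - 1) • M = (a + d + 1) • (1 : Matrix (Fin 2) (Fin 2) F) := by
      have h2 : M * M * M = ((a + d) ^ 2 - 1) • M - (a + d) • 1 := by
        rw [hCH, sub_mul, smul_mul_assoc, hCH, one_mul, smul_sub, smul_smul, sub_smul, one_smul, pow_two]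
        abel
      rw [hcube] at h2
      rw [add_smul, one_smul]
      nth_rewrite 2 [h2]
      abel
    have hne' : a + d + 1 ≠ 0 := fun h => hne (by linear_combination h)
    have h2 : (a + d - 1) • M = 1 := by
      have h3 : (a + d + 1) • ((a + d - 1) • M) = (a + d + 1) • (1 : Matrix (Fin 2) (Fin 2) F) := by
        rw [smul_smul, ← h1]
        congr 1
        ring
      exact smul_right_injective _ hne' h3
    set r := a + d - 1 with hr
    have hr0 : r ≠ 0 := by
      intro h0
      rw [h0, zero_smul] at h2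
      have := congrFun (congrFun h2 0) 0
      simp at this
    have h4 : M = r⁻¹ • 1 := by
      rw [← h2, smul_smul, inv_mul_cancel₀ hr0, one_smul]
    have h5 : r⁻¹ ^ 2 = 1 := by
      have := hM
      rw [h4, Matrix.det_smul, Matrix.det_one, mul_one, Fintype.card_fin] at this
      exact this
    have h6 : r⁻¹ ^ 3 = 1 := by
      have := hcube
      rw [h4, smul_mul_smul_comm, smul_mul_smul_comm, one_mul, one_mul] at this
      have h7 := congrFun (congrFun this 0) 0
      simp only [Matrix.smul_apply, Matrix.one_apply_eq, smul_eq_mul, mul_one] at h7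
      rw [pow_succ, pow_two]; exact h7
    have h7 : r⁻¹ = 1 := by
      rw [pow_succ, h5, one_mul] at h6
      exact h6
    apply hx1
    apply Subtype.ext
    change (x : Matrix (Fin 2) (Fin 2) F) = 1
    rw [hxM, h4, h7, one_smul]
  -- a matrix conjugating to the companion matrix
  obtain ⟨g, hg0, hg⟩ : ∃ g : Matrix (Fin 2) (Fin 2) F, g.det ≠ 0 ∧ M * g = g * !![0, -1; 1, -1] := by
    have key : ∀ v w : F, (!![v, a * v + b * w; w, c * v + d * w] : Matrix (Fin 2) (Fin 2) F).det ≠ 0 →
        ∃ g : Matrix (Fin 2) (Fin 2) F, g.det ≠ 0 ∧ M * g = g * !![0, -1; 1, -1] := by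
      intro v w h
      refine ⟨_, h, ?_⟩
      rw [hMe]
      ext i j
      fin_cases i <;> fin_cases j <;> simp [Matrix.mul_apply, Fin.sum_univ_two]
      · linear_combination (a * v + b * w) * htr - v * hdet
      · linear_combination (c * v + d * w) * htr - w * hdet
    by_cases hc0 : c = 0
    · by_cases hb0 : b = 0
      · apply key 1 1
        rw [Matrix.det_fin_two_of, hb0, hc0]
        intro h
        apply h3
        have h5 : d - a = 0 := by linear_combination h
        rw [hb0, hc0] at hdet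
        linear_combination (-(d - a)) * h5 + (a + d - 1) * htr - 4 * hdet
      · apply key 0 1
        rw [Matrix.det_fin_two_of]
        intro h
        apply hb0
        linear_combination -h
    · apply key 1 0
      rw [Matrix.det_fin_two_of]
      intro h
      apply hc0
      linear_combination h
  obtain ⟨s, t, hst⟩ := universal h3 (g.det)⁻¹
  have hdh : (!![s, -t; t, s - t] : Matrix (Fin 2) (Fin 2) F).det = (g.det)⁻¹ := by
    rw [Matrix.det_fin_two_of, ← hst]; ring
  refine ⟨⟨g * !![s, -t; t, s - t], by rw [Matrix.det_mul, hdh, mul_inv_cancel₀ hg0]⟩, ?_⟩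
  apply Subtype.ext
  change (x : Matrix (Fin 2) (Fin 2) F) * (g * !![s, -t; t, s - t]) = g * !![s, -t; t, s - t] * !![0, -1; 1, -1]
  rw [hxM]
  rw [← mul_assoc, hg, mul_assoc, mul_assoc]
  congr 1
  ext i j
  fin_cases i <;> fin_cases j <;> simp [Matrix.mul_apply, Fin.sum_univ_two] <;> ring

/-- lifting elements of order three -/
theorem exists_lift (x : ProjectiveSpecialLinearGroup (Fin 2) F) (hx : orderOf x = 3) :
    ∃ y : SpecialLinearGroup (Fin 2) F, (QuotientGroup.mk y : ProjectiveSpecialLinearGroup (Fin 2) F) = x ∧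
      y ^ 3 = 1 ∧ y ≠ 1 := by
  obtain ⟨y, rfl⟩ := QuotientGroup.mk_surjective x
  have h1 : y ^ 3 ∈ Subgroup.center (SpecialLinearGroup (Fin 2) F) := by
    rw [← QuotientGroup.eq_one_iff, QuotientGroup.mk_pow, ← hx, pow_orderOf_eq_one]
  obtain ⟨r, hr, hrs⟩ := Matrix.SpecialLinearGroup.mem_center_iff.1 h1
  rw [Fintype.card_fin] at hr
  have hz2 : y ^ 3 * y ^ 3 = 1 := by
    apply Subtype.ext
    change ((y ^ 3 : SpecialLinearGroup (Fin 2) F) : Matrix (Fin 2) (Fin 2) F) *
      ((y ^ 3 : SpecialLinearGroup (Fin 2) F) : Matrix (Fin 2) (Fin 2) F) = 1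
    rw [← hrs, ← map_mul, ← pow_two, hr, map_one]
  have hcomm : Commute (y ^ 3) y := (Commute.refl y).pow_left 3
  refine ⟨y ^ 3 * y, ?_, ?_, ?_⟩
  · rw [QuotientGroup.mk_mul, (QuotientGroup.eq_one_iff (y ^ 3)).2 h1, one_mul]
  · rw [hcomm.mul_pow]
    have h2 : (y ^ 3) ^ 3 * y ^ 3 = (y ^ 3 * y ^ 3) * (y ^ 3 * y ^ 3) := by group
    rw [h2, hz2, one_mul]
  · intro h
    have h2 : (QuotientGroup.mk y : ProjectiveSpecialLinearGroup (Fin 2) F) = 1 := by
      have h3 := congrArg (QuotientGroup.mk : SpecialLinearGroup (Fin 2) F → ProjectiveSpecialLinearGroup (Fin 2) F) h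
      rw [QuotientGroup.mk_mul, (QuotientGroup.eq_one_iff (y ^ 3)).2 h1, one_mul] at h3
      exact h3
    rw [h2, orderOf_one] at hx
    omega

/-- **the elements of order three of `PSL₂(q)`, `3 ∤ q`, are conjugate** -/
theorem conj_of_order_three [Finite F] (h3 : (3 : F) ≠ 0) (x y : ProjectiveSpecialLinearGroup (Fin 2) F)
    (hx : orderOf x = 3) (hy : orderOf y = 3) : ∃ g, g * x * g⁻¹ = y := by
  obtain ⟨x', rfl, hx3, hx1⟩ := exists_lift x hx
  obtain ⟨y', rfl, hy3, hy1⟩ := exists_lift y hy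
  obtain ⟨g, hg⟩ := isConj_comp h3 x' hx3 hx1
  obtain ⟨k, hk⟩ := isConj_comp h3 y' hy3 hy1
  refine ⟨QuotientGroup.mk (k * g⁻¹), ?_⟩
  rw [← QuotientGroup.mk_inv, ← QuotientGroup.mk_mul, ← QuotientGroup.mk_mul]
  congr 1
  have h1 : x' = g * comp F * g⁻¹ := eq_mul_inv_iff_mul_eq.2 hg
  have h2 : y' = k * comp F * k⁻¹ := eq_mul_inv_iff_mul_eq.2 hk
  rw [h1, h2]
  group

end Cfsg.Agent.H342.SLTwoThree
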