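import Mathlib
import Cfsg.Agent.H342.O8Bad
import Cfsg.Agent.H342.O8Uni
import Cfsg.Agent.H424.SpecPlus

/-!
# The orders of the elements of `Ω⁺₈(q)`, `q` even (helper342)

`ub` : the order of an element divides one of `q³ - 1`, `q³ + 1`, `q⁴ - 1`, `2 (q² + 1)`, `2 (q² - 1)`, `4 (q + 1)`,
`4 (q - 1)`, `8`.
-/

set_option autoImplicit false
set_option linter.unusedSectionVars false

namespace Cfsg.Agent.H342.O8

open Module Cfsg QuadraticMap Cfsg.Agent.H150 Cfsg.Agent.H390 Cfsg.Agent.H390.Lift Cfsg.Agent.H424.SpecPlus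
open Cfsg.Agent.LieClassical.OrthCount Cfsg.Agent.LieClassical.OmegaReindex Cfsg.Agent.LieClassical
open Cfsg.Agent.H160.QRoots hiding Inv
open Cfsg.Agent.H160.QChar Cfsg.Agent.H202.T

/-- lifting with the Dickson invariant -/
theorem lift_ev {F : Type*} [Field F] [Finite F] {ι : Type} [Fintype ι] [DecidableEq ι] (h2 : (2 : F) = 0)
    {Q : QuadraticForm F (ι → F)} (h : Data Q) (hn : 5 ≤ Fintype.card ι) (hev : Even (Fintype.card ι))
    (g : POmega F (⇑Q)) :
    ∃ T : (ι → F) ≃ₗ[F] (ι → F), (∀ v, Q (T v) = Q v) ∧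
      (∀ j : ℕ, (T : (ι → F) →ₗ[F] (ι → F)) ^ j = 1 → orderOf g ∣ j) ∧
      ∀ M : ℕ, Even (finrank F (LinearMap.ker ((T : (ι → F) →ₗ[F] (ι → F)) ^ M - 1))) := by
  have hbot : Subgroup.center (Cfsg.Omega F (⇑Q)) = ⊥ := by
    rw [eq_bot_iff]
    intro g hg
    rw [Subgroup.mem_bot]
    have h1 := (OmegaCenter.mem_center_omega_iff Q h.nd h.dim h.iso g).1 hg
    apply OmegaCenter.omega_ext
    rcases h1 with h1 | h1
    · rw [h1]
      rfl
    · rw [h1]
      have : (-1 : Matrix ι ι F) = 1 := by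
        ext i j
        rw [Matrix.neg_apply]
        have h3 : ∀ a : F, -a = a := fun a => by linear_combination (-a) * h2
        exact h3 _
      rw [this]
      rfl
  obtain ⟨x, rfl⟩ := QuotientGroup.mk'_surjective (Subgroup.center (Cfsg.Omega F (⇑Q))) g
  have hox : orderOf (QuotientGroup.mk' (Subgroup.center (Cfsg.Omega F (⇑Q))) x) =
      orderOf (x : Cfsg.isometryGroup F (⇑Q)) := by
    rw [Subgroup.orderOf_coe]
    apply orderOf_injective
    rw [← MonoidHom.ker_eq_bot_iff, QuotientGroup.ker_mk', hbot]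
  rw [hox]
  set X : Cfsg.isometryGroup F (⇑Q) := x.1 with hX
  have hXc : X ∈ commutator (Cfsg.isometryGroup F (⇑Q)) := x.2
  set Y : OG Q := isometryGroupEquiv Q X with hY
  have hYc : Y ∈ commutator (OG Q) := (mem_commutator_congr (isometryGroupEquiv Q) X).2 hXc
  refine ⟨(Y : (ι → F) ≃ₗ[F] (ι → F)), fun v => Y.2 v, fun j hj => ?_, fun M => ?_⟩
  · rw [orderOf_dvd_iff_pow_eq_one]
    have h1 : Y ^ j = 1 := (og_pow_eq_one_iff Y _ (fun v => rfl) j).2 hj
    rw [hY, ← map_pow] at h1
    exact (MulEquiv.map_eq_one_iff (isometryGroupEquiv Q)).1 h1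
  · refine even_finrank_fix Q h.nd hn hev (Y ^ M) _ ?_ (Subgroup.pow_mem _ hYc M)
    intro v
    induction M generalizing v with
    | zero => rfl
    | succ M ih =>
      rw [pow_succ, pow_succ, Module.End.mul_apply, ← ih]
      rfl

open Classical in
theorem inv0_rts {F : Type*} [Field F] [Fintype F] {V : Type*} [AddCommGroup V] [Module F V] [FiniteDimensional F V]
    {Q : QuadraticForm F V} (hQ : OrthCore.Nondeg Q) {g : V ≃ₗ[F] V} (hg : ∀ v, Q (g v) = Q v) :
    Inv0 (Fintype.card F) (rts (g : V →ₗ[F] V)) where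
  frob := count_frob _
  inv := count_inv hQ hg
  ne0 := by
    rintro x hx rfl
    rw [← map_zero (algebraMap F (AlgebraicClosure F)), mem_rts_iff] at hx
    obtain ⟨v, hv⟩ := hx.exists_hasEigenvector
    have h3 := hv.apply_eq_smul
    rw [zero_smul] at h3
    exact hv.2 (g.map_eq_zero_iff.1 h3)

theorem charTwo_of {F : Type*} [Field F] [Fintype F] {m : ℕ} (hm : 1 ≤ m) (hF : Fintype.card F = 2 ^ m) :
    CharP F 2 := by
  obtain ⟨p, hp⟩ := CharP.exists F
  obtain ⟨n, hpp, hn⟩ := FiniteField.card F p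
  have h1 : p ∣ 2 ^ m := by
    rw [← hF, hn]; exact dvd_pow_self p n.ne_zero
  have h2 := (Nat.prime_dvd_prime_iff_eq hpp Nat.prime_two).1 (hpp.dvd_of_dvd_pow h1)
  rw [← h2]; exact hp

open Classical in
/-- **Upper bound for the spectrum.** -/
theorem ub_lin {F : Type*} [Field F] [Fintype F] [CharP F 2] {V : Type*} [AddCommGroup V] [Module F V] [Finite V]
    [FiniteDimensional F V] {Q : QuadraticForm F V} (hQ : OrthCore.Nondeg Q) (hs : Cfsg.Agent.H377.HasSign (⇑Q) 4 1)
    (hV : finrank F V = 8) (T : V ≃ₗ[F] V) (hT : ∀ v, Q (T v) = Q v)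
    (hD : ∀ M : ℕ, Even (finrank F (LinearMap.ker ((T : V →ₗ[F] V) ^ M - 1)))) :
    (T : V →ₗ[F] V) ^ (Fintype.card F ^ 3 - 1) = 1 ∨ (T : V →ₗ[F] V) ^ (Fintype.card F ^ 3 + 1) = 1 ∨
    (T : V →ₗ[F] V) ^ (Fintype.card F ^ 4 - 1) = 1 ∨ (T : V →ₗ[F] V) ^ (2 * (Fintype.card F ^ 2 + 1)) = 1 ∨
    (T : V →ₗ[F] V) ^ (2 * (Fintype.card F ^ 2 - 1)) = 1 ∨ (T : V →ₗ[F] V) ^ (4 * (Fintype.card F + 1)) = 1 ∨
    (T : V →ₗ[F] V) ^ (4 * (Fintype.card F - 1)) = 1 ∨ (T : V →ₗ[F] V) ^ 8 = 1 := by
  have hp2 : Fact (Nat.Prime 2) := ⟨Nat.prime_two⟩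
  set q := Fintype.card F with hqdef
  have hq0 : 0 < q := Fintype.card_pos
  have hqe : Even q := card_even
  have hq := frob_inj F
  set t : V →ₗ[F] V := (T : V →ₗ[F] V) with ht
  set R := rts t with hR
  have hI0 : Inv0 q R := inv0_rts hQ hT
  set R' := R.filter (fun x => x ≠ x⁻¹) with hR'
  have hI := Inv0.filter hq hq0 hI0
  rw [← hR'] at hI
  have : CharP (AlgebraicClosure F) 2 :=
    charP_of_injective_algebraMap (algebraMap F (AlgebraicClosure F)).injective 2
  have hone : ∀ x ∈ R, x = x⁻¹ → x = 1 := by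
    intro x hx h
    have h0 := hI0.ne0 x hx
    have h1 : x ^ 2 = 1 := by
      rw [pow_two]; nth_rewrite 2 [h]; exact mul_inv_cancel₀ h0
    have h2 : (x - 1) ^ 2 = 0 := by
      have h3 : (x - 1) ^ 2 = x ^ 2 - 1 ^ 2 := sub_pow_char x 1
      rw [h3, h1, one_pow, sub_self]
    exact sub_eq_zero.1 (pow_eq_zero_iff (n := 2) (by norm_num) |>.1 h2)
  have hmem : ∀ x ∈ R, x ≠ 1 → x ∈ R' := fun x hx h1 =>
    Multiset.mem_filter.2 ⟨hx, fun h => h1 (hone x hx h)⟩
  have hcnt : ∀ x, x ∈ R → x ≠ 1 → R'.count x = R.count x := fun x hx h1 =>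
    Multiset.count_filter_of_pos (p := fun x => x ≠ x⁻¹) (fun h => h1 (hone x hx h))
  have hsum : R'.card + R.count 1 = 8 := by
    have h1 := congrArg Multiset.card (Multiset.filter_add_not (fun x => x ≠ x⁻¹) R)
    rw [Multiset.card_add, card_rts, hV] at h1
    rw [← h1, ← hR', Multiset.count_eq_card_filter_eq]
    congr 2
    apply Multiset.filter_congr
    intro x hx
    constructor
    · rintro rfl
      rw [inv_one]
      exact fun h => h rfl
    · intro h
      exact (hone x hx (not_not.1 h)).symm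
  have hev := even_card hq hq0 _ _ rfl hI
  -- transfer of bounds
  have hbd : ∀ {M M' N : ℕ}, Bd R' M N → M ≤ M' → R.count 1 ≤ M' → Bd R M' N := by
    intro M M' N h hM h1
    constructor
    · intro x
      by_cases hx : x ∈ R
      · by_cases hx1 : x = 1
        · rw [hx1]; exact h1
        · rw [← hcnt x hx hx1]
          exact (h.cnt x).trans hM
      · rw [Multiset.count_eq_zero_of_notMem hx]
        exact Nat.zero_le _
    · intro x hx
      by_cases hx1 : x = 1
      · rw [hx1, one_pow]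
      · exact h.ex x (hmem x hx hx1)
  have hsimple : ∀ {N : ℕ}, Bd R' 1 N → ∀ x ∈ R, x ≠ 1 → x ^ N = 1 ∧ R.count x ≤ 1 := by
    intro N h x hx hx1
    exact ⟨h.ex x (hmem x hx hx1), by rw [← hcnt x hx hx1]; exact h.cnt x⟩
  have o1 : ∀ n : ℕ, 1 ≤ n → Odd (q ^ n + 1) := fun n hn => Even.add_one (hqe.pow_of_ne_zero (by omega))
  have o2 : ∀ n : ℕ, 1 ≤ n → Odd (q ^ n - 1) := fun n hn =>
    Nat.Even.sub_odd (Nat.one_le_pow _ _ hq0) (hqe.pow_of_ne_zero (by omega)) odd_one
  have o3 : Odd (q + 1) := by simpa using o1 1 le_rfl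
  have o4 : Odd (q - 1) := by simpa using o2 1 le_rfl
  have p4 : ∀ {N : ℕ}, Bd R 4 N → t ^ (4 * N) = 1 := by
    intro N h
    have := pow_eq_one_of_bd (p := 2) (c := 2) h (by norm_num)
    rw [mul_comm]; exact this
  have p2 : ∀ {N : ℕ}, Bd R 2 N → t ^ (2 * N) = 1 := by
    intro N h
    have := pow_eq_one_of_bd (p := 2) (c := 1) h (by norm_num)
    rw [mul_comm]; exact this
  have p1 : ∀ {N : ℕ}, Bd R 1 N → t ^ N = 1 := by
    intro N h
    have := pow_eq_one_of_bd (p := 2) (c := 0) h (by norm_num)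
    rw [pow_zero, mul_one] at this; exact this
  have huni : ∀ {N : ℕ}, Odd N → Bd R' 1 N → (R.count 1 ≤ 6 → t ^ (4 * N) = 1) ∧ (R.count 1 ≤ 4 → t ^ (2 * N) = 1) ∧
      (R.count 1 ≤ 2 → t ^ N = 1) := fun hN h => uni hV hN (hsimple h) hD
  obtain ⟨k, hk⟩ := hev
  rcases (by omega : R'.card = 0 ∨ R'.card = 2 ∨ R'.card = 4 ∨ R'.card = 6 ∨ R'.card = 8) with hc | hc | hc | hc | hc
  · -- unipotent
    have h0 := Multiset.card_eq_zero.1 hc
    have hb : Bd R 8 1 := by
      constructor
      · intro x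
        calc R.count x ≤ R.card := Multiset.count_le_card _ _
          _ = 8 := by rw [hR, card_rts, hV]
      · intro x hx
        by_contra hx1
        rw [pow_one] at hx1
        have := hmem x hx hx1
        rw [h0] at this
        exact Multiset.notMem_zero x this
    have := pow_eq_one_of_bd (p := 2) (c := 3) hb (by norm_num)
    norm_num at this
    right; right; right; right; right; right; right
    exact this
  · rcases one hq hq0 hI hc with h | h
    · right; right; right; right; right; right; left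
      exact (huni o4 h).1 (by omega)
    · right; right; right; right; right; left
      exact (huni o3 h).1 (by omega)
  · rcases enum4 hq hq0 hI hc with h | h | h | h
    · right; right; right; left
      exact (huni (o1 2 (by norm_num)) h).2.1 (by omega)
    · right; right; right; right; left
      exact (huni (o2 2 (by norm_num)) h).2.1 (by omega)
    · right; right; right; right; right; right; left
      exact p4 (hbd h (by norm_num) (by omega))
    · right; right; right; right; right; left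
      exact p4 (hbd h (by norm_num) (by omega))
  · rcases enum6 hq hq0 hI hc with h | h | h | h | h | h
    · left
      exact (huni (o2 3 (by norm_num)) h).2.2 (by omega)
    · right; left
      exact (huni (o1 3 (by norm_num)) h).2.2 (by omega)
    · right; right; left
      exact (huni (o2 4 (by norm_num)) h).2.2 (by omega)
    · right; right; right; right; left
      exact p2 (hbd h (by norm_num) (by omega))
    · right; right; right; right; right; right; left
      exact p4 (hbd h (by norm_num) (by omega))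
    · right; right; right; right; right; left
      exact p4 (hbd h (by norm_num) (by omega))
  · have hc0 : R.count 1 = 0 := by omega
    have hRR : R' = R := by
      rw [hR', Multiset.filter_eq_self]
      intro x hx h
      have h1 := hone x hx h
      rw [h1] at hx
      have := Multiset.one_le_count_iff_mem.2 hx
      omega
    rcases enum8 hq hq0 hI hc with h | h | h | h | h | h | h | ⟨μ, h1, h2, h3⟩ | ⟨μ, ν, a, b, hab, ha, hb, h⟩
    · left
      exact p1 (hbd h (by norm_num) (by omega))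
    · right; left
      exact p1 (hbd h (by norm_num) (by omega))
    · right; right; left
      exact p1 (hbd h (by norm_num) (by omega))
    · right; right; right; left
      exact p2 (hbd h (by norm_num) (by omega))
    · right; right; right; right; left
      exact p2 (hbd h (by norm_num) (by omega))
    · right; right; right; right; right; right; left
      exact p4 (hbd h (by norm_num) (by omega))
    · right; right; right; right; right; left
      exact p4 (hbd h (by norm_num) (by omega))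
    · exfalso
      rw [hRR] at h2
      exact no_bad4 hQ hs hV hT h1 h2 h3
    · exfalso
      rw [hRR] at h
      exact no_bad hQ hs hV hT hab ha hb h

/-- **The orders of the elements of `Ω⁺₈(q)`, `q` even.** -/
theorem ub (F : Type*) [Field F] [Fintype F] {m : ℕ} (hm : 2 ≤ m) (hF : Fintype.card F = 2 ^ m)
    (g : Cfsg.POmega F (Cfsg.quadFormPlus 4 F)) :
    orderOf g ∣ Fintype.card F ^ 3 - 1 ∨ orderOf g ∣ Fintype.card F ^ 3 + 1 ∨
    orderOf g ∣ Fintype.card F ^ 4 - 1 ∨ orderOf g ∣ 2 * (Fintype.card F ^ 2 + 1) ∨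
    orderOf g ∣ 2 * (Fintype.card F ^ 2 - 1) ∨ orderOf g ∣ 4 * (Fintype.card F + 1) ∨
    orderOf g ∣ 4 * (Fintype.card F - 1) ∨ orderOf g ∣ 8 := by
  have hch : CharP F 2 := charTwo_of (by omega) hF
  have h2 : (2 : F) = 0 := by
    have := CharP.cast_eq_zero F 2
    push_cast at this
    exact this
  have hs : Cfsg.Agent.H377.HasSign (⇑(quadPlus 4 F)) 4 1 := by
    rw [coe_quadPlus]
    exact Cfsg.Agent.H377.hasSign_quadFormPlus 4
  revert g
  rw [← coe_quadPlus]
  intro g
  have hd : Data (quadPlus 4 F) := data_plus (by norm_num)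
  have hc : Fintype.card (Fin 4 ⊕ Fin 4) = 8 := by rw [Fintype.card_sum, Fintype.card_fin]
  obtain ⟨T, hT, hj, hD⟩ := lift_ev h2 hd (by rw [hc]; norm_num) (by rw [hc]; decide) g
  have hQ : OrthCore.Nondeg (quadPlus 4 F) := OrthCore.nondeg_of_nondegenerate hd.nd
  rcases ub_lin hQ hs finrank_eight T hT hD with h | h | h | h | h | h | h | h
  · exact Or.inl (hj _ h)
  · exact Or.inr (Or.inl (hj _ h))
  · exact Or.inr (Or.inr (Or.inl (hj _ h)))
  · exact Or.inr (Or.inr (Or.inr (Or.inl (hj _ h))))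
  · exact Or.inr (Or.inr (Or.inr (Or.inr (Or.inl (hj _ h)))))
  · exact Or.inr (Or.inr (Or.inr (Or.inr (Or.inr (Or.inl (hj _ h))))))
  · exact Or.inr (Or.inr (Or.inr (Or.inr (Or.inr (Or.inr (Or.inl (hj _ h)))))))
  · exact Or.inr (Or.inr (Or.inr (Or.inr (Or.inr (Or.inr (Or.inr (hj _ h)))))))

end Cfsg.Agent.H342.O8
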